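import Mathlib
import Cfsg.Agent.Helper6.Chev.UProdMain
import Cfsg.Agent.Helper6.Chev.TablesBN

set_option autoImplicit false
set_option linter.unusedSectionVars false
set_option linter.unusedVariables false

/-!
Existence and uniqueness of the ordered product expression in the subgroups
`U_k = ⟨X_r : k ≤ r⟩` of `U`, for a tabulated datum, and the normality of `U_{k+1}` in `U_k`.
-/

namespace Cfsg.Agent.Helper6.Ree

open Cfsg.Lie Cfsg.Agent.Helper6

variable {D : ChevalleyDatum} {F : Type*} [Field F]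

theorem neg_lt_half_of_tabulated (hD : IsTabulated D) :
    ∀ r < D.nroots, D.nroots / 2 ≤ r → D.neg r < D.nroots / 2 := by
  have hF := fastOK_of_tabulated hD
  have hO := ordOK_of_tabulated hD
  intro r hr hN
  have e : D.neg r = negF D r := by rw [negF_eq hF.chk]
  rw [e]
  unfold negF
  have : Nat.blt r D.nroots = true := by rw [Nat.blt_eq]; exact hr
  rw [this, cond_true]
  have := hO.even
  change D.nroots - 1 - r < D.nroots / 2
  omega

/-- existence of the ordered product expression in `U_k` -/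
theorem uge_exists (hD : IsTabulated D) {k m : ℕ} (hk : D.nroots / 2 ≤ k) (hkm : k + m = D.nroots)
    {g : GL D.Idx F} (hg : g ∈ Uge D F k) :
    ∃ t : ℕ → F, g = wordU (basicOK_of_tabulated hD) ((List.range' k m).map fun r => (r, t r)) := by
  have hB := basicOK_of_tabulated hD
  have hF := fastOK_of_tabulated hD
  have hO := ordOK_of_tabulated hD
  obtain ⟨lam, Λ, M, h1, h2, h3, h4, h5⟩ := hO.ex
  have hC : ∀ r < D.nroots, ∀ s < D.nroots, s ≠ r → s ≠ D.neg r → CommF D F r s :=
    fun r hr s hs e1 e2 => commF_of_tabulated hD hr hs e1 e2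
  exact exists_word_of_mem_Uge hB hF h5 hC (neg_lt_half_of_tabulated hD) m k hk hkm g hg

/-- uniqueness of the ordered product expression in `U_k` -/
theorem uge_unique (hD : IsTabulated D) {k m : ℕ} (hk : D.nroots / 2 ≤ k) (hkm : k + m = D.nroots)
    {t t' : ℕ → F}
    (h : wordU (basicOK_of_tabulated hD) ((List.range' k m).map fun r => (r, t r)) =
      wordU (basicOK_of_tabulated hD) ((List.range' k m).map fun r => (r, t' r))) :
    ∀ r, k ≤ r → r < D.nroots → t r = t' r := by
  have hB := basicOK_of_tabulated hD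
  have hF := fastOK_of_tabulated hD
  have hO := ordOK_of_tabulated hD
  obtain ⟨lam, Λ, M, h1, h2, h3, h4, h5⟩ := hO.ex
  exact word_unique hB hF h1 h2 h3 h4 m k hk hkm t t' h

/-- a root element `x_k(c)` in `U_{k+1}` is trivial -/
theorem xU_mem_uge_succ (hD : IsTabulated D) {k : ℕ} (hk : D.nroots / 2 ≤ k) (hk' : k < D.nroots)
    {c : F} (h : xU (basicOK_of_tabulated hD) k c ∈ Uge D F (k + 1)) : c = 0 := by
  have hB := basicOK_of_tabulated hD
  have hF := fastOK_of_tabulated hD
  have hO := ordOK_of_tabulated hD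
  obtain ⟨lam, Λ, M, h1, h2, h3, h4, h5⟩ := hO.ex
  exact eq_zero_of_xU_mem_Uge hB hF h1 h2 h3 h4 hk hk' h

/-- `x_k(t)` normalises `U_{k+1}` -/
theorem uge_conj (hD : IsTabulated D) {k : ℕ} (hk : D.nroots / 2 ≤ k) (t : F) {g : GL D.Idx F}
    (hg : g ∈ Uge D F (k + 1)) :
    xU (basicOK_of_tabulated hD) k t * g * (xU (basicOK_of_tabulated hD) k t)⁻¹ ∈ Uge D F (k + 1) := by
  have hB := basicOK_of_tabulated hD
  have hF := fastOK_of_tabulated hD
  have hO := ordOK_of_tabulated hD
  obtain ⟨lam, Λ, M, h1, h2, h3, h4, h5⟩ := hO.ex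
  have hC : ∀ r < D.nroots, ∀ s < D.nroots, s ≠ r → s ≠ D.neg r → CommF D F r s :=
    fun r hr s hs e1 e2 => commF_of_tabulated hD hr hs e1 e2
  exact conj_mem_Uge hB hF h5 hC (neg_lt_half_of_tabulated hD) hk t hg

/-- every element of `U_k` is `x_k(a)` times an element of `U_{k+1}` -/
theorem uge_split (hD : IsTabulated D) {k : ℕ} (hk : D.nroots / 2 ≤ k) {g : GL D.Idx F}
    (hg : g ∈ Uge D F k) :
    ∃ a : F, ∃ g' ∈ Uge D F (k + 1), g = xU (basicOK_of_tabulated hD) k a * g' := by
  have hB := basicOK_of_tabulated hD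
  have hF := fastOK_of_tabulated hD
  have hO := ordOK_of_tabulated hD
  obtain ⟨lam, Λ, M, h1, h2, h3, h4, h5⟩ := hO.ex
  have hC : ∀ r < D.nroots, ∀ s < D.nroots, s ≠ r → s ≠ D.neg r → CommF D F r s :=
    fun r hr s hs e1 e2 => commF_of_tabulated hD hr hs e1 e2
  exact exists_mul_of_mem_Uge hB hF h5 hC (neg_lt_half_of_tabulated hD) hk hg

/-- uniqueness of the splitting `U_k = X_k U_{k+1}` -/
theorem uge_split_unique (hD : IsTabulated D) {k : ℕ} (hk : D.nroots / 2 ≤ k) (hk' : k < D.nroots)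
    {a a' : F} {g g' : GL D.Idx F} (hg : g ∈ Uge D F (k + 1)) (hg' : g' ∈ Uge D F (k + 1))
    (h : xU (basicOK_of_tabulated hD) k a * g = xU (basicOK_of_tabulated hD) k a' * g') :
    a = a' ∧ g = g' := by
  have hB := basicOK_of_tabulated hD
  have hx : xU hB k (a - a') ∈ Uge D F (k + 1) := by
    have e : xU hB k (a - a') = g' * g⁻¹ := by
      rw [eq_mul_inv_iff_mul_eq, sub_eq_neg_add, ← xU_mul, mul_assoc, h, ← mul_assoc, xU_mul,
        neg_add_cancel, xU_zero, one_mul]
    rw [e]
    exact Subgroup.mul_mem _ hg' (Subgroup.inv_mem _ hg)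
  have h0 := xU_mem_uge_succ hD hk hk' hx
  have haa : a = a' := sub_eq_zero.1 h0
  subst haa
  exact ⟨rfl, mul_left_cancel h⟩

theorem uge_le_group (hD : IsTabulated D) (k : ℕ) : Uge D F k ≤ D.group F := by
  unfold Uge
  rw [Subgroup.closure_le]
  rintro g ⟨r, t, _, hr, hg⟩
  have : g = xU (basicOK_of_tabulated hD) r t := Units.ext (by rw [hg, xU_val])
  rw [this]
  exact xU_mem_group _ hr t

end Cfsg.Agent.Helper6.Ree
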