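import Mathlib
import Cfsg.Prelude.Def_LieTwisted
import Cfsg.Agent.Helper6.Ree.UgeWord
import Cfsg.Agent.Helper11.TwFix

set_option autoImplicit false
set_option linter.unusedSectionVars false
set_option linter.unusedVariables false
set_option linter.unusedSimpArgs false

/-!
Relations between the root elements of `G₂`, in particular in characteristic `3`.
Roots: `a = 7`, `b = 6`, `a+b = 8`, `2a+b = 9`, `3a+b = 10`, `3a+2b = 11`, and `-r = 11 - r`.
-/

namespace Cfsg.Agent.Helper6.Ree

open Cfsg.Lie Cfsg.Agent.Helper6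

theorem g2_tab : IsTabulated chevG2 := by simp [IsTabulated]

theorem hB2 : BasicOK chevG2 := basicOK_of_tabulated g2_tab

variable {K : Type*} [Field K]

/-- the root elements of `G₂(K)` -/
def X (r : ℕ) (t : K) : GL chevG2.Idx K := xU hB2 r t

theorem X_val (r : ℕ) (t : K) : ((X r t : GL chevG2.Idx K) : Matrix chevG2.Idx chevG2.Idx K) =
    chevG2.x K r t := rfl

theorem X_add (r : ℕ) (t u : K) : X r t * X r u = X r (t + u) := xU_mul hB2 r t u

theorem X_zero (r : ℕ) : X r (0 : K) = 1 := xU_zero hB2 r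

theorem X_inv (r : ℕ) (t : K) : (X r t)⁻¹ = X r (-t) := xU_inv hB2 r t

theorem X_mul_neg (r : ℕ) (t : K) : X r t * X r (-t) = 1 := by
  rw [X_add, add_neg_cancel, X_zero]

theorem X_neg_mul (r : ℕ) (t : K) : X r (-t) * X r t = 1 := by
  rw [X_add, neg_add_cancel, X_zero]

theorem X_mem_group {r : ℕ} (hr : r < 12) (t : K) : X r t ∈ chevG2.group K :=
  xU_mem_group hB2 hr t

theorem commF2 {r s : ℕ} (hr : r < 12) (hs : s < 12) (h1 : s ≠ r) (h2 : s ≠ 11 - r) :
    CommF chevG2 K r s := by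
  apply commF_of_tabulated g2_tab hr hs h1
  have : chevG2.neg r = 11 - r := by
    interval_cases r <;> rfl
  rw [this]; exact h2

/-- root elements whose commutator formula is empty commute -/
theorem X_comm {r s : ℕ} (hr : r < 12) (hs : s < 12) (h1 : s ≠ r) (h2 : s ≠ 11 - r)
    (h : chevG2.commTerms r s = []) (t u : K) : Commute (X r t) (X s u) :=
  (Cfsg.Agent.Helper11.TwFix.xU_comm_of_nil hB2 (commF2 hr hs h1 h2) h t u).symm

/-- the general commutator formula, at the level of the group -/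
theorem X_commF {r s : ℕ} (hr : r < 12) (hs : s < 12) (h1 : s ≠ r) (h2 : s ≠ 11 - r) (t u : K) :
    X s u * X r t = X r t * X s u * wordU hB2 (chevG2.commWord K r s t u) := by
  apply Units.ext
  simp only [Units.val_mul, X_val, wordU_val]
  exact commF2 hr hs h1 h2 t u

theorem wordU_cons (p : ℕ × K) (w : List (ℕ × K)) :
    wordU hB2 (p :: w) = X p.1 p.2 * wordU hB2 w := by
  unfold wordU X
  simp only [List.map_cons, List.prod_cons]

theorem wordU_nil : wordU hB2 ([] : List (ℕ × K)) = 1 := by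
  unfold wordU
  simp

theorem ct76 : chevG2.commTerms 7 6 = [(8, -1, 1, 1), (9, 1, 2, 1), (10, 1, 3, 1), (11, 1, 3, 2)] := by
  decide
theorem ct45 : chevG2.commTerms 4 5 = [(3, 1, 1, 1), (2, 1, 2, 1), (1, -1, 3, 1), (0, 1, 3, 2)] := by
  decide

/-- `x_b(u) x_a(t) = x_a(t) x_b(u) x_{a+b}(tu) x_{2a+b}(t²u) x_{3a+b}(-t³u) x_{3a+2b}(-t³u²)` -/
theorem comm76 (t u : K) :
    X 6 u * X 7 t = X 7 t * X 6 u * (X 8 (t * u) * (X 9 (t ^ 2 * u) *
      (X 10 (-(t ^ 3 * u)) * X 11 (-(t ^ 3 * u ^ 2))))) := by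
  rw [X_commF (by norm_num) (by norm_num) (by norm_num) (by norm_num)]
  unfold ChevalleyDatum.commWord
  rw [ct76]
  simp only [List.map_cons, List.map_nil, wordU_cons, wordU_nil, mul_one]
  rw [show ((-1 : ℤ) : K) * (-t) ^ 1 * u ^ 1 = t * u by push_cast; ring,
    show ((1 : ℤ) : K) * (-t) ^ 2 * u ^ 1 = t ^ 2 * u by push_cast; ring,
    show ((1 : ℤ) : K) * (-t) ^ 3 * u ^ 1 = -(t ^ 3 * u) by push_cast; ring,
    show ((1 : ℤ) : K) * (-t) ^ 3 * u ^ 2 = -(t ^ 3 * u ^ 2) by push_cast; ring]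

/-- `x_{-b}(u) x_{-a}(t) = x_{-a}(t) x_{-b}(u) x_{-a-b}(-tu) x_{-2a-b}(t²u) x_{-3a-b}(t³u) x_{-3a-2b}(-t³u²)` -/
theorem comm45 (t u : K) :
    X 5 u * X 4 t = X 4 t * X 5 u * (X 3 (-(t * u)) * (X 2 (t ^ 2 * u) *
      (X 1 (t ^ 3 * u) * X 0 (-(t ^ 3 * u ^ 2))))) := by
  rw [X_commF (by norm_num) (by norm_num) (by norm_num) (by norm_num)]
  unfold ChevalleyDatum.commWord
  rw [ct45]
  simp only [List.map_cons, List.map_nil, wordU_cons, wordU_nil, mul_one]
  rw [show ((1 : ℤ) : K) * (-t) ^ 1 * u ^ 1 = -(t * u) by push_cast; ring,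
    show ((1 : ℤ) : K) * (-t) ^ 2 * u ^ 1 = t ^ 2 * u by push_cast; ring,
    show ((-1 : ℤ) : K) * (-t) ^ 3 * u ^ 1 = t ^ 3 * u by push_cast; ring,
    show ((1 : ℤ) : K) * (-t) ^ 3 * u ^ 2 = -(t ^ 3 * u ^ 2) by push_cast; ring]

theorem c_8_10 (t u : K) : Commute (X 8 t) (X 10 u) :=
  X_comm (by norm_num) (by norm_num) (by norm_num) (by norm_num) (by decide) t u
theorem c_8_11 (t u : K) : Commute (X 8 t) (X 11 u) :=
  X_comm (by norm_num) (by norm_num) (by norm_num) (by norm_num) (by decide) t u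
theorem c_9_10 (t u : K) : Commute (X 9 t) (X 10 u) :=
  X_comm (by norm_num) (by norm_num) (by norm_num) (by norm_num) (by decide) t u
theorem c_9_11 (t u : K) : Commute (X 9 t) (X 11 u) :=
  X_comm (by norm_num) (by norm_num) (by norm_num) (by norm_num) (by decide) t u
theorem c_10_11 (t u : K) : Commute (X 10 t) (X 11 u) :=
  X_comm (by norm_num) (by norm_num) (by norm_num) (by norm_num) (by decide) t u
theorem c_3_1 (t u : K) : Commute (X 3 t) (X 1 u) :=
  X_comm (by norm_num) (by norm_num) (by norm_num) (by norm_num) (by decide) t u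
theorem c_3_0 (t u : K) : Commute (X 3 t) (X 0 u) :=
  X_comm (by norm_num) (by norm_num) (by norm_num) (by norm_num) (by decide) t u
theorem c_2_1 (t u : K) : Commute (X 2 t) (X 1 u) :=
  X_comm (by norm_num) (by norm_num) (by norm_num) (by norm_num) (by decide) t u
theorem c_2_0 (t u : K) : Commute (X 2 t) (X 0 u) :=
  X_comm (by norm_num) (by norm_num) (by norm_num) (by norm_num) (by decide) t u
theorem c_1_0 (t u : K) : Commute (X 1 t) (X 0 u) :=
  X_comm (by norm_num) (by norm_num) (by norm_num) (by norm_num) (by decide) t u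
/-- the root subgroups of `±(a+b)` commute with those of `±(3a+b)` -/
theorem c_8_1 (t u : K) : Commute (X 8 t) (X 1 u) :=
  X_comm (by norm_num) (by norm_num) (by norm_num) (by norm_num) (by decide) t u
theorem c_10_3 (t u : K) : Commute (X 10 t) (X 3 u) :=
  X_comm (by norm_num) (by norm_num) (by norm_num) (by norm_num) (by decide) t u

section char3

variable [CharP K 3]

theorem three_eq_zero : (3 : K) = 0 := by
  have := CharP.cast_eq_zero K 3
  exact_mod_cast this

theorem c_8_9 (t u : K) : Commute (X 8 t) (X 9 u) := by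
  have h := X_commF (K := K) (r := 8) (s := 9) (by norm_num) (by norm_num) (by norm_num)
    (by norm_num) t u
  have e : chevG2.commTerms 8 9 = [(11, 3, 1, 1)] := by decide
  unfold ChevalleyDatum.commWord at h
  rw [e] at h
  simp only [List.map_cons, List.map_nil, wordU_cons, wordU_nil, mul_one] at h
  have z : ((3 : ℤ) : K) * (-t) ^ 1 * u ^ 1 = 0 := by
    push_cast; rw [three_eq_zero]; ring
  rw [z, X_zero, mul_one] at h
  exact h.symm

theorem c_3_2 (t u : K) : Commute (X 3 t) (X 2 u) := by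
  have h := X_commF (K := K) (r := 3) (s := 2) (by norm_num) (by norm_num) (by norm_num)
    (by norm_num) t u
  have e : chevG2.commTerms 3 2 = [(0, -3, 1, 1)] := by decide
  unfold ChevalleyDatum.commWord at h
  rw [e] at h
  simp only [List.map_cons, List.map_nil, wordU_cons, wordU_nil, mul_one] at h
  have z : ((-3 : ℤ) : K) * (-t) ^ 1 * u ^ 1 = 0 := by
    push_cast; rw [three_eq_zero]; ring
  rw [z, X_zero, mul_one] at h
  exact h.symm

end char3

end Cfsg.Agent.Helper6.Ree
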