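import Mathlib
import Cfsg.Agent.Helper6.Ree.G2Base

set_option autoImplicit false
set_option linter.unusedSectionVars false
set_option linter.unusedVariables false
set_option linter.unusedSimpArgs false

/-!
The twisting automorphism of `G₂(K)`, `|K| = 3^{2m+1}`, as a hypothesis, and its fixed points.
-/

namespace Cfsg.Agent.Helper6.Ree

open Cfsg.Lie Cfsg.Agent.Helper6

/-- the symmetry of the root system of type `G₂` exchanging long and short roots -/
def rhoG (r : ℕ) : ℕ := [2, 3, 0, 1, 5, 4, 7, 6, 10, 11, 8, 9].getD r 0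

/-- the exponent of the twisting automorphism on the root subgroup `X_r`, `θ = 3^m` -/
def exG (m r : ℕ) : ℕ := if r ∈ [2, 3, 4, 7, 8, 9] then 3 * 3 ^ m else 3 ^ m

theorem rhoG_lt {r : ℕ} (hr : r < 12) : rhoG r < 12 := by
  interval_cases r <;> decide

theorem rhoG_rhoG {r : ℕ} (hr : r < 12) : rhoG (rhoG r) = r := by
  interval_cases r <;> decide

/-- the twisting automorphism, with its action on the root elements -/
structure ReeCtx (K : Type*) [Field K] (m : ℕ) where
  char3 : CharP K 3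
  frob : ∀ t : K, t ^ (3 ^ (2 * m + 1)) = t
  σ : ↥(chevG2.group K) ≃* ↥(chevG2.group K)
  hσ : ∀ r < 12, ∀ (t : K) (g : ↥(chevG2.group K)), (g : GL chevG2.Idx K) = X r t →
    ((σ g : ↥(chevG2.group K)) : GL chevG2.Idx K) = X (rhoG r) (t ^ exG m r)

variable {K : Type*} [Field K] {m : ℕ}

namespace ReeCtx

variable (C : ReeCtx K m)

/-- the automorphism as a map of the general linear group (the identity outside `G₂(K)`) -/
noncomputable def tau (g : GL chevG2.Idx K) : GL chevG2.Idx K := by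
  classical
  exact if h : g ∈ chevG2.group K then ((C.σ ⟨g, h⟩ : ↥(chevG2.group K)) : GL chevG2.Idx K) else g

theorem tau_of_mem {g : GL chevG2.Idx K} (h : g ∈ chevG2.group K) :
    C.tau g = ((C.σ ⟨g, h⟩ : ↥(chevG2.group K)) : GL chevG2.Idx K) := by
  unfold tau
  rw [dif_pos h]

theorem tau_mem {g : GL chevG2.Idx K} (h : g ∈ chevG2.group K) : C.tau g ∈ chevG2.group K := by
  rw [C.tau_of_mem h]
  exact (C.σ ⟨g, h⟩).2

theorem tau_mul {a b : GL chevG2.Idx K} (ha : a ∈ chevG2.group K) (hb : b ∈ chevG2.group K) :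
    C.tau (a * b) = C.tau a * C.tau b := by
  rw [C.tau_of_mem ha, C.tau_of_mem hb, C.tau_of_mem (Subgroup.mul_mem _ ha hb)]
  have : (⟨a * b, Subgroup.mul_mem _ ha hb⟩ : ↥(chevG2.group K)) = ⟨a, ha⟩ * ⟨b, hb⟩ := rfl
  rw [this, map_mul]
  rfl

theorem tau_one : C.tau 1 = 1 := by
  rw [C.tau_of_mem (Subgroup.one_mem _)]
  have : (⟨1, Subgroup.one_mem _⟩ : ↥(chevG2.group K)) = 1 := rfl
  rw [this, map_one]
  rfl

theorem tau_inv {a : GL chevG2.Idx K} (ha : a ∈ chevG2.group K) : C.tau a⁻¹ = (C.tau a)⁻¹ := by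
  rw [C.tau_of_mem ha, C.tau_of_mem (Subgroup.inv_mem _ ha)]
  have : (⟨a⁻¹, Subgroup.inv_mem _ ha⟩ : ↥(chevG2.group K)) = (⟨a, ha⟩ : ↥(chevG2.group K))⁻¹ := rfl
  rw [this, map_inv]
  rfl

theorem tau_X {r : ℕ} (hr : r < 12) (t : K) : C.tau (X r t) = X (rhoG r) (t ^ exG m r) := by
  rw [C.tau_of_mem (X_mem_group hr t)]
  exact C.hσ r hr t _ rfl

theorem tau_injOn {a b : GL chevG2.Idx K} (ha : a ∈ chevG2.group K) (hb : b ∈ chevG2.group K)
    (h : C.tau a = C.tau b) : a = b := by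
  rw [C.tau_of_mem ha, C.tau_of_mem hb] at h
  have := C.σ.injective (Subtype.ext h)
  exact congrArg Subtype.val this

/-- the group of fixed points -/
noncomputable def Fix : Subgroup (GL chevG2.Idx K) where
  carrier := {g | g ∈ chevG2.group K ∧ C.tau g = g}
  mul_mem' := by
    rintro a b ⟨ha, ha'⟩ ⟨hb, hb'⟩
    exact ⟨Subgroup.mul_mem _ ha hb, by rw [C.tau_mul ha hb, ha', hb']⟩
  one_mem' := ⟨Subgroup.one_mem _, C.tau_one⟩
  inv_mem' := by
    rintro a ⟨ha, ha'⟩
    exact ⟨Subgroup.inv_mem _ ha, by rw [C.tau_inv ha, ha']⟩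

theorem mem_Fix {g : GL chevG2.Idx K} : g ∈ C.Fix ↔ g ∈ chevG2.group K ∧ C.tau g = g := Iff.rfl

theorem Fix_le_group : C.Fix ≤ chevG2.group K := fun g hg => hg.1

theorem wordU_mem_group (w : List (ℕ × K)) (hw : ∀ p ∈ w, p.1 < 12) :
    wordU hB2 w ∈ chevG2.group K := by
  induction w with
  | nil => rw [wordU_nil]; exact Subgroup.one_mem _
  | cons p w ih =>
    rw [wordU_cons]
    exact Subgroup.mul_mem _ (X_mem_group (hw p List.mem_cons_self) _)
      (ih fun q hq => hw q (List.mem_cons_of_mem _ hq))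

/-- the automorphism on words in root elements -/
theorem tau_wordU (w : List (ℕ × K)) (hw : ∀ p ∈ w, p.1 < 12) :
    C.tau (wordU hB2 w) = wordU hB2 (w.map fun p => (rhoG p.1, p.2 ^ exG m p.1)) := by
  induction w with
  | nil => simp only [List.map_nil, wordU_nil]; exact C.tau_one
  | cons p w ih =>
    have hw' : ∀ q ∈ w, q.1 < 12 := fun q hq => hw q (List.mem_cons_of_mem _ hq)
    rw [wordU_cons, C.tau_mul (X_mem_group (hw p List.mem_cons_self) _) (wordU_mem_group w hw'),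
      C.tau_X (hw p List.mem_cons_self), ih hw', List.map_cons, wordU_cons]

include C in
theorem pow_theta_theta (t : K) : (t ^ 3 ^ m) ^ (3 * 3 ^ m) = t := by
  rw [← pow_mul]
  have : 3 ^ m * (3 * 3 ^ m) = 3 ^ (2 * m + 1) := by ring
  rw [this, C.frob]

include C in
theorem pow_theta_theta' (t : K) : (t ^ (3 * 3 ^ m)) ^ (3 ^ m) = t := by
  rw [← pow_mul]
  have : 3 * 3 ^ m * 3 ^ m = 3 ^ (2 * m + 1) := by ring
  rw [this, C.frob]

include C in
theorem add_pow_theta (x y : K) : (x + y) ^ 3 ^ m = x ^ 3 ^ m + y ^ 3 ^ m := by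
  have := C.char3
  have : Fact (Nat.Prime 3) := ⟨by norm_num⟩
  exact add_pow_char_pow x y 3 m

include C in
theorem add_pow_three_theta (x y : K) : (x + y) ^ (3 * 3 ^ m) = x ^ (3 * 3 ^ m) + y ^ (3 * 3 ^ m) := by
  have := C.char3
  have : Fact (Nat.Prime 3) := ⟨by norm_num⟩
  have : 3 * 3 ^ m = 3 ^ (m + 1) := by ring
  rw [this]
  exact add_pow_char_pow x y 3 (m + 1)

include C in
theorem neg_pow_theta (x : K) : (-x) ^ 3 ^ m = -(x ^ 3 ^ m) := by
  have h : Odd (3 ^ m) := Odd.pow (by decide)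
  exact h.neg_pow x

include C in
theorem neg_pow_three_theta (x : K) : (-x) ^ (3 * 3 ^ m) = -(x ^ (3 * 3 ^ m)) := by
  have h : Odd (3 * 3 ^ m) := Odd.mul (by decide) (Odd.pow (by decide))
  exact h.neg_pow x

end ReeCtx

end Cfsg.Agent.Helper6.Ree
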