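import Mathlib
import Cfsg.Agent.Helper2.Stb.Graph
import Cfsg.Agent.Helper6.Ree.G2Sigma

set_option autoImplicit false
set_option linter.unusedSectionVars false
set_option linter.unusedVariables false
set_option linter.unusedSimpArgs false

/-!
The twisting automorphism of `G₂(K)`, `|K| = 3^{2m+1}`, exists: the graph automorphism composed with
the field automorphism `t ↦ t^{3^m}`.
-/

namespace Cfsg.Agent.Helper6.Ree

open Cfsg.Lie Cfsg.Agent.Helper6

variable {K : Type*} [Field K] [Fintype K] {m : ℕ}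

theorem char3_of_card (hK : Fintype.card K = 3 ^ (2 * m + 1)) : CharP K 3 := by
  have : Fact (Nat.Prime 3) := ⟨Nat.prime_three⟩
  exact charP_of_card_eq_prime_pow hK

theorem frob_of_card (hK : Fintype.card K = 3 ^ (2 * m + 1)) (t : K) : t ^ (3 ^ (2 * m + 1)) = t := by
  rw [← hK, FiniteField.pow_card]

theorem rho_agree {r : ℕ} (hr : r < 12) : Cfsg.Agent.Helper2.Stb.rhoG chevG2 r = rhoG r := by
  interval_cases r <;> rfl

theorem lam_agree {r : ℕ} (hr : r < 12) : 3 ^ m * Cfsg.Agent.Helper2.Stb.lamG chevG2 r = exG m r := by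
  have h : ∀ r < 12, Cfsg.Agent.Helper2.Stb.lamG chevG2 r = if r ∈ [2, 3, 4, 7, 8, 9] then 3 else 1 := by
    intro r hr
    interval_cases r <;> rfl
  rw [h r hr]
  unfold exG
  split_ifs
  · ring
  · ring

/-- the twisting automorphism exists -/
theorem exists_reeCtx (hK : Fintype.card K = 3 ^ (2 * m + 1)) : Nonempty (ReeCtx K m) := by
  have hc : CharP K 3 := char3_of_card hK
  have : Fact (Nat.Prime 3) := ⟨Nat.prime_three⟩
  have : ExpChar K 3 := ExpChar.prime Nat.prime_three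
  -- perfectness
  have hperf : ∀ x : K, ∃ y : K, y ^ 3 = x := by
    intro x
    obtain ⟨y, hy⟩ := (frobeniusEquiv K 3).surjective x
    exact ⟨y, by rw [← hy]; rfl⟩
  obtain ⟨α, hα⟩ := Cfsg.Agent.Helper2.Stb.graph_aut_G2 (K := K) hperf
  obtain ⟨β, hβ⟩ := Cfsg.Agent.S1080.result (F := K) chevG2 (by simp) (iterateFrobeniusEquiv K 3 m)
  refine ⟨⟨hc, frob_of_card hK, β.trans α, ?_⟩⟩
  intro r hr t g hg
  have h1 : ((g : GL chevG2.Idx K) : Matrix chevG2.Idx chevG2.Idx K) = chevG2.x K r t := by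
    rw [hg, X_val]
  have h2 := hβ g r t hr h1
  rw [iterateFrobeniusEquiv_def] at h2
  have h3 := Cfsg.Agent.Helper2.Stb.graph_aut_apply Cfsg.Agent.Helper2.Stb.isTab_G2 hα (β g) hr rfl rfl
    (t ^ 3 ^ m) h2
  apply Units.ext
  rw [X_val, MulEquiv.trans_apply, h3, rho_agree hr, ← pow_mul, lam_agree hr]

end Cfsg.Agent.Helper6.Ree
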