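import Mathlib
import Cfsg.Agent.Helper6.Ree.G2Sigma

set_option autoImplicit false
set_option linter.unusedSectionVars false
set_option linter.unusedVariables false
set_option linter.unusedSimpArgs false

/-!
The elements `x_a(t^θ) x_b(t) x_{a+b}(t^{θ+1}+u^θ) x_{2a+b}(t^{2θ+1}+v^θ) x_{3a+b}(u) x_{3a+2b}(v)` of
`G₂(K)` and their negatives are fixed by the twisting automorphism.
-/

namespace Cfsg.Agent.Helper6.Ree

open Cfsg.Lie Cfsg.Agent.Helper6

variable {K : Type*} [Field K] {m : ℕ}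

/-- the generators of `²G₂` in `U` -/
def reeU (m : ℕ) (t u v : K) : GL chevG2.Idx K := wordU hB2 (reeWordU (3 ^ m) t u v)

/-- the generators of `²G₂` in `V` -/
def reeV (m : ℕ) (t u v : K) : GL chevG2.Idx K := wordU hB2 (reeWordV (3 ^ m) t u v)

theorem reeU_val (t u v : K) : ((reeU m t u v : GL chevG2.Idx K) : Matrix chevG2.Idx chevG2.Idx K) =
    chevG2.wordMat K (reeWordU (3 ^ m) t u v) := wordU_val hB2 _

theorem reeV_val (t u v : K) : ((reeV m t u v : GL chevG2.Idx K) : Matrix chevG2.Idx chevG2.Idx K) =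
    chevG2.wordMat K (reeWordV (3 ^ m) t u v) := wordU_val hB2 _

theorem reeU_mem_twisted (t u v : K) : reeU m t u v ∈ twistedG2 K (3 ^ m) := by
  apply Subgroup.subset_closure
  exact ⟨reeWordU (3 ^ m) t u v, ⟨t, u, v, Or.inl rfl⟩, reeU_val t u v⟩

theorem reeV_mem_twisted (t u v : K) : reeV m t u v ∈ twistedG2 K (3 ^ m) := by
  apply Subgroup.subset_closure
  exact ⟨reeWordV (3 ^ m) t u v, ⟨t, u, v, Or.inr rfl⟩, reeV_val t u v⟩

/-- the first factor -/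
def R1 (m : ℕ) (t : K) : GL chevG2.Idx K :=
  X 7 (t ^ 3 ^ m) * X 6 t * (X 8 (t ^ 3 ^ m * t) * X 9 ((t ^ 3 ^ m) ^ 2 * t))

/-- the second factor -/
def R2 (m : ℕ) (u v : K) : GL chevG2.Idx K :=
  X 8 (u ^ 3 ^ m) * X 9 (v ^ 3 ^ m) * (X 10 u * X 11 v)

/-- the first factor, negative side -/
def R1V (m : ℕ) (t : K) : GL chevG2.Idx K :=
  X 4 (-(t ^ 3 ^ m)) * X 5 (-t) * (X 3 (-(t ^ 3 ^ m * t)) * X 2 (-((t ^ 3 ^ m) ^ 2 * t)))

/-- the second factor, negative side -/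
def R2V (m : ℕ) (u v : K) : GL chevG2.Idx K :=
  X 3 (-(u ^ 3 ^ m)) * X 2 (-(v ^ 3 ^ m)) * (X 1 (-u) * X 0 (-v))

theorem reeU_eq (t u v : K) : reeU m t u v =
    X 7 (t ^ 3 ^ m) * (X 6 t * (X 8 (t ^ (3 ^ m + 1) + u ^ 3 ^ m) *
      (X 9 (t ^ (2 * 3 ^ m + 1) + v ^ 3 ^ m) * (X 10 u * X 11 v)))) := by
  unfold reeU reeWordU
  simp only [wordU_cons, wordU_nil, mul_one]
  rfl

theorem reeV_eq (t u v : K) : reeV m t u v =
    X 4 (-(t ^ 3 ^ m)) * (X 5 (-t) * (X 3 (-(t ^ (3 ^ m + 1) + u ^ 3 ^ m)) *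
      (X 2 (-(t ^ (2 * 3 ^ m + 1) + v ^ 3 ^ m)) * (X 1 (-u) * X 0 (-v))))) := by
  unfold reeV reeWordV reeWordU ChevalleyDatum.negWord
  simp only [List.map_cons, List.map_nil, wordU_cons, wordU_nil, mul_one]
  rfl

section char3

variable [CharP K 3]

theorem reeU_split (t u v : K) : reeU m t u v = R1 m t * R2 m u v := by
  rw [reeU_eq]
  unfold R1 R2
  have e1 : t ^ (3 ^ m + 1) = t ^ 3 ^ m * t := pow_succ _ _
  have e2 : t ^ (2 * 3 ^ m + 1) = (t ^ 3 ^ m) ^ 2 * t := by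
    rw [pow_succ, ← pow_mul, mul_comm 2 (3 ^ m)]
  rw [e1, e2, ← X_add, ← X_add]
  have c := (c_8_9 (u ^ 3 ^ m) ((t ^ 3 ^ m) ^ 2 * t)).eq
  simp only [mul_assoc]
  congr 3
  rw [← mul_assoc (X 9 _) (X 8 _), ← c, mul_assoc]

theorem reeV_split (t u v : K) : reeV m t u v = R1V m t * R2V m u v := by
  rw [reeV_eq]
  unfold R1V R2V
  have e1 : t ^ (3 ^ m + 1) = t ^ 3 ^ m * t := pow_succ _ _
  have e2 : t ^ (2 * 3 ^ m + 1) = (t ^ 3 ^ m) ^ 2 * t := by
    rw [pow_succ, ← pow_mul, mul_comm 2 (3 ^ m)]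
  rw [e1, e2, neg_add, neg_add, ← X_add, ← X_add]
  have c := (c_3_2 (-(u ^ 3 ^ m)) (-((t ^ 3 ^ m) ^ 2 * t))).eq
  simp only [mul_assoc]
  congr 3
  rw [← mul_assoc (X 2 _) (X 3 _), ← c, mul_assoc]

end char3

theorem exG_short {r : ℕ} (h : r ∈ [2, 3, 4, 7, 8, 9]) : exG m r = 3 * 3 ^ m := by
  unfold exG; rw [if_pos h]

theorem exG_long {r : ℕ} (h : r ∉ [2, 3, 4, 7, 8, 9]) : exG m r = 3 ^ m := by
  unfold exG; rw [if_neg h]

namespace ReeCtx

variable (C : ReeCtx K m)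

theorem R2_mem_group (u v : K) : R2 m u v ∈ chevG2.group K := by
  unfold R2
  exact Subgroup.mul_mem _ (Subgroup.mul_mem _ (X_mem_group (by norm_num) _)
    (X_mem_group (by norm_num) _)) (Subgroup.mul_mem _ (X_mem_group (by norm_num) _)
    (X_mem_group (by norm_num) _))

theorem R1_mem_group (t : K) : R1 m t ∈ chevG2.group K := by
  unfold R1
  exact Subgroup.mul_mem _ (Subgroup.mul_mem _ (X_mem_group (by norm_num) _)
    (X_mem_group (by norm_num) _)) (Subgroup.mul_mem _ (X_mem_group (by norm_num) _)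
    (X_mem_group (by norm_num) _))

theorem R2V_mem_group (u v : K) : R2V m u v ∈ chevG2.group K := by
  unfold R2V
  exact Subgroup.mul_mem _ (Subgroup.mul_mem _ (X_mem_group (by norm_num) _)
    (X_mem_group (by norm_num) _)) (Subgroup.mul_mem _ (X_mem_group (by norm_num) _)
    (X_mem_group (by norm_num) _))

theorem R1V_mem_group (t : K) : R1V m t ∈ chevG2.group K := by
  unfold R1V
  exact Subgroup.mul_mem _ (Subgroup.mul_mem _ (X_mem_group (by norm_num) _)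
    (X_mem_group (by norm_num) _)) (Subgroup.mul_mem _ (X_mem_group (by norm_num) _)
    (X_mem_group (by norm_num) _))

/-- the automorphism on a product of four root elements -/
theorem tau_four {r₁ r₂ r₃ r₄ : ℕ} (h₁ : r₁ < 12) (h₂ : r₂ < 12) (h₃ : r₃ < 12) (h₄ : r₄ < 12)
    (a b c d : K) :
    C.tau (X r₁ a * X r₂ b * (X r₃ c * X r₄ d)) =
      X (rhoG r₁) (a ^ exG m r₁) * X (rhoG r₂) (b ^ exG m r₂) *
        (X (rhoG r₃) (c ^ exG m r₃) * X (rhoG r₄) (d ^ exG m r₄)) := by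
  rw [C.tau_mul (Subgroup.mul_mem _ (X_mem_group h₁ _) (X_mem_group h₂ _))
    (Subgroup.mul_mem _ (X_mem_group h₃ _) (X_mem_group h₄ _)),
    C.tau_mul (X_mem_group h₁ _) (X_mem_group h₂ _), C.tau_mul (X_mem_group h₃ _) (X_mem_group h₄ _),
    C.tau_X h₁, C.tau_X h₂, C.tau_X h₃, C.tau_X h₄]

theorem tau_R2 (u v : K) : C.tau (R2 m u v) = R2 m u v := by
  unfold R2
  rw [C.tau_four (by norm_num) (by norm_num) (by norm_num) (by norm_num)]
  rw [exG_short (by decide), exG_short (by decide), exG_long (by decide), exG_long (by decide),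
    C.pow_theta_theta, C.pow_theta_theta]
  show X 10 u * X 11 v * (X 8 (u ^ 3 ^ m) * X 9 (v ^ 3 ^ m)) = _
  have h : Commute (X 10 u * X 11 v) (X 8 (u ^ 3 ^ m) * X 9 (v ^ 3 ^ m)) :=
    Commute.mul_left (Commute.mul_right (c_8_10 _ _).symm (c_9_10 _ _).symm)
      (Commute.mul_right (c_8_11 _ _).symm (c_9_11 _ _).symm)
  exact h.eq

theorem tau_R2V (u v : K) : C.tau (R2V m u v) = R2V m u v := by
  unfold R2V
  rw [C.tau_four (by norm_num) (by norm_num) (by norm_num) (by norm_num)]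
  rw [exG_short (by decide), exG_short (by decide), exG_long (by decide), exG_long (by decide),
    C.neg_pow_three_theta, C.neg_pow_three_theta, C.neg_pow_theta, C.neg_pow_theta,
    C.pow_theta_theta, C.pow_theta_theta]
  show X 1 (-u) * X 0 (-v) * (X 3 (-(u ^ 3 ^ m)) * X 2 (-(v ^ 3 ^ m))) = _
  have h : Commute (X 1 (-u) * X 0 (-v)) (X 3 (-(u ^ 3 ^ m)) * X 2 (-(v ^ 3 ^ m))) :=
    Commute.mul_left (Commute.mul_right (c_3_1 _ _).symm (c_2_1 _ _).symm)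
      (Commute.mul_right (c_3_0 _ _).symm (c_2_0 _ _).symm)
  exact h.eq

theorem cancel_10_11 (p q : K) : X 10 (-p) * X 11 (-q) * (X 10 p * X 11 q) = (1 : GL chevG2.Idx K) := by
  have c := (c_10_11 p (-q)).eq
  calc X 10 (-p) * X 11 (-q) * (X 10 p * X 11 q)
      = X 10 (-p) * (X 11 (-q) * X 10 p) * X 11 q := by group
    _ = X 10 (-p) * (X 10 p * X 11 (-q)) * X 11 q := by rw [c]
    _ = (X 10 (-p) * X 10 p) * (X 11 (-q) * X 11 q) := by group
    _ = 1 := by rw [X_neg_mul, X_neg_mul, one_mul]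

theorem cancel_1_0 (p q : K) : X 1 (-p) * X 0 (-q) * (X 1 p * X 0 q) = (1 : GL chevG2.Idx K) := by
  have c := (c_1_0 p (-q)).eq
  calc X 1 (-p) * X 0 (-q) * (X 1 p * X 0 q)
      = X 1 (-p) * (X 0 (-q) * X 1 p) * X 0 q := by group
    _ = X 1 (-p) * (X 1 p * X 0 (-q)) * X 0 q := by rw [c]
    _ = (X 1 (-p) * X 1 p) * (X 0 (-q) * X 0 q) := by group
    _ = 1 := by rw [X_neg_mul, X_neg_mul, one_mul]

theorem tau_R1 (t : K) : C.tau (R1 m t) = R1 m t := by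
  unfold R1
  rw [C.tau_four (by norm_num) (by norm_num) (by norm_num) (by norm_num)]
  rw [exG_short (by decide), exG_long (by decide), exG_short (by decide), exG_short (by decide),
    C.pow_theta_theta, mul_pow, mul_pow, ← pow_mul, ← pow_mul, ← pow_mul]
  simp only [show rhoG 7 = 6 from rfl, show rhoG 6 = 7 from rfl, show rhoG 8 = 10 from rfl,
    show rhoG 9 = 11 from rfl]
  have e1 : t ^ (3 ^ m * (3 * 3 ^ m)) = t := by rw [pow_mul]; exact C.pow_theta_theta t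
  have e2 : t ^ (3 ^ m * (2 * (3 * 3 ^ m))) = t ^ 2 := by
    have : 3 ^ m * (2 * (3 * 3 ^ m)) = (3 ^ m * (3 * 3 ^ m)) * 2 := by ring
    rw [this, pow_mul, e1]
  have e3 : t ^ (3 * 3 ^ m) = (t ^ 3 ^ m) ^ 3 := by rw [← pow_mul, mul_comm]
  rw [e1, e2, e3, comm76]
  generalize t ^ 3 ^ m = s
  have k := cancel_10_11 (s ^ 3 * t) (s ^ 3 * t ^ 2)
  have e4 : t * s ^ 3 = s ^ 3 * t := mul_comm _ _
  have e5 : t ^ 2 * s ^ 3 = s ^ 3 * t ^ 2 := mul_comm _ _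
  rw [e4, e5]
  calc X 7 s * X 6 t * (X 8 (s * t) * (X 9 (s ^ 2 * t) * (X 10 (-(s ^ 3 * t)) * X 11 (-(s ^ 3 * t ^ 2))))) *
        (X 10 (s ^ 3 * t) * X 11 (s ^ 3 * t ^ 2))
      = X 7 s * X 6 t * (X 8 (s * t) * X 9 (s ^ 2 * t)) *
        (X 10 (-(s ^ 3 * t)) * X 11 (-(s ^ 3 * t ^ 2)) * (X 10 (s ^ 3 * t) * X 11 (s ^ 3 * t ^ 2))) := by
        simp only [mul_assoc]
    _ = _ := by rw [k, mul_one]

theorem tau_R1V (t : K) : C.tau (R1V m t) = R1V m t := by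
  unfold R1V
  rw [C.tau_four (by norm_num) (by norm_num) (by norm_num) (by norm_num)]
  rw [exG_short (by decide), exG_long (by decide), exG_short (by decide), exG_short (by decide),
    C.neg_pow_three_theta, C.neg_pow_theta, C.neg_pow_three_theta, C.neg_pow_three_theta,
    C.pow_theta_theta, mul_pow, mul_pow, ← pow_mul, ← pow_mul, ← pow_mul]
  simp only [show rhoG 4 = 5 from rfl, show rhoG 5 = 4 from rfl, show rhoG 3 = 1 from rfl,
    show rhoG 2 = 0 from rfl]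
  have e1 : t ^ (3 ^ m * (3 * 3 ^ m)) = t := by rw [pow_mul]; exact C.pow_theta_theta t
  have e2 : t ^ (3 ^ m * (2 * (3 * 3 ^ m))) = t ^ 2 := by
    have : 3 ^ m * (2 * (3 * 3 ^ m)) = (3 ^ m * (3 * 3 ^ m)) * 2 := by ring
    rw [this, pow_mul, e1]
  have e3 : t ^ (3 * 3 ^ m) = (t ^ 3 ^ m) ^ 3 := by rw [← pow_mul, mul_comm]
  rw [e1, e2, e3, comm45]
  generalize t ^ 3 ^ m = s
  have e4 : -(t * s ^ 3) = -(s ^ 3 * t) := by ring
  have e5 : -(t ^ 2 * s ^ 3) = -(s ^ 3 * t ^ 2) := by ring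
  have e6 : -(-s * -t) = -(s * t) := by ring
  have e7 : (-s) ^ 2 * -t = -(s ^ 2 * t) := by ring
  have e8 : (-s) ^ 3 * -t = s ^ 3 * t := by ring
  have e9 : -((-s) ^ 3 * (-t) ^ 2) = s ^ 3 * t ^ 2 := by ring
  rw [e4, e5, e6, e7, e8, e9]
  have k' : X 1 (s ^ 3 * t) * X 0 (s ^ 3 * t ^ 2) * (X 1 (-(s ^ 3 * t)) * X 0 (-(s ^ 3 * t ^ 2))) =
      (1 : GL chevG2.Idx K) := by
    have := cancel_1_0 (-(s ^ 3 * t)) (-(s ^ 3 * t ^ 2))
    rwa [neg_neg, neg_neg] at this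
  calc X 4 (-s) * X 5 (-t) * (X 3 (-(s * t)) * (X 2 (-(s ^ 2 * t)) * (X 1 (s ^ 3 * t) * X 0 (s ^ 3 * t ^ 2)))) *
        (X 1 (-(s ^ 3 * t)) * X 0 (-(s ^ 3 * t ^ 2)))
      = X 4 (-s) * X 5 (-t) * (X 3 (-(s * t)) * X 2 (-(s ^ 2 * t))) *
        (X 1 (s ^ 3 * t) * X 0 (s ^ 3 * t ^ 2) * (X 1 (-(s ^ 3 * t)) * X 0 (-(s ^ 3 * t ^ 2)))) := by
        simp only [mul_assoc]
    _ = _ := by rw [k', mul_one]

/-- the generators of `²G₂` are fixed by the twisting automorphism -/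
theorem reeU_mem_Fix (t u v : K) : reeU m t u v ∈ C.Fix := by
  have := C.char3
  rw [reeU_split]
  exact Subgroup.mul_mem _ ⟨R1_mem_group t, C.tau_R1 t⟩ ⟨R2_mem_group u v, C.tau_R2 u v⟩

theorem reeV_mem_Fix (t u v : K) : reeV m t u v ∈ C.Fix := by
  have := C.char3
  rw [reeV_split]
  exact Subgroup.mul_mem _ ⟨R1V_mem_group t, C.tau_R1V t⟩ ⟨R2V_mem_group u v, C.tau_R2V u v⟩

/-- `²G₂` consists of fixed points -/
theorem twisted_le_Fix : twistedG2 K (3 ^ m) ≤ C.Fix := by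
  unfold twistedG2 ChevalleyDatum.genSubgroup
  rw [Subgroup.closure_le]
  rintro g ⟨w, ⟨t, u, v, rfl | rfl⟩, hg⟩
  · have : g = reeU m t u v := Units.ext (by rw [hg, reeU_val])
    rw [this]; exact C.reeU_mem_Fix t u v
  · have : g = reeV m t u v := Units.ext (by rw [hg, reeV_val])
    rw [this]; exact C.reeV_mem_Fix t u v

end ReeCtx

end Cfsg.Agent.Helper6.Ree
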