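import Mathlib
import Cfsg.Agent.Helper6.Ree.G2ReeU

set_option autoImplicit false
set_option linter.unusedSectionVars false
set_option linter.unusedVariables false
set_option linter.unusedSimpArgs false

/-!
The fixed points of the twisting automorphism on `U`: they are the elements `reeU m t u v`.
-/

namespace Cfsg.Agent.Helper6.Ree

open Cfsg.Lie Cfsg.Agent.Helper6

variable {K : Type*} [Field K] {m : ℕ}

theorem X_mem_Uge {k r : ℕ} (hkr : k ≤ r) (hr : r < 12) (t : K) : X r t ∈ Uge chevG2 K k :=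
  xU_mem_Uge hB2 hkr hr t

theorem U_eq_Uge : chevG2.posUnipotent K = Uge chevG2 K 6 := posUnipotent_eq_Uge g2_tab

/-- `U_8` in coordinates -/
theorem uge8_exists {g : GL chevG2.Idx K} (hg : g ∈ Uge chevG2 K 8) :
    ∃ a b c d : K, g = X 8 a * X 9 b * (X 10 c * X 11 d) := by
  obtain ⟨t, ht⟩ := uge_exists (F := K) g2_tab (k := 8) (m := 4) (by decide) (by decide) hg
  refine ⟨t 8, t 9, t 10, t 11, ?_⟩
  rw [ht]
  have : List.range' 8 4 = [8, 9, 10, 11] := by decide
  rw [this]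
  simp only [List.map_cons, List.map_nil, wordU_cons, wordU_nil, mul_one, mul_assoc]

theorem uge8_unique {a b c d a' b' c' d' : K}
    (h : X 8 a * X 9 b * (X 10 c * X 11 d) = X 8 a' * X 9 b' * (X 10 c' * X 11 d')) :
    a = a' ∧ b = b' ∧ c = c' ∧ d = d' := by
  let t : ℕ → K := fun r => if r = 8 then a else if r = 9 then b else if r = 10 then c else d
  let t' : ℕ → K := fun r => if r = 8 then a' else if r = 9 then b' else if r = 10 then c' else d'
  have hl : List.range' 8 4 = [8, 9, 10, 11] := by decide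
  have key := uge_unique (F := K) g2_tab (k := 8) (m := 4) (t := t) (t' := t') (by decide) (by decide)
    (by
      rw [hl]
      simp only [List.map_cons, List.map_nil, wordU_cons, wordU_nil, mul_one]
      simp only [t, t']
      norm_num
      simpa only [mul_assoc] using h)
  refine ⟨?_, ?_, ?_, ?_⟩
  · simpa [t, t'] using key 8 (by norm_num) (by decide)
  · simpa [t, t'] using key 9 (by norm_num) (by decide)
  · simpa [t, t'] using key 10 (by norm_num) (by decide)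
  · simpa [t, t'] using key 11 (by norm_num) (by decide)

/-- `x_a(p) x_b(q) = x_b(q) x_a(p) c` with `c ∈ U_8` -/
theorem swap_76 (p q : K) : ∃ c ∈ Uge chevG2 K 8, X 7 p * X 6 q = X 6 q * X 7 p * c := by
  refine ⟨(X 8 (p * q) * (X 9 (p ^ 2 * q) * (X 10 (-(p ^ 3 * q)) * X 11 (-(p ^ 3 * q ^ 2)))))⁻¹,
    ?_, ?_⟩
  · apply Subgroup.inv_mem
    exact Subgroup.mul_mem _ (X_mem_Uge (by norm_num) (by norm_num) _)
      (Subgroup.mul_mem _ (X_mem_Uge (by norm_num) (by norm_num) _)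
        (Subgroup.mul_mem _ (X_mem_Uge (by norm_num) (by norm_num) _)
          (X_mem_Uge (by norm_num) (by norm_num) _)))
  · rw [comm76 p q]
    group

theorem R2_mem_Uge (u v : K) : R2 m u v ∈ Uge chevG2 K 8 := by
  unfold R2
  exact Subgroup.mul_mem _ (Subgroup.mul_mem _ (X_mem_Uge (by norm_num) (by norm_num) _)
    (X_mem_Uge (by norm_num) (by norm_num) _)) (Subgroup.mul_mem _
    (X_mem_Uge (by norm_num) (by norm_num) _) (X_mem_Uge (by norm_num) (by norm_num) _))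

/-- `R1 t = x_b(t) x_a(t^θ) c` with `c ∈ U_8` -/
theorem R1_form (t : K) : ∃ c ∈ Uge chevG2 K 8, R1 m t = X 6 t * (X 7 (t ^ 3 ^ m) * c) := by
  obtain ⟨c, hc, h⟩ := swap_76 (t ^ 3 ^ m) t
  refine ⟨c * (X 8 (t ^ 3 ^ m * t) * X 9 ((t ^ 3 ^ m) ^ 2 * t)), ?_, ?_⟩
  · exact Subgroup.mul_mem _ hc (Subgroup.mul_mem _ (X_mem_Uge (by norm_num) (by norm_num) _)
      (X_mem_Uge (by norm_num) (by norm_num) _))
  · unfold R1
    rw [h]
    simp only [mul_assoc]

/-- uniqueness of the first two coordinates -/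
theorem uge6_unique {a b a' b' : K} {g g' : GL chevG2.Idx K} (hg : g ∈ Uge chevG2 K 8)
    (hg' : g' ∈ Uge chevG2 K 8) (h : X 6 a * (X 7 b * g) = X 6 a' * (X 7 b' * g')) :
    a = a' ∧ b = b' ∧ g = g' := by
  have h7 : ∀ (b : K) {g : GL chevG2.Idx K}, g ∈ Uge chevG2 K 8 → X 7 b * g ∈ Uge chevG2 K 7 :=
    fun b g hg => Subgroup.mul_mem _ (X_mem_Uge le_rfl (by norm_num) _)
      (Uge_mono (by norm_num) hg)
  obtain ⟨e1, e2⟩ := uge_split_unique (F := K) g2_tab (k := 6) (by decide) (by decide)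
    (h7 b hg) (h7 b' hg') h
  obtain ⟨e3, e4⟩ := uge_split_unique (F := K) g2_tab (k := 7) (by decide) (by decide) hg hg' e2
  exact ⟨e1, e3, e4⟩

/-- `U` in coordinates -/
theorem uge6_exists {g : GL chevG2.Idx K} (hg : g ∈ chevG2.posUnipotent K) :
    ∃ a b : K, ∃ g' ∈ Uge chevG2 K 8, g = X 6 a * (X 7 b * g') := by
  rw [U_eq_Uge] at hg
  obtain ⟨a, g₁, hg₁, rfl⟩ := uge_split (F := K) g2_tab (k := 6) (by decide) hg
  obtain ⟨b, g₂, hg₂, rfl⟩ := uge_split (F := K) g2_tab (k := 7) (by decide) hg₁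
  exact ⟨a, b, g₂, hg₂, rfl⟩

namespace ReeCtx

variable (C : ReeCtx K m)

theorem tau_mem_Uge8 {g : GL chevG2.Idx K} (hg : g ∈ Uge chevG2 K 8) : C.tau g ∈ Uge chevG2 K 8 := by
  have hle := uge_le_group (F := K) g2_tab 8
  unfold Uge at hg
  induction hg using Subgroup.closure_induction with
  | mem g hg =>
    obtain ⟨r, t, h1, h2, h3⟩ := hg
    have : g = X r t := Units.ext (by rw [h3]; rfl)
    rw [this, C.tau_X h2]
    have h2' : r < 12 := h2
    refine X_mem_Uge ?_ (rhoG_lt h2) _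
    interval_cases r <;> simp_all [rhoG]
  | one => rw [C.tau_one]; exact Subgroup.one_mem _
  | mul a b ha hb iha ihb =>
    rw [C.tau_mul (hle ha) (hle hb)]
    exact Subgroup.mul_mem _ iha ihb
  | inv a ha iha =>
    rw [C.tau_inv (hle ha)]
    exact Subgroup.inv_mem _ iha

/-- the fixed points in `U_8` -/
theorem fix_uge8 {g : GL chevG2.Idx K} (hg : g ∈ Uge chevG2 K 8) (hf : C.tau g = g) :
    ∃ u v : K, g = R2 m u v := by
  obtain ⟨a, b, c, d, rfl⟩ := uge8_exists hg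
  rw [C.tau_four (by norm_num) (by norm_num) (by norm_num) (by norm_num),
    exG_short (by decide), exG_short (by decide), exG_long (by decide), exG_long (by decide)] at hf
  simp only [show rhoG 8 = 10 from rfl, show rhoG 9 = 11 from rfl, show rhoG 10 = 8 from rfl,
    show rhoG 11 = 9 from rfl] at hf
  have hc : Commute (X 10 (a ^ (3 * 3 ^ m)) * X 11 (b ^ (3 * 3 ^ m))) (X 8 (c ^ 3 ^ m) * X 9 (d ^ 3 ^ m)) :=
    Commute.mul_left (Commute.mul_right (c_8_10 _ _).symm (c_9_10 _ _).symm)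
      (Commute.mul_right (c_8_11 _ _).symm (c_9_11 _ _).symm)
  rw [hc.eq] at hf
  obtain ⟨h1, h2, _, _⟩ := uge8_unique hf
  refine ⟨c, d, ?_⟩
  unfold R2
  rw [h1, h2]

/-- the fixed points in `U` -/
theorem fix_U {g : GL chevG2.Idx K} (hg : g ∈ chevG2.posUnipotent K) (hf : C.tau g = g) :
    ∃ t u v : K, g = reeU m t u v := by
  have := C.char3
  obtain ⟨a, b, g', hg', rfl⟩ := uge6_exists hg
  have hle := uge_le_group (F := K) g2_tab 8
  have hg'G := hle hg'
  rw [C.tau_mul (X_mem_group (by norm_num) _) (Subgroup.mul_mem _ (X_mem_group (by norm_num) _) hg'G),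
    C.tau_mul (X_mem_group (by norm_num) _) hg'G, C.tau_X (by norm_num), C.tau_X (by norm_num),
    exG_long (by decide), exG_short (by decide)] at hf
  simp only [show rhoG 6 = 7 from rfl, show rhoG 7 = 6 from rfl] at hf
  obtain ⟨c, hc, hsw⟩ := swap_76 (a ^ 3 ^ m) (b ^ (3 * 3 ^ m))
  have hf' : X 6 (b ^ (3 * 3 ^ m)) * (X 7 (a ^ 3 ^ m) * (c * C.tau g')) = X 6 a * (X 7 b * g') := by
    rw [← hf, ← mul_assoc (X 7 _) (X 6 _), hsw]
    simp only [mul_assoc]
  obtain ⟨e1, e2, _⟩ := uge6_unique (Subgroup.mul_mem _ hc (C.tau_mem_Uge8 hg')) hg' hf'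
  -- peel off `R1 a`
  obtain ⟨d, hd, hR⟩ := R1_form (m := m) a
  have hgR : (R1 m a)⁻¹ * (X 6 a * (X 7 b * g')) = d⁻¹ * g' := by
    rw [hR, e2]
    group
  have hmem : (R1 m a)⁻¹ * (X 6 a * (X 7 b * g')) ∈ Uge chevG2 K 8 := by
    rw [hgR]
    exact Subgroup.mul_mem _ (Subgroup.inv_mem _ hd) hg'
  have hgG : X 6 a * (X 7 b * g') ∈ chevG2.group K :=
    Subgroup.mul_mem _ (X_mem_group (by norm_num) _) (Subgroup.mul_mem _ (X_mem_group (by norm_num) _) hg'G)
  have hfix : C.tau ((R1 m a)⁻¹ * (X 6 a * (X 7 b * g'))) = (R1 m a)⁻¹ * (X 6 a * (X 7 b * g')) := by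
    have hf0 : C.tau (X 6 a * (X 7 b * g')) = X 6 a * (X 7 b * g') := by
      rw [C.tau_mul (X_mem_group (by norm_num) _) (Subgroup.mul_mem _ (X_mem_group (by norm_num) _) hg'G),
        C.tau_mul (X_mem_group (by norm_num) _) hg'G, C.tau_X (by norm_num), C.tau_X (by norm_num),
        exG_long (by decide), exG_short (by decide)]
      simp only [show rhoG 6 = 7 from rfl, show rhoG 7 = 6 from rfl]
      exact hf
    rw [C.tau_mul (Subgroup.inv_mem _ (R1_mem_group a)) hgG, C.tau_inv (R1_mem_group a), C.tau_R1, hf0]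
  obtain ⟨u, v, huv⟩ := C.fix_uge8 hmem hfix
  refine ⟨a, u, v, ?_⟩
  rw [reeU_split, ← huv]
  group

end ReeCtx

end Cfsg.Agent.Helper6.Ree
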