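import Mathlib
import Cfsg.Agent.Helper6.Ree.G2FixU

set_option autoImplicit false
set_option linter.unusedSectionVars false
set_option linter.unusedVariables false
set_option linter.unusedSimpArgs false

/-!
`U ∩ ²G₂ = U ∩ Fix = {reeU m t u v}`, of order `q³`.
-/

namespace Cfsg.Agent.Helper6.Ree

open Cfsg.Lie Cfsg.Agent.Helper6

variable {K : Type*} [Field K] {m : ℕ}

theorem X_mem_U {r : ℕ} (h6 : 6 ≤ r) (hr : r < 12) (t : K) : X r t ∈ chevG2.posUnipotent K := by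
  rw [U_eq_Uge]
  exact X_mem_Uge h6 hr t

theorem reeU_mem_U (t u v : K) : reeU m t u v ∈ chevG2.posUnipotent K := by
  rw [reeU_eq]
  exact Subgroup.mul_mem _ (X_mem_U (by norm_num) (by norm_num) _)
    (Subgroup.mul_mem _ (X_mem_U (by norm_num) (by norm_num) _)
      (Subgroup.mul_mem _ (X_mem_U (by norm_num) (by norm_num) _)
        (Subgroup.mul_mem _ (X_mem_U (by norm_num) (by norm_num) _)
          (Subgroup.mul_mem _ (X_mem_U (by norm_num) (by norm_num) _)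
            (X_mem_U (by norm_num) (by norm_num) _)))))

theorem reeU_inj [CharP K 3] {t u v t' u' v' : K} (h : reeU m t u v = reeU m t' u' v') :
    t = t' ∧ u = u' ∧ v = v' := by
  rw [reeU_split, reeU_split] at h
  obtain ⟨c, hc, hR⟩ := R1_form (m := m) t
  obtain ⟨c', hc', hR'⟩ := R1_form (m := m) t'
  rw [hR, hR'] at h
  have h' : X 6 t * (X 7 (t ^ 3 ^ m) * (c * R2 m u v)) = X 6 t' * (X 7 (t' ^ 3 ^ m) * (c' * R2 m u' v')) := by
    simpa only [mul_assoc] using h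
  obtain ⟨e1, _, _⟩ := uge6_unique (Subgroup.mul_mem _ hc (R2_mem_Uge u v))
    (Subgroup.mul_mem _ hc' (R2_mem_Uge u' v')) h'
  subst e1
  rw [← hR, ← hR'] at h
  have h2 : R2 m u v = R2 m u' v' := mul_left_cancel h
  unfold R2 at h2
  obtain ⟨_, _, e3, e4⟩ := uge8_unique h2
  exact ⟨rfl, e3, e4⟩

namespace ReeCtx

variable (C : ReeCtx K m)

theorem mem_U_inf_Fix {g : GL chevG2.Idx K} :
    g ∈ chevG2.posUnipotent K ⊓ C.Fix ↔ ∃ t u v : K, g = reeU m t u v := by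
  constructor
  · rintro ⟨hU, hF⟩
    exact C.fix_U hU hF.2
  · rintro ⟨t, u, v, rfl⟩
    exact ⟨reeU_mem_U t u v, C.reeU_mem_Fix t u v⟩

theorem U_inf_twisted : chevG2.posUnipotent K ⊓ twistedG2 K (3 ^ m) = chevG2.posUnipotent K ⊓ C.Fix := by
  apply le_antisymm
  · exact inf_le_inf_left _ C.twisted_le_Fix
  · intro g hg
    obtain ⟨t, u, v, rfl⟩ := C.mem_U_inf_Fix.1 hg
    exact ⟨reeU_mem_U t u v, reeU_mem_twisted t u v⟩

/-- the parametrisation of `U ∩ Fix` -/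
noncomputable def paramU : K × K × K ≃ ↥(chevG2.posUnipotent K ⊓ C.Fix) := by
  have := C.char3
  refine Equiv.ofBijective (fun p => ⟨reeU m p.1 p.2.1 p.2.2, C.mem_U_inf_Fix.2 ⟨_, _, _, rfl⟩⟩) ⟨?_, ?_⟩
  · rintro ⟨t, u, v⟩ ⟨t', u', v'⟩ h
    obtain ⟨e1, e2, e3⟩ := reeU_inj (congrArg Subtype.val h)
    simp only at e1 e2 e3
    rw [e1, e2, e3]
  · rintro ⟨g, hg⟩
    obtain ⟨t, u, v, rfl⟩ := C.mem_U_inf_Fix.1 hg
    exact ⟨(t, u, v), rfl⟩

theorem card_U_inf_Fix [Fintype K] : Nat.card ↥(chevG2.posUnipotent K ⊓ C.Fix) = Fintype.card K ^ 3 := by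
  rw [← Nat.card_congr C.paramU, Nat.card_prod, Nat.card_prod, Nat.card_eq_fintype_card]
  ring

include C in
/-- `S1101`, given the twisting automorphism -/
theorem unipotent_elements [Fintype K] (hK : Fintype.card K = 3 ^ (2 * m + 1)) :
    (∀ g : GL chevG2.Idx K, g ∈ chevG2.posUnipotent K ⊓ twistedG2 K (3 ^ m) ↔
      ∃ t u v : K, (g : Matrix chevG2.Idx chevG2.Idx K) = chevG2.wordMat K (reeWordU (3 ^ m) t u v)) ∧
    Nat.card ↥(chevG2.posUnipotent K ⊓ twistedG2 K (3 ^ m)) = (3 ^ (2 * m + 1)) ^ 3 := by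
  constructor
  · intro g
    rw [C.U_inf_twisted, C.mem_U_inf_Fix]
    constructor
    · rintro ⟨t, u, v, rfl⟩
      exact ⟨t, u, v, reeU_val t u v⟩
    · rintro ⟨t, u, v, h⟩
      exact ⟨t, u, v, Units.ext (by rw [h, reeU_val])⟩
  · rw [C.U_inf_twisted, C.card_U_inf_Fix, hK]

end ReeCtx

end Cfsg.Agent.Helper6.Ree
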