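import Mathlib
import Cfsg.Agent.Helper6.Ree.G2CardU
import Cfsg.Agent.Helper6.Chev.TwFac

set_option autoImplicit false
set_option linter.unusedSectionVars false
set_option linter.unusedVariables false
set_option linter.unusedSimpArgs false

/-!
The twisting automorphism preserves `U`, `V`, `H`, `N`.
-/

namespace Cfsg.Agent.Helper6.Ree

open Cfsg.Lie Cfsg.Agent.Helper6

variable {K : Type*} [Field K] {m : ℕ}

/-- the `(B, N)`-data of `G₂(K)` -/
theorem bn2 : BNData chevG2 K := bnData_of_tabulated K g2_tab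

theorem neg_eq {r : ℕ} (hr : r < 12) : chevG2.neg r = 11 - r := by
  interval_cases r <;> rfl

theorem rhoG_neg {r : ℕ} (hr : r < 12) : rhoG (11 - r) = 11 - rhoG r := by
  interval_cases r <;> rfl

theorem exG_neg {r : ℕ} (hr : r < 12) : exG m (11 - r) = exG m r := by
  interval_cases r <;> simp [exG]

theorem rhoG_pos {r : ℕ} (hr : r < 12) (h : 6 ≤ r) : 6 ≤ rhoG r := by
  interval_cases r <;> decide

theorem rhoG_negative {r : ℕ} (h : r < 6) : rhoG r < 6 := by
  interval_cases r <;> decide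

theorem isPos_iff {r : ℕ} : chevG2.IsPosRoot r ↔ (6 ≤ r ∧ r < 12) := by
  constructor
  · intro h
    have := ((bn2 (K := ℚ)).hsign r h.1).1.1 h
    exact ⟨this, h.1⟩
  · rintro ⟨h1, h2⟩
    exact ((bn2 (K := ℚ)).hsign r h2).1.2 h1

theorem isNeg_iff {r : ℕ} : chevG2.IsNegRoot r ↔ r < 6 := by
  constructor
  · intro h
    exact ((bn2 (K := ℚ)).hsign r h.1).2.1 h
  · intro h
    have h12 : r < chevG2.nroots := by show r < 12; omega
    exact ((bn2 (K := ℚ)).hsign r h12).2.2 h

theorem odd_exG (r : ℕ) : Odd (exG m r) := by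
  unfold exG
  split_ifs
  · exact Odd.mul (by decide) (Odd.pow (by decide))
  · exact Odd.pow (by decide)

theorem U_le_group : chevG2.posUnipotent K ≤ chevG2.group K := by
  rw [U_eq_Uge]; exact uge_le_group g2_tab 6

theorem V_le_group : chevG2.negUnipotent K ≤ chevG2.group K := by
  unfold ChevalleyDatum.negUnipotent
  rw [Subgroup.closure_le]
  rintro g ⟨r, t, hr, hg⟩
  have : g = X r t := Units.ext (by rw [hg]; rfl)
  rw [this]
  exact X_mem_group hr.1 t

theorem N_le_group : chevG2.monomialSubgroup K ≤ chevG2.group K := (bn2 (K := K)).monomial_le_group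

theorem H_le_group : chevG2.diagonalSubgroup K ≤ chevG2.group K :=
  le_trans (bn2 (K := K)).diag_le_monomial N_le_group

theorem B_le_group : chevG2.borelSubgroup K ≤ chevG2.group K := (bn2 (K := K)).borel_le_group

/-- `n_r(t)` as a group element -/
theorem nU_eq {r : ℕ} (hr : r < 12) {t : K} (ht : t ≠ 0) :
    nU hB2 r ht = X r t * X (11 - r) (-t⁻¹) * X r t := by
  apply Units.ext
  rw [nU_val]
  unfold ChevalleyDatum.nMat ChevalleyDatum.nWord
  rw [neg_eq hr]
  simp only [Units.val_mul, X_val, ChevalleyDatum.wordMat, List.map_cons, List.map_nil,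
    List.prod_cons, List.prod_nil, mul_one, mul_assoc]

namespace ReeCtx

variable (C : ReeCtx K m)

theorem tau_mem_U {g : GL chevG2.Idx K} (hg : g ∈ chevG2.posUnipotent K) :
    C.tau g ∈ chevG2.posUnipotent K := by
  have hle := U_le_group (K := K)
  unfold ChevalleyDatum.posUnipotent at hg
  induction hg using Subgroup.closure_induction with
  | mem g hg =>
    obtain ⟨r, t, hr, h3⟩ := hg
    have : g = X r t := Units.ext (by rw [h3]; rfl)
    have hr' := isPos_iff.1 hr
    rw [this, C.tau_X hr'.2]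
    exact X_mem_U (rhoG_pos hr'.2 hr'.1) (rhoG_lt hr'.2) _
  | one => rw [C.tau_one]; exact Subgroup.one_mem _
  | mul a b ha hb iha ihb =>
    rw [C.tau_mul (hle ha) (hle hb)]
    exact Subgroup.mul_mem _ iha ihb
  | inv a ha iha =>
    rw [C.tau_inv (hle ha)]
    exact Subgroup.inv_mem _ iha

theorem X_mem_V {r : ℕ} (hr : r < 6) (t : K) : X r t ∈ chevG2.negUnipotent K :=
  Subgroup.subset_closure ⟨r, t, isNeg_iff.2 hr, rfl⟩

theorem tau_mem_V {g : GL chevG2.Idx K} (hg : g ∈ chevG2.negUnipotent K) :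
    C.tau g ∈ chevG2.negUnipotent K := by
  have hle := V_le_group (K := K)
  unfold ChevalleyDatum.negUnipotent at hg
  induction hg using Subgroup.closure_induction with
  | mem g hg =>
    obtain ⟨r, t, hr, h3⟩ := hg
    have : g = X r t := Units.ext (by rw [h3]; rfl)
    have hr' := isNeg_iff.1 hr
    rw [this, C.tau_X (by omega)]
    exact X_mem_V (rhoG_negative hr') _
  | one => rw [C.tau_one]; exact Subgroup.one_mem _
  | mul a b ha hb iha ihb =>
    rw [C.tau_mul (hle ha) (hle hb)]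
    exact Subgroup.mul_mem _ iha ihb
  | inv a ha iha =>
    rw [C.tau_inv (hle ha)]
    exact Subgroup.inv_mem _ iha

/-- the automorphism on the elements `n_r(t)` -/
theorem tau_nU {r : ℕ} (hr : r < 12) {t : K} (ht : t ≠ 0) :
    C.tau (nU hB2 r ht) = nU hB2 (rhoG r) (pow_ne_zero (exG m r) ht) := by
  have hr' : 11 - r < 12 := by omega
  rw [nU_eq hr, nU_eq (rhoG_lt hr),
    C.tau_mul (Subgroup.mul_mem _ (X_mem_group hr _) (X_mem_group hr' _)) (X_mem_group hr _),
    C.tau_mul (X_mem_group hr _) (X_mem_group hr' _), C.tau_X hr, C.tau_X hr', rhoG_neg hr,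
    exG_neg hr, (odd_exG r).neg_pow, inv_pow]

theorem nU_mem_N {r : ℕ} (hr : r < 12) : nU hB2 r (one_ne_zero (α := K)) ∈ chevG2.monomialSubgroup K :=
  nU_one_mem_monomial hB2 hr

/-- `h_r(t)` as a group element -/
theorem hU_eq {r : ℕ} (hr : r < 12) {t : K} (ht : t ≠ 0) {g : GL chevG2.Idx K}
    (hg : (g : Matrix chevG2.Idx chevG2.Idx K) = chevG2.hMat K r t) :
    g = nU hB2 r ht * nU hB2 r (neg_ne_zero.2 (one_ne_zero (α := K))) := by
  apply Units.ext
  rw [hg, Units.val_mul, nU_val, nU_val]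
  unfold ChevalleyDatum.hMat ChevalleyDatum.hWord ChevalleyDatum.nMat ChevalleyDatum.wordMat
  rw [List.map_append, List.prod_append]

theorem hU_mem_H {r : ℕ} (hr : r < 12) {t : K} (ht : t ≠ 0) :
    nU hB2 r ht * nU hB2 r (neg_ne_zero.2 (one_ne_zero (α := K))) ∈ chevG2.diagonalSubgroup K := by
  apply Subgroup.subset_closure
  refine ⟨r, t, hr, ht, ?_⟩
  rw [Units.val_mul, nU_val, nU_val]
  unfold ChevalleyDatum.hMat ChevalleyDatum.hWord ChevalleyDatum.nMat ChevalleyDatum.wordMat
  rw [List.map_append, List.prod_append]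

theorem nU_mem_group {r : ℕ} (hr : r < 12) {t : K} (ht : t ≠ 0) : nU hB2 r ht ∈ chevG2.group K := by
  rw [nU_eq hr]
  exact Subgroup.mul_mem _ (Subgroup.mul_mem _ (X_mem_group hr _) (X_mem_group (by omega) _))
    (X_mem_group hr _)

theorem tau_mem_H {g : GL chevG2.Idx K} (hg : g ∈ chevG2.diagonalSubgroup K) :
    C.tau g ∈ chevG2.diagonalSubgroup K := by
  have hle := H_le_group (K := K)
  unfold ChevalleyDatum.diagonalSubgroup at hg
  induction hg using Subgroup.closure_induction with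
  | mem g hg =>
    obtain ⟨r, t, hr, ht, h3⟩ := hg
    have hr' : r < 12 := hr
    rw [hU_eq hr' ht h3, C.tau_mul (nU_mem_group hr' _) (nU_mem_group hr' _), C.tau_nU hr',
      C.tau_nU hr']
    have e : ((-1 : K)) ^ exG m r = -1 := (odd_exG r).neg_one_pow
    have := hU_mem_H (K := K) (rhoG_lt hr') (pow_ne_zero (exG m r) ht)
    convert this using 3
  | one => rw [C.tau_one]; exact Subgroup.one_mem _
  | mul a b ha hb iha ihb =>
    rw [C.tau_mul (hle ha) (hle hb)]
    exact Subgroup.mul_mem _ iha ihb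
  | inv a ha iha =>
    rw [C.tau_inv (hle ha)]
    exact Subgroup.inv_mem _ iha

theorem tau_mem_N {g : GL chevG2.Idx K} (hg : g ∈ chevG2.monomialSubgroup K) :
    C.tau g ∈ chevG2.monomialSubgroup K := by
  have hle := N_le_group (K := K)
  have hsup : ∀ g ∈ (chevG2.diagonalSubgroup K : Set (GL chevG2.Idx K)) ∪
      {g | ∃ r : ℕ, r < chevG2.nroots ∧ (g : Matrix chevG2.Idx chevG2.Idx K) = chevG2.nMat K r 1},
      C.tau g ∈ chevG2.monomialSubgroup K := by
    rintro g (hg | ⟨r, hr, hg⟩)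
    · exact (bn2 (K := K)).diag_le_monomial (C.tau_mem_H hg)
    · have hr' : r < 12 := hr
      have : g = nU hB2 r (one_ne_zero (α := K)) := Units.ext (by rw [hg, nU_val])
      rw [this, C.tau_nU hr']
      have e : (1 : K) ^ exG m r = 1 := one_pow _
      have := nU_mem_N (K := K) (rhoG_lt hr')
      convert this using 2
  have hN : chevG2.monomialSubgroup K = Subgroup.closure
      ((chevG2.diagonalSubgroup K : Set (GL chevG2.Idx K)) ∪
      {g | ∃ r : ℕ, r < chevG2.nroots ∧ (g : Matrix chevG2.Idx chevG2.Idx K) = chevG2.nMat K r 1}) := by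
    unfold ChevalleyDatum.monomialSubgroup
    rw [Subgroup.closure_union, Subgroup.closure_eq]
  rw [hN] at hg
  induction hg using Subgroup.closure_induction with
  | mem g hg => exact hsup g hg
  | one => rw [C.tau_one]; exact Subgroup.one_mem _
  | mul a b ha hb iha ihb =>
    rw [← hN] at ha hb
    rw [C.tau_mul (hle ha) (hle hb)]
    exact Subgroup.mul_mem _ iha ihb
  | inv a ha iha =>
    rw [← hN] at ha
    rw [C.tau_inv (hle ha)]
    exact Subgroup.inv_mem _ iha

theorem tau_mem_B {g : GL chevG2.Idx K} (hg : g ∈ chevG2.borelSubgroup K) :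
    C.tau g ∈ chevG2.borelSubgroup K := by
  have hg' : g ∈ ((chevG2.posUnipotent K ⊔ chevG2.diagonalSubgroup K : Subgroup (GL chevG2.Idx K)) :
      Set (GL chevG2.Idx K)) := hg
  have Δ := bn2 (K := K)
  rw [Subgroup.coe_mul_of_right_le_normalizer_left _ _
    (diagonal_le_normalizer_posUnipotent Δ.hB Δ.hAll Δ.hAdd Δ.hH), Set.mem_mul] at hg'
  obtain ⟨u, hu, h, hh, rfl⟩ := hg'
  rw [C.tau_mul (U_le_group hu) (H_le_group hh)]
  exact Subgroup.mul_mem _ (Δ.posUnipotent_le_borel (C.tau_mem_U hu)) (Δ.diag_le_borel (C.tau_mem_H hh))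

end ReeCtx

end Cfsg.Agent.Helper6.Ree
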