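import Mathlib
import Cfsg.Agent.Helper6.Chev.TwFac

set_option autoImplicit false
set_option linter.unusedSectionVars false
set_option linter.unusedVariables false
set_option linter.unusedSimpArgs false

/-!
The refined normal form `g = u₁ n u`, `u₁ ∈ U`, `n ∈ N`, `u ∈ U_w⁻(n)`, of the elements of a Chevalley
group, with uniqueness.
-/

namespace Cfsg.Agent.Helper6

open Cfsg.Lie
open Cfsg.Agent.Helper2.BN

variable {D : ChevalleyDatum} {F : Type*} [Field F]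

namespace BNData

variable (Δ : BNData D F)

include Δ in
theorem diag_conj_negUnipotent {h : GL D.Idx F} (hh : h ∈ D.diagonalSubgroup F) {u : GL D.Idx F}
    (hu : u ∈ D.negUnipotent F) : h * u * h⁻¹ ∈ D.negUnipotent F :=
  ((Subgroup.mem_normalizer_iff.1
    (diagonal_le_normalizer_negUnipotent Δ.hB Δ.hAll Δ.hAdd Δ.hH hh)) u).1 hu

include Δ in
/-- `U_w⁻(h n) = U_w⁻(n)` -/
theorem Un_diag_mul {n h : GL D.Idx F} (hn : n ∈ D.monomialSubgroup F)
    (hh : h ∈ D.diagonalSubgroup F) : Δ.Un (h * n) = Δ.Un n := by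
  have hhn : h * n ∈ D.monomialSubgroup F := Subgroup.mul_mem _ (Δ.diag_le_monomial hh) hn
  ext u
  rw [Δ.mem_Un_iff hn, Δ.mem_Un_iff hhn]
  constructor
  · rintro ⟨h1, h2⟩
    refine ⟨h1, ?_⟩
    have := Δ.diag_conj_negUnipotent (Subgroup.inv_mem _ hh) h2
    have e : h⁻¹ * (h * n * u * (h * n)⁻¹) * h⁻¹⁻¹ = n * u * n⁻¹ := by group
    rwa [e] at this
  · rintro ⟨h1, h2⟩
    refine ⟨h1, ?_⟩
    have := Δ.diag_conj_negUnipotent hh h2
    have e : h * (n * u * n⁻¹) * h⁻¹ = h * n * u * (h * n)⁻¹ := by group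
    rwa [e] at this

include Δ in
/-- `U_w⁻(n h) = U_w⁻(n)` -/
theorem Un_mul_diag {n h : GL D.Idx F} (hh : h ∈ D.diagonalSubgroup F) : Δ.Un (n * h) = Δ.Un n := by
  unfold Un
  rw [Δ.unegGen_mul_diag hh]

include Δ in
/-- existence of the refined normal form -/
theorem unu_exists {g : GL D.Idx F} (hg : g ∈ D.group F) :
    ∃ u₁ ∈ D.posUnipotent F, ∃ n ∈ D.monomialSubgroup F, ∃ u ∈ Δ.Un n, g = u₁ * n * u := by
  obtain ⟨b, hb, n, hn, u, hu, rfl⟩ := Δ.exists_normal_form hg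
  have hb' : b ∈ ((D.posUnipotent F ⊔ D.diagonalSubgroup F : Subgroup (GL D.Idx F)) :
      Set (GL D.Idx F)) := hb
  rw [Subgroup.coe_mul_of_right_le_normalizer_left _ _
    (diagonal_le_normalizer_posUnipotent Δ.hB Δ.hAll Δ.hAdd Δ.hH), Set.mem_mul] at hb'
  obtain ⟨u₁, hu₁, h, hh, rfl⟩ := hb'
  refine ⟨u₁, hu₁, h * n, Subgroup.mul_mem _ (Δ.diag_le_monomial hh) hn, u, ?_, by group⟩
  rw [Δ.Un_diag_mul hn hh]
  exact hu

include Δ in
/-- uniqueness of the refined normal form -/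
theorem unu_unique {u₁ u₁' n n' u u' : GL D.Idx F} (hu₁ : u₁ ∈ D.posUnipotent F)
    (hu₁' : u₁' ∈ D.posUnipotent F) (hn : n ∈ D.monomialSubgroup F)
    (hn' : n' ∈ D.monomialSubgroup F) (hu : u ∈ Δ.Un n) (hu' : u' ∈ Δ.Un n')
    (e : u₁ * n * u = u₁' * n' * u') : u₁ = u₁' ∧ n = n' ∧ u = u' := by
  have huniq := Δ.normal_form_unique (Δ.posUnipotent_le_borel hu₁)
    (Δ.posUnipotent_le_borel hu₁') hn hn' hu hu' e
  have hH := huniq.1
  obtain ⟨h, hdef⟩ : ∃ h, h = n⁻¹ * n' := ⟨_, rfl⟩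
  rw [← hdef] at hH
  have hn'eq : n' = n * h := by rw [hdef]; group
  have hu'' : u' ∈ Δ.Un n := by
    rw [hn'eq, Δ.Un_mul_diag hH] at hu'
    exact hu'
  have hconj := Δ.conj_diag_mem hn hH
  have hb' : u₁' * (n * h * n⁻¹) ∈ D.borelSubgroup F :=
    Subgroup.mul_mem _ (Δ.posUnipotent_le_borel hu₁') (Δ.diag_le_borel hconj)
  have e'' : u₁ * n * u = u₁' * (n * h * n⁻¹) * n * u' := by rw [e, hn'eq]; group
  have h2 := (Δ.normal_form_unique (Δ.posUnipotent_le_borel hu₁) hb' hn hn hu hu'' e'').2 rfl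
  have hmem : n * h * n⁻¹ ∈ D.posUnipotent F ⊓ D.diagonalSubgroup F := by
    refine ⟨?_, hconj⟩
    have : n * h * n⁻¹ = u₁'⁻¹ * u₁ := by rw [h2.1]; group
    rw [this]
    exact Subgroup.mul_mem _ (Subgroup.inv_mem _ hu₁') hu₁
  rw [posUnipotent_inf_diagonal Δ.hB Δ.hH Δ.good, Subgroup.mem_bot] at hmem
  have hh1 : h = 1 := by
    have : h = n⁻¹ * (n * h * n⁻¹) * n := by group
    rw [this, hmem]; group
  have hnn : n = n' := by rw [hn'eq, hh1, mul_one]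
  refine ⟨?_, hnn, h2.2⟩
  rw [h2.1, hmem, mul_one]

end BNData

end Cfsg.Agent.Helper6
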