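import Mathlib
import Cfsg.Agent.Helper6.Ree.G2Tau
import Cfsg.Agent.Helper6.Ree.NFU
import Cfsg.Agent.Helper6.Chev.TablesW0

set_option autoImplicit false
set_option linter.unusedSectionVars false
set_option linter.unusedVariables false
set_option linter.unusedSimpArgs false

/-!
The cells of the group of fixed points of the twisting automorphism of `G₂(K)`:
`Fix = U^σ N^σ U^σ` and `N^σ ⊆ H ∪ H n₀`.
-/

namespace Cfsg.Agent.Helper6.Ree

open Cfsg.Lie Cfsg.Agent.Helper6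

variable {K : Type*} [Field K] {m : ℕ}

/-- a representative of the longest element of the Weyl group -/
def nw0 (K : Type*) [Field K] : GL chevG2.Idx K := nW hB2 K [0, 1, 0, 1, 0, 1]

theorem nw0_mem_N : nw0 K ∈ chevG2.monomialSubgroup K :=
  nW_mem_monomial hB2 (bn2 (K := K)).hAll (by decide)

theorem wFold_w0 : ∀ s < 12, wFold chevG2 [0, 1, 0, 1, 0, 1] s = 11 - s := by decide

theorem wFold_w0' : ∀ s < 12, wFold chevG2 [1, 0, 1, 0, 1, 0] s = 11 - s := by decide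

theorem nw0_conj {s : ℕ} (hs : s < 12) (t : K) : ∃ t' : K, nw0 K * X s t * (nw0 K)⁻¹ = X (11 - s) t' := by
  obtain ⟨t', h⟩ := nW_conj (F := K) hB2 (bn2 (K := K)).hAll (L := [0, 1, 0, 1, 0, 1]) (by decide)
    (s := s) hs t
  rw [wFold_w0 s hs] at h
  exact ⟨t', h⟩

theorem nw0_inv_conj {s : ℕ} (hs : s < 12) (t : K) :
    ∃ t' : K, (nw0 K)⁻¹ * X s t * nw0 K = X (11 - s) t' := by
  obtain ⟨t', h⟩ := nW_inv_conj (F := K) hB2 (bn2 (K := K)).hAll (L := [0, 1, 0, 1, 0, 1]) (by decide)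
    (s := s) hs t
  have : [0, 1, 0, 1, 0, 1].reverse = [1, 0, 1, 0, 1, 0] := rfl
  rw [this, wFold_w0' s hs] at h
  exact ⟨t', h⟩

namespace ReeCtx

variable (C : ReeCtx K m)

theorem tau_mem_Un {n u : GL chevG2.Idx K} (hn : n ∈ chevG2.monomialSubgroup K)
    (hu : u ∈ (bn2 (K := K)).Un n) : C.tau u ∈ (bn2 (K := K)).Un (C.tau n) := by
  have Δ := bn2 (K := K)
  rw [Δ.mem_Un_iff hn] at hu
  rw [Δ.mem_Un_iff (C.tau_mem_N hn)]
  refine ⟨C.tau_mem_U hu.1, ?_⟩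
  have := C.tau_mem_V hu.2
  rwa [C.tau_mul (Subgroup.mul_mem _ (N_le_group hn) (U_le_group hu.1))
    (Subgroup.inv_mem _ (N_le_group hn)), C.tau_mul (N_le_group hn) (U_le_group hu.1),
    C.tau_inv (N_le_group hn)] at this

/-- the refined normal form of a fixed point consists of fixed points -/
theorem fix_decomp {g : GL chevG2.Idx K} (hg : g ∈ C.Fix) :
    ∃ u₁ ∈ chevG2.posUnipotent K ⊓ C.Fix, ∃ n ∈ chevG2.monomialSubgroup K ⊓ C.Fix,
      ∃ u ∈ (bn2 (K := K)).Un n ⊓ C.Fix, g = u₁ * n * u := by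
  have Δ := bn2 (K := K)
  obtain ⟨u₁, hu₁, n, hn, u, hu, rfl⟩ := Δ.unu_exists hg.1
  have huU := Δ.unegGen_le_posUnipotent _ hu
  have h1 := U_le_group hu₁
  have h2 := N_le_group hn
  have h3 := U_le_group huU
  have hf := hg.2
  rw [C.tau_mul (Subgroup.mul_mem _ h1 h2) h3, C.tau_mul h1 h2] at hf
  obtain ⟨e1, e2, e3⟩ := Δ.unu_unique (C.tau_mem_U hu₁) hu₁ (C.tau_mem_N hn) hn
    (C.tau_mem_Un hn hu) hu hf
  exact ⟨u₁, ⟨hu₁, h1, e1⟩, n, ⟨hn, h2, e2⟩, u, ⟨hu, h3, e3⟩, rfl⟩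

include C in
/-- every element of `K` is an `exG m r`-th power -/
theorem exists_pow_exG (r : ℕ) (t : K) : ∃ s : K, s ^ exG m r = t := by
  unfold exG
  split_ifs
  · exact ⟨t ^ 3 ^ m, C.pow_theta_theta t⟩
  · exact ⟨t ^ (3 * 3 ^ m), C.pow_theta_theta' t⟩

/-- the set of the roots made negative by a fixed element of `N` is stable -/
theorem invSet_rho {n : GL chevG2.Idx K} (hn : n ∈ chevG2.monomialSubgroup K ⊓ C.Fix) {r : ℕ}
    (hr : r ∈ invSet chevG2 K n) : rhoG r ∈ invSet chevG2 K n := by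
  have Δ := bn2 (K := K)
  rw [Δ.mem_invSet] at hr ⊢
  obtain ⟨hp, hV⟩ := hr
  have hp' := isPos_iff.1 hp
  refine ⟨isPos_iff.2 ⟨rhoG_pos hp'.2 hp'.1, rhoG_lt hp'.2⟩, fun t => ?_⟩
  obtain ⟨s, rfl⟩ := C.exists_pow_exG r t
  have := C.tau_mem_V (hV s)
  have hnG := N_le_group hn.1
  have hx : xU Δ.hB r s = X r s := rfl
  rw [hx, C.tau_mul (Subgroup.mul_mem _ hnG (X_mem_group hp'.2 _)) (Subgroup.inv_mem _ hnG),
    C.tau_mul hnG (X_mem_group hp'.2 _), C.tau_inv hnG, hn.2.2, C.tau_X hp'.2] at this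
  exact this

/-- a fixed element of `N` lies in `H` or in `H n₀⁻¹` -/
theorem N_fix_cases {n : GL chevG2.Idx K} (hn : n ∈ chevG2.monomialSubgroup K ⊓ C.Fix) :
    n ∈ chevG2.diagonalSubgroup K ∨ n * nw0 K ∈ chevG2.diagonalSubgroup K := by
  have Δ := bn2 (K := K)
  by_cases hH : n ∈ chevG2.diagonalSubgroup K
  · exact Or.inl hH
  · right
    obtain ⟨i, hi, hmem⟩ := Δ.exists_simple_mem_invSet hn.1 hH
    have hi' : i < 2 := hi
    have h6 : 6 ∈ invSet chevG2 K n ∧ 7 ∈ invSet chevG2 K n := by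
      interval_cases i
      · have h7 : chevG2.simple 0 = 7 := rfl
        rw [h7] at hmem
        exact ⟨C.invSet_rho hn hmem, hmem⟩
      · have h7 : chevG2.simple 1 = 6 := rfl
        rw [h7] at hmem
        exact ⟨hmem, C.invSet_rho hn hmem⟩
    apply Δ.mem_diag_of_simple_pos (Subgroup.mul_mem _ hn.1 nw0_mem_N)
    intro j hj t
    have hj' : j < 2 := hj
    have key : ∀ r, r ∈ invSet chevG2 K n → r < 12 →
        n * nw0 K * X r t * (n * nw0 K)⁻¹ ∈ chevG2.posUnipotent K := by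
      intro r hr hr12
      obtain ⟨t', ht'⟩ := nw0_conj (K := K) hr12 t
      have e : n * nw0 K * X r t * (n * nw0 K)⁻¹ = n * (nw0 K * X r t * (nw0 K)⁻¹) * n⁻¹ := by group
      rw [e, ht']
      have hV := (Δ.mem_invSet.1 hr).2
      have := Δ.pos_neg_of_neg hn.1 hr12 hV t'
      rwa [neg_eq hr12] at this
    interval_cases j
    · exact key 7 h6.2 (by norm_num)
    · exact key 6 h6.1 (by norm_num)

end ReeCtx

end Cfsg.Agent.Helper6.Ree
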