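import Mathlib
import Cfsg.Agent.Helper6.Ree.G2Cells

set_option autoImplicit false
set_option linter.unusedSectionVars false
set_option linter.unusedVariables false
set_option linter.unusedSimpArgs false

/-!
The element `n₀ = n_{a+b}(1) n_{3a+b}(1)` of `N ∩ ²G₂`.
-/

namespace Cfsg.Agent.Helper6.Ree

open Cfsg.Lie Cfsg.Agent.Helper6

variable {K : Type*} [Field K] {m : ℕ}

/-- the representative in `²G₂` of the nontrivial element of the Weyl group -/
def n0 (K : Type*) [Field K] (m : ℕ) : GL chevG2.Idx K := reeU m 0 1 0 * reeV m 0 1 0 * reeU m 0 1 0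

theorem n0_mem_twisted : n0 K m ∈ twistedG2 K (3 ^ m) :=
  Subgroup.mul_mem _ (Subgroup.mul_mem _ (reeU_mem_twisted _ _ _) (reeV_mem_twisted _ _ _))
    (reeU_mem_twisted _ _ _)

theorem reeU_010 : reeU m (0 : K) 1 0 = X 8 1 * X 10 1 := by
  rw [reeU_eq]
  have h0 : (0 : K) ^ 3 ^ m = 0 := zero_pow (by positivity)
  rw [h0, zero_pow (Nat.succ_ne_zero _), zero_pow (Nat.succ_ne_zero _), one_pow, X_zero, X_zero, X_zero, zero_add,
    zero_add, X_zero]
  simp only [one_mul, mul_one]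

theorem reeV_010 : reeV m (0 : K) 1 0 = X 3 (-1) * X 1 (-1) := by
  rw [reeV_eq]
  have h0 : (0 : K) ^ 3 ^ m = 0 := zero_pow (by positivity)
  rw [h0, zero_pow (Nat.succ_ne_zero _), zero_pow (Nat.succ_ne_zero _), one_pow, neg_zero, X_zero, X_zero, X_zero,
    zero_add, zero_add, neg_zero, X_zero]
  simp only [one_mul, mul_one]

theorem n0_eq : n0 K m = nU hB2 8 (one_ne_zero (α := K)) * nU hB2 10 (one_ne_zero (α := K)) := by
  unfold n0
  rw [reeU_010, reeV_010, nU_eq (by norm_num), nU_eq (by norm_num)]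
  simp only [inv_one]
  have c1 := (c_10_3 (1 : K) (-1)).eq
  have c2 := (c_8_1 (1 : K) (-1)).eq
  have c3 := (c_8_10 (1 : K) 1).eq
  generalize X 8 (1 : K) = A at *
  generalize X 10 (1 : K) = B at *
  generalize X 3 (-1 : K) = C' at *
  generalize X 1 (-1 : K) = D' at *
  calc A * B * (C' * D') * (A * B)
      = A * (B * C') * D' * A * B := by simp only [mul_assoc]
    _ = A * (C' * B) * D' * A * B := by rw [c1]
    _ = A * C' * B * (D' * A) * B := by simp only [mul_assoc]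
    _ = A * C' * B * (A * D') * B := by rw [c2]
    _ = A * C' * (B * A) * D' * B := by simp only [mul_assoc]
    _ = A * C' * (A * B) * D' * B := by rw [c3]
    _ = _ := by simp only [mul_assoc]

theorem n0_mem_N : n0 K m ∈ chevG2.monomialSubgroup K := by
  rw [n0_eq]
  exact Subgroup.mul_mem _ (nU_one_mem_monomial hB2 (by decide)) (nU_one_mem_monomial hB2 (by decide))

theorem X_ne_one {r : ℕ} (hr : r < 12) {a : K} (ha : a ≠ 0) : X r a ≠ 1 := by
  intro h
  have h2 := congrArg Units.val h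
  rw [X_val, Units.val_one, ← torMat_one (D := chevG2)] at h2
  exact ha (eq_zero_of_x_eq_torMat hB2 hr h2)

theorem reeV_010_ne_one : reeV m (0 : K) 1 0 ≠ 1 := by
  rw [reeV_010]
  intro h
  -- `x_{-a-b}(-1) = x_{-3a-b}(1)`
  have h1 : X 3 (-1 : K) = X 1 1 := by
    have : X 3 (-1 : K) = (X 3 (-1) * X 1 (-1)) * X 1 1 := by
      rw [mul_assoc, X_add, neg_add_cancel, X_zero, mul_one]
    rw [this, h, one_mul]
  obtain ⟨a, ha⟩ := nw0_conj (K := K) (s := 3) (by norm_num) (-1)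
  obtain ⟨b, hb⟩ := nw0_conj (K := K) (s := 1) (by norm_num) 1
  rw [h1, hb] at ha
  have ha' : X 8 a = X 10 b := ha.symm
  have ha0 : a ≠ 0 := by
    rintro rfl
    rw [X_zero] at ha'
    have h2 : X 1 (1 : K) = 1 := by
      have : X 1 (1 : K) = (nw0 K)⁻¹ * (nw0 K * X 1 1 * (nw0 K)⁻¹) * nw0 K := by group
      rw [this, hb, ← ha']; group
    exact X_ne_one (by norm_num) one_ne_zero h2
  have hmem : X 8 a ∈ Uge chevG2 K 9 := by
    rw [ha']; exact X_mem_Uge (by norm_num) (by norm_num) _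
  exact ha0 (xU_mem_uge_succ (F := K) g2_tab (k := 8) (by decide) (by decide) hmem)

theorem n0_not_mem_B : n0 K m ∉ chevG2.borelSubgroup K := by
  intro h
  have Δ := bn2 (K := K)
  have hU : reeU m (0 : K) 1 0 ∈ chevG2.borelSubgroup K := Δ.posUnipotent_le_borel (reeU_mem_U _ _ _)
  have hV : reeV m (0 : K) 1 0 ∈ chevG2.borelSubgroup K ⊓ chevG2.negUnipotent K := by
    constructor
    · have : reeV m (0 : K) 1 0 = (reeU m 0 1 0)⁻¹ * n0 K m * (reeU m 0 1 0)⁻¹ := by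
        unfold n0; group
      rw [this]
      exact Subgroup.mul_mem _ (Subgroup.mul_mem _ (Subgroup.inv_mem _ hU) h) (Subgroup.inv_mem _ hU)
    · rw [reeV_010]
      exact Subgroup.mul_mem _ (ReeCtx.X_mem_V (by norm_num) _) (ReeCtx.X_mem_V (by norm_num) _)
  rw [borel_inf_negUnipotent Δ.hB Δ.hH Δ.good2, Subgroup.mem_bot] at hV
  exact reeV_010_ne_one hV

theorem n0_not_mem_H : n0 K m ∉ chevG2.diagonalSubgroup K :=
  fun h => n0_not_mem_B ((bn2 (K := K)).diag_le_borel h)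

/-- `n₀⁻¹ U n₀ ⊆ V` for the standard representative -/
theorem nw0_inv_conj_U {u : GL chevG2.Idx K} (hu : u ∈ chevG2.posUnipotent K) :
    (nw0 K)⁻¹ * u * nw0 K ∈ chevG2.negUnipotent K := by
  unfold ChevalleyDatum.posUnipotent at hu
  induction hu using Subgroup.closure_induction with
  | mem g hg =>
    obtain ⟨r, t, hr, h3⟩ := hg
    have : g = X r t := Units.ext (by rw [h3]; rfl)
    have hr' := isPos_iff.1 hr
    obtain ⟨t', ht'⟩ := nw0_inv_conj (K := K) hr'.2 t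
    rw [this, ht']
    exact ReeCtx.X_mem_V (by omega) _
  | one => simp
  | mul a b _ _ iha ihb =>
    have : (nw0 K)⁻¹ * (a * b) * nw0 K = ((nw0 K)⁻¹ * a * nw0 K) * ((nw0 K)⁻¹ * b * nw0 K) := by group
    rw [this]; exact Subgroup.mul_mem _ iha ihb
  | inv a _ iha =>
    have : (nw0 K)⁻¹ * a⁻¹ * nw0 K = ((nw0 K)⁻¹ * a * nw0 K)⁻¹ := by group
    rw [this]; exact Subgroup.inv_mem _ iha

theorem nw0_conj_U {u : GL chevG2.Idx K} (hu : u ∈ chevG2.posUnipotent K) :
    nw0 K * u * (nw0 K)⁻¹ ∈ chevG2.negUnipotent K := by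
  unfold ChevalleyDatum.posUnipotent at hu
  induction hu using Subgroup.closure_induction with
  | mem g hg =>
    obtain ⟨r, t, hr, h3⟩ := hg
    have : g = X r t := Units.ext (by rw [h3]; rfl)
    have hr' := isPos_iff.1 hr
    obtain ⟨t', ht'⟩ := nw0_conj (K := K) hr'.2 t
    rw [this, ht']
    exact ReeCtx.X_mem_V (by omega) _
  | one => simp
  | mul a b _ _ iha ihb =>
    have : nw0 K * (a * b) * (nw0 K)⁻¹ = (nw0 K * a * (nw0 K)⁻¹) * (nw0 K * b * (nw0 K)⁻¹) := by group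
    rw [this]; exact Subgroup.mul_mem _ iha ihb
  | inv a _ iha =>
    have : nw0 K * a⁻¹ * (nw0 K)⁻¹ = (nw0 K * a * (nw0 K)⁻¹)⁻¹ := by group
    rw [this]; exact Subgroup.inv_mem _ iha

theorem nw0_inv_conj_V {u : GL chevG2.Idx K} (hu : u ∈ chevG2.negUnipotent K) :
    (nw0 K)⁻¹ * u * nw0 K ∈ chevG2.posUnipotent K := by
  unfold ChevalleyDatum.negUnipotent at hu
  induction hu using Subgroup.closure_induction with
  | mem g hg =>
    obtain ⟨r, t, hr, h3⟩ := hg
    have : g = X r t := Units.ext (by rw [h3]; rfl)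
    have hr' := isNeg_iff.1 hr
    obtain ⟨t', ht'⟩ := nw0_inv_conj (K := K) (s := r) (by omega) t
    rw [this, ht']
    exact X_mem_U (by omega) (by omega) _
  | one => simp
  | mul a b _ _ iha ihb =>
    have : (nw0 K)⁻¹ * (a * b) * nw0 K = ((nw0 K)⁻¹ * a * nw0 K) * ((nw0 K)⁻¹ * b * nw0 K) := by group
    rw [this]; exact Subgroup.mul_mem _ iha ihb
  | inv a _ iha =>
    have : (nw0 K)⁻¹ * a⁻¹ * nw0 K = ((nw0 K)⁻¹ * a * nw0 K)⁻¹ := by group
    rw [this]; exact Subgroup.inv_mem _ iha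

theorem nw0_conj_V {u : GL chevG2.Idx K} (hu : u ∈ chevG2.negUnipotent K) :
    nw0 K * u * (nw0 K)⁻¹ ∈ chevG2.posUnipotent K := by
  unfold ChevalleyDatum.negUnipotent at hu
  induction hu using Subgroup.closure_induction with
  | mem g hg =>
    obtain ⟨r, t, hr, h3⟩ := hg
    have : g = X r t := Units.ext (by rw [h3]; rfl)
    have hr' := isNeg_iff.1 hr
    obtain ⟨t', ht'⟩ := nw0_conj (K := K) (s := r) (by omega) t
    rw [this, ht']
    exact X_mem_U (by omega) (by omega) _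
  | one => simp
  | mul a b _ _ iha ihb =>
    have : nw0 K * (a * b) * (nw0 K)⁻¹ = (nw0 K * a * (nw0 K)⁻¹) * (nw0 K * b * (nw0 K)⁻¹) := by group
    rw [this]; exact Subgroup.mul_mem _ iha ihb
  | inv a _ iha =>
    have : nw0 K * a⁻¹ * (nw0 K)⁻¹ = (nw0 K * a * (nw0 K)⁻¹)⁻¹ := by group
    rw [this]; exact Subgroup.inv_mem _ iha

/-- elements of the big cell of `N` exchange `U` and `V` -/
theorem big_conj_U {n : GL chevG2.Idx K} (hn : n * nw0 K ∈ chevG2.diagonalSubgroup K)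
    {u : GL chevG2.Idx K} (hu : u ∈ chevG2.posUnipotent K) : n * u * n⁻¹ ∈ chevG2.negUnipotent K := by
  have Δ := bn2 (K := K)
  have e : n * u * n⁻¹ = (n * nw0 K) * ((nw0 K)⁻¹ * u * nw0 K) * (n * nw0 K)⁻¹ := by group
  rw [e]
  exact Δ.diag_conj_negUnipotent hn (nw0_inv_conj_U hu)

theorem big_conj_V {n : GL chevG2.Idx K} (hn : n * nw0 K ∈ chevG2.diagonalSubgroup K)
    {u : GL chevG2.Idx K} (hu : u ∈ chevG2.negUnipotent K) : n * u * n⁻¹ ∈ chevG2.posUnipotent K := by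
  have Δ := bn2 (K := K)
  have e : n * u * n⁻¹ = (n * nw0 K) * ((nw0 K)⁻¹ * u * nw0 K) * (n * nw0 K)⁻¹ := by group
  rw [e]
  exact Δ.diag_conj_posUnipotent hn (nw0_inv_conj_V hu)

theorem big_inv_conj_U {n : GL chevG2.Idx K} (hn : n * nw0 K ∈ chevG2.diagonalSubgroup K)
    {u : GL chevG2.Idx K} (hu : u ∈ chevG2.posUnipotent K) : n⁻¹ * u * n ∈ chevG2.negUnipotent K := by
  have Δ := bn2 (K := K)
  have e : n⁻¹ * u * n = nw0 K * ((n * nw0 K)⁻¹ * u * (n * nw0 K)⁻¹⁻¹) * (nw0 K)⁻¹ := by group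
  rw [e]
  exact nw0_conj_U (Δ.diag_conj_posUnipotent (Subgroup.inv_mem _ hn) hu)

theorem big_inv_conj_V {n : GL chevG2.Idx K} (hn : n * nw0 K ∈ chevG2.diagonalSubgroup K)
    {u : GL chevG2.Idx K} (hu : u ∈ chevG2.negUnipotent K) : n⁻¹ * u * n ∈ chevG2.posUnipotent K := by
  have Δ := bn2 (K := K)
  have e : n⁻¹ * u * n = nw0 K * ((n * nw0 K)⁻¹ * u * (n * nw0 K)⁻¹⁻¹) * (nw0 K)⁻¹ := by group
  rw [e]
  exact nw0_conj_V (Δ.diag_conj_negUnipotent (Subgroup.inv_mem _ hn) hu)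

/-- for `n` in the big cell, `U_w⁻(n) = U` -/
theorem big_Un {n : GL chevG2.Idx K} (hnN : n ∈ chevG2.monomialSubgroup K)
    (hn : n * nw0 K ∈ chevG2.diagonalSubgroup K) : (bn2 (K := K)).Un n = chevG2.posUnipotent K := by
  have Δ := bn2 (K := K)
  ext u
  rw [Δ.mem_Un_iff hnN]
  exact ⟨fun h => h.1, fun h => ⟨h, big_conj_U hn h⟩⟩

namespace ReeCtx

variable (C : ReeCtx K m)

theorem n0_mem_Fix : n0 K m ∈ C.Fix := C.twisted_le_Fix n0_mem_twisted

include C in
theorem n0_big : n0 K m * nw0 K ∈ chevG2.diagonalSubgroup K := by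
  rcases C.N_fix_cases ⟨n0_mem_N, C.n0_mem_Fix⟩ with h | h
  · exact absurd h n0_not_mem_H
  · exact h

end ReeCtx

end Cfsg.Agent.Helper6.Ree
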