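import Mathlib
import Cfsg.Agent.Helper6.Ree.G2N0

set_option autoImplicit false
set_option linter.unusedSectionVars false
set_option linter.unusedVariables false
set_option linter.unusedSimpArgs false

/-!
The structure of `²G₂ = G¹`: `B ∩ G¹ = (U ∩ G¹)(H ∩ G¹)`, `N ∩ G¹ = (H ∩ G¹) ∪ (H ∩ G¹) n₀`,
`G¹ = (B ∩ G¹) ∪ (B ∩ G¹) n₀ (U ∩ G¹)`, and the order of `G¹`.
-/

namespace Cfsg.Agent.Helper6.Ree

open Cfsg.Lie Cfsg.Agent.Helper6

variable {K : Type*} [Field K] {m : ℕ}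

namespace ReeCtx

variable (C : ReeCtx K m)
include C

/-- `U ∩ Fix ⊆ G¹` -/
theorem U_fix_le {u : GL chevG2.Idx K} (hu : u ∈ chevG2.posUnipotent K ⊓ C.Fix) :
    u ∈ twistedG2 K (3 ^ m) := by
  rw [← C.U_inf_twisted] at hu
  exact hu.2

/-- `B ∩ G¹ = (U ∩ G¹)(H ∩ G¹)` -/
theorem borel_inf {b : GL chevG2.Idx K} (hb : b ∈ chevG2.borelSubgroup K ⊓ twistedG2 K (3 ^ m)) :
    ∃ u ∈ chevG2.posUnipotent K ⊓ twistedG2 K (3 ^ m),
      ∃ h ∈ chevG2.diagonalSubgroup K ⊓ twistedG2 K (3 ^ m), b = u * h := by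
  have Δ := bn2 (K := K)
  have hb' : b ∈ ((chevG2.posUnipotent K ⊔ chevG2.diagonalSubgroup K : Subgroup (GL chevG2.Idx K)) :
      Set (GL chevG2.Idx K)) := hb.1
  rw [Subgroup.coe_mul_of_right_le_normalizer_left _ _
    (diagonal_le_normalizer_posUnipotent Δ.hB Δ.hAll Δ.hAdd Δ.hH), Set.mem_mul] at hb'
  obtain ⟨u, hu, h, hh, rfl⟩ := hb'
  have hfix := (C.twisted_le_Fix hb.2).2
  rw [C.tau_mul (U_le_group hu) (H_le_group hh)] at hfix
  have hmem : u⁻¹ * C.tau u ∈ chevG2.posUnipotent K ⊓ chevG2.diagonalSubgroup K := by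
    refine ⟨Subgroup.mul_mem _ (Subgroup.inv_mem _ hu) (C.tau_mem_U hu), ?_⟩
    have : u⁻¹ * C.tau u = h * (C.tau h)⁻¹ := by
      have : C.tau u = u * h * (C.tau h)⁻¹ := by rw [← hfix]; group
      rw [this]; group
    rw [this]
    exact Subgroup.mul_mem _ hh (Subgroup.inv_mem _ (C.tau_mem_H hh))
  rw [posUnipotent_inf_diagonal Δ.hB Δ.hH Δ.good, Subgroup.mem_bot] at hmem
  have hτu : C.tau u = u := by
    have : C.tau u = u * (u⁻¹ * C.tau u) := by group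
    rw [this, hmem, mul_one]
  have huG : u ∈ twistedG2 K (3 ^ m) := C.U_fix_le ⟨hu, U_le_group hu, hτu⟩
  have hhG : h ∈ twistedG2 K (3 ^ m) := by
    have : h = u⁻¹ * (u * h) := by group
    rw [this]
    exact Subgroup.mul_mem _ (Subgroup.inv_mem _ huG) hb.2
  exact ⟨u, ⟨hu, huG⟩, h, ⟨hh, hhG⟩, rfl⟩

/-- `N ∩ G¹ = (H ∩ G¹) ∪ (H ∩ G¹) n₀` -/
theorem N_inf {n : GL chevG2.Idx K} (hn : n ∈ chevG2.monomialSubgroup K ⊓ twistedG2 K (3 ^ m)) :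
    n ∈ chevG2.diagonalSubgroup K ∨
      (n * nw0 K ∈ chevG2.diagonalSubgroup K ∧
        n * (n0 K m)⁻¹ ∈ chevG2.diagonalSubgroup K ⊓ twistedG2 K (3 ^ m)) := by
  rcases C.N_fix_cases ⟨hn.1, C.twisted_le_Fix hn.2⟩ with h | h
  · exact Or.inl h
  · right
    refine ⟨h, ?_, Subgroup.mul_mem _ hn.2 (Subgroup.inv_mem _ n0_mem_twisted)⟩
    have e : n * (n0 K m)⁻¹ = (n * nw0 K) * (n0 K m * nw0 K)⁻¹ := by group
    rw [e]
    exact Subgroup.mul_mem _ h (Subgroup.inv_mem _ C.n0_big)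

/-- the cells of `G¹` -/
theorem cells {g : GL chevG2.Idx K} (hg : g ∈ twistedG2 K (3 ^ m)) :
    g ∈ chevG2.borelSubgroup K ⊓ twistedG2 K (3 ^ m) ∨
      ∃ b ∈ chevG2.borelSubgroup K ⊓ twistedG2 K (3 ^ m),
        ∃ u ∈ chevG2.posUnipotent K ⊓ twistedG2 K (3 ^ m), g = b * n0 K m * u := by
  have Δ := bn2 (K := K)
  obtain ⟨u₁, hu₁, n, hn, u, hu, rfl⟩ := C.fix_decomp (C.twisted_le_Fix hg)
  have hu₁G := C.U_fix_le hu₁
  have huU := Δ.unegGen_le_posUnipotent _ hu.1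
  have huG := C.U_fix_le ⟨huU, hu.2⟩
  have hnG : n ∈ twistedG2 K (3 ^ m) := by
    have : n = u₁⁻¹ * (u₁ * n * u) * u⁻¹ := by group
    rw [this]
    exact Subgroup.mul_mem _ (Subgroup.mul_mem _ (Subgroup.inv_mem _ hu₁G) hg) (Subgroup.inv_mem _ huG)
  rcases C.N_inf ⟨hn.1, hnG⟩ with h | ⟨h1, h2⟩
  · left
    have hu1 : u = 1 := by
      have h0 : u ∈ Δ.Un n := hu.1
      rw [Δ.Un_diag h] at h0
      exact Subgroup.mem_bot.1 h0
    rw [hu1, mul_one]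
    exact ⟨Subgroup.mul_mem _ (Δ.posUnipotent_le_borel hu₁.1) (Δ.diag_le_borel h),
      Subgroup.mul_mem _ hu₁G hnG⟩
  · right
    refine ⟨u₁ * (n * (n0 K m)⁻¹), ⟨Subgroup.mul_mem _ (Δ.posUnipotent_le_borel hu₁.1)
      (Δ.diag_le_borel h2.1), Subgroup.mul_mem _ hu₁G h2.2⟩, u, ⟨huU, huG⟩, by group⟩

/-- uniqueness in the big cell -/
theorem big_cell_unique {b b' u u' : GL chevG2.Idx K} (hb : b ∈ chevG2.borelSubgroup K)
    (hb' : b' ∈ chevG2.borelSubgroup K) (hu : u ∈ chevG2.posUnipotent K)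
    (hu' : u' ∈ chevG2.posUnipotent K) (e : b * n0 K m * u = b' * n0 K m * u') : b = b' ∧ u = u' := by
  have Δ := bn2 (K := K)
  have hUn := big_Un (n0_mem_N (K := K) (m := m)) C.n0_big
  have := (Δ.normal_form_unique hb hb' (n0_mem_N (K := K) (m := m)) n0_mem_N
    (by show u ∈ Δ.Un _; rw [hUn]; exact hu) (by show u' ∈ Δ.Un _; rw [hUn]; exact hu') e).2 rfl
  exact this

/-- the big cell does not meet `B` -/
theorem big_cell_not_borel {b u : GL chevG2.Idx K} (hb : b ∈ chevG2.borelSubgroup K)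
    (hu : u ∈ chevG2.posUnipotent K) : b * n0 K m * u ∉ chevG2.borelSubgroup K := by
  have Δ := bn2 (K := K)
  intro h
  apply n0_not_mem_B (K := K) (m := m)
  have : n0 K m = b⁻¹ * (b * n0 K m * u) * u⁻¹ := by group
  rw [this]
  exact Subgroup.mul_mem _ (Subgroup.mul_mem _ (Subgroup.inv_mem _ hb) h)
    (Subgroup.inv_mem _ (Δ.posUnipotent_le_borel hu))

/-- `|B ∩ G¹| = |U ∩ G¹| |H ∩ G¹|` -/
theorem card_borel_inf [Finite K] :
    Nat.card ↥(chevG2.borelSubgroup K ⊓ twistedG2 K (3 ^ m)) =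
      Nat.card ↥(chevG2.posUnipotent K ⊓ twistedG2 K (3 ^ m)) *
        Nat.card ↥(chevG2.diagonalSubgroup K ⊓ twistedG2 K (3 ^ m)) := by
  have Δ := bn2 (K := K)
  rw [← Nat.card_prod]
  symm
  apply Nat.card_congr
  refine Equiv.ofBijective (fun p => ⟨p.1.1 * p.2.1, ⟨Subgroup.mul_mem _
    (Δ.posUnipotent_le_borel p.1.2.1) (Δ.diag_le_borel p.2.2.1),
    Subgroup.mul_mem _ p.1.2.2 p.2.2.2⟩⟩) ⟨?_, ?_⟩
  · rintro ⟨⟨u, hu⟩, ⟨h, hh⟩⟩ ⟨⟨u', hu'⟩, ⟨h', hh'⟩⟩ e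
    have e' : u * h = u' * h' := congrArg Subtype.val e
    have hmem : u'⁻¹ * u ∈ chevG2.posUnipotent K ⊓ chevG2.diagonalSubgroup K := by
      refine ⟨Subgroup.mul_mem _ (Subgroup.inv_mem _ hu'.1) hu.1, ?_⟩
      have : u'⁻¹ * u = h' * h⁻¹ := by
        have : u = u' * h' * h⁻¹ := by rw [← e']; group
        rw [this]; group
      rw [this]
      exact Subgroup.mul_mem _ hh'.1 (Subgroup.inv_mem _ hh.1)
    rw [posUnipotent_inf_diagonal Δ.hB Δ.hH Δ.good, Subgroup.mem_bot] at hmem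
    have huu : u = u' := by
      have : u = u' * (u'⁻¹ * u) := by group
      rw [this, hmem, mul_one]
    subst huu
    have hhh : h = h' := mul_left_cancel e'
    subst hhh
    rfl
  · rintro ⟨b, hb⟩
    obtain ⟨u, hu, h, hh, rfl⟩ := C.borel_inf hb
    exact ⟨(⟨u, hu⟩, ⟨h, hh⟩), rfl⟩

/-- `|G¹| = |B ∩ G¹| (1 + |U ∩ G¹|)` -/
theorem card_twisted [Finite K] :
    Nat.card ↥(twistedG2 K (3 ^ m)) =
      Nat.card ↥(chevG2.borelSubgroup K ⊓ twistedG2 K (3 ^ m)) *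
        (1 + Nat.card ↥(chevG2.posUnipotent K ⊓ twistedG2 K (3 ^ m))) := by
  have Δ := bn2 (K := K)
  rw [mul_add, mul_one, ← Nat.card_prod, ← Nat.card_sum]
  symm
  apply Nat.card_congr
  refine Equiv.ofBijective (fun p => Sum.elim (fun b => ⟨b.1, b.2.2⟩)
    (fun q => ⟨q.1.1 * n0 K m * q.2.1, Subgroup.mul_mem _ (Subgroup.mul_mem _ q.1.2.2 n0_mem_twisted)
      q.2.2.2⟩) p) ⟨?_, ?_⟩
  · rintro (⟨b, hb⟩ | ⟨⟨b, hb⟩, ⟨u, hu⟩⟩) (⟨b', hb'⟩ | ⟨⟨b', hb'⟩, ⟨u', hu'⟩⟩) e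
    · have e' : b = b' := congrArg Subtype.val e
      subst e'; rfl
    · exfalso
      have e' : b = b' * n0 K m * u' := congrArg Subtype.val e
      exact C.big_cell_not_borel hb'.1 hu'.1 (e' ▸ hb.1)
    · exfalso
      have e' : b * n0 K m * u = b' := congrArg Subtype.val e
      exact C.big_cell_not_borel hb.1 hu.1 (e' ▸ hb'.1)
    · have e' : b * n0 K m * u = b' * n0 K m * u' := congrArg Subtype.val e
      obtain ⟨e1, e2⟩ := C.big_cell_unique hb.1 hb'.1 hu.1 hu'.1 e'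
      subst e1; subst e2; rfl
  · rintro ⟨g, hg⟩
    rcases C.cells hg with h | ⟨b, hb, u, hu, rfl⟩
    · exact ⟨Sum.inl ⟨g, h⟩, rfl⟩
    · exact ⟨Sum.inr (⟨b, hb⟩, ⟨u, hu⟩), rfl⟩

end ReeCtx

end Cfsg.Agent.Helper6.Ree
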