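import Mathlib
import Cfsg.Agent.Helper6.Ree.G2Rank1

set_option autoImplicit false
set_option linter.unusedSectionVars false
set_option linter.unusedVariables false
set_option linter.unusedSimpArgs false

/-!
`(N ∩ ²G₂)/(H ∩ ²G₂)` has order `2`.
-/

namespace Cfsg.Agent.Helper6.Ree

open Cfsg.Lie Cfsg.Agent.Helper6

/-- a subgroup whose complement is nonempty and multiplies into it is the kernel of a
homomorphism onto the group of order `2` -/
theorem exists_hom_zmod2 {G : Type*} [Group G] (H : Subgroup G)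
    (hmul : ∀ a b : G, a ∉ H → b ∉ H → a * b ∈ H) (hex : ∃ g : G, g ∉ H) :
    ∃ φ : G →* Multiplicative (ZMod 2), Function.Surjective φ ∧ φ.ker = H := by
  classical
  let f : G → Multiplicative (ZMod 2) := fun g => if g ∈ H then 1 else Multiplicative.ofAdd 1
  have hf1 : ∀ g, g ∈ H → f g = 1 := fun g hg => if_pos hg
  have hf2 : ∀ g, g ∉ H → f g = Multiplicative.ofAdd 1 := fun g hg => if_neg hg
  have hsq : (Multiplicative.ofAdd (1 : ZMod 2)) * Multiplicative.ofAdd 1 = 1 := by decide
  have hne : (Multiplicative.ofAdd (1 : ZMod 2)) ≠ 1 := by decide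
  let φ : G →* Multiplicative (ZMod 2) :=
    { toFun := f
      map_one' := hf1 1 (Subgroup.one_mem _)
      map_mul' := by
        intro a b
        by_cases ha : a ∈ H <;> by_cases hb : b ∈ H
        · rw [hf1 a ha, hf1 b hb, hf1 _ (Subgroup.mul_mem _ ha hb), one_mul]
        · have : a * b ∉ H := fun h => hb (by
            have e : b = a⁻¹ * (a * b) := by group
            rw [e]; exact Subgroup.mul_mem _ (Subgroup.inv_mem _ ha) h)
          rw [hf1 a ha, hf2 b hb, hf2 _ this, one_mul]
        · have : a * b ∉ H := fun h => ha (by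
            have e : a = (a * b) * b⁻¹ := by group
            rw [e]; exact Subgroup.mul_mem _ h (Subgroup.inv_mem _ hb))
          rw [hf2 a ha, hf1 b hb, hf2 _ this, mul_one]
        · rw [hf2 a ha, hf2 b hb, hf1 _ (hmul a b ha hb), hsq] }
  refine ⟨φ, ?_, ?_⟩
  · intro x
    obtain ⟨g, hg⟩ := hex
    have hx : x = 1 ∨ x = Multiplicative.ofAdd 1 := by
      revert x; decide
    rcases hx with rfl | rfl
    · exact ⟨1, hf1 1 (Subgroup.one_mem _)⟩
    · exact ⟨g, hf2 g hg⟩
  · ext g
    rw [MonoidHom.mem_ker]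
    constructor
    · intro h
      by_contra hg
      have : φ g = Multiplicative.ofAdd 1 := hf2 g hg
      rw [this] at h
      exact hne h
    · intro hg
      exact hf1 g hg

variable {K : Type*} [Field K] {m : ℕ}

namespace ReeCtx

variable (C : ReeCtx K m)
include C

/-- `S1115`, given the twisting automorphism -/
theorem weyl_group :
    ∃ φ : ↥(chevG2.monomialSubgroup K ⊓ twistedG2 K (3 ^ m)) →* Multiplicative (ZMod 2),
      Function.Surjective φ ∧
      φ.ker = (chevG2.diagonalSubgroup K ⊓ twistedG2 K (3 ^ m)).subgroupOf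
        (chevG2.monomialSubgroup K ⊓ twistedG2 K (3 ^ m)) := by
  apply exists_hom_zmod2
  · rintro ⟨a, ha⟩ ⟨b, hb⟩ ha' hb'
    rw [Subgroup.mem_subgroupOf] at ha' hb' ⊢
    have haH : a ∉ chevG2.diagonalSubgroup K := fun h => ha' ⟨h, ha.2⟩
    have hbH : b ∉ chevG2.diagonalSubgroup K := fun h => hb' ⟨h, hb.2⟩
    have hab : a * b ∈ chevG2.monomialSubgroup K ⊓ twistedG2 K (3 ^ m) :=
      Subgroup.mul_mem _ ha hb
    refine ⟨?_, hab.2⟩
    rcases C.N_inf hab with h | ⟨h, _⟩
    · exact h
    · exfalso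
      rcases C.N_inf hb with h' | ⟨h', _⟩
      · exact hbH h'
      · apply haH
        have e : a = (a * b * nw0 K) * (b * nw0 K)⁻¹ := by group
        rw [e]
        exact Subgroup.mul_mem _ h (Subgroup.inv_mem _ h')
  · refine ⟨⟨n0 K m, n0_mem_N, n0_mem_twisted⟩, ?_⟩
    rw [Subgroup.mem_subgroupOf]
    exact fun h => n0_not_mem_H h.1

end ReeCtx

end Cfsg.Agent.Helper6.Ree
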