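import Mathlib
import Cfsg.Agent.Helper6.Ree.G2Weyl

set_option autoImplicit false
set_option linter.unusedSectionVars false
set_option linter.unusedVariables false
set_option linter.unusedSimpArgs false

/-!
The `(B, N)`-pair of `²G₂`.
-/

namespace Cfsg.Agent.Helper6.Ree

open Cfsg.Lie Cfsg.Agent.Helper6

variable {K : Type*} [Field K] {m : ℕ}

namespace ReeCtx

variable (C : ReeCtx K m)
include C

/-- `n₀² ∈ H` -/
theorem n0_sq : n0 K m * n0 K m ∈ chevG2.diagonalSubgroup K := by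
  have h2 : n0 K m * n0 K m ∈ chevG2.monomialSubgroup K ⊓ twistedG2 K (3 ^ m) :=
    Subgroup.mul_mem _ ⟨n0_mem_N, n0_mem_twisted⟩ ⟨n0_mem_N, n0_mem_twisted⟩
  rcases C.N_inf h2 with h | ⟨h, _⟩
  · exact h
  · exfalso
    apply n0_not_mem_H (K := K) (m := m)
    have e : n0 K m = (n0 K m * n0 K m * nw0 K) * (n0 K m * nw0 K)⁻¹ := by group
    rw [e]
    exact Subgroup.mul_mem _ h (Subgroup.inv_mem _ C.n0_big)

theorem n0_inv_mem_N : (n0 K m)⁻¹ ∈ chevG2.monomialSubgroup K := Subgroup.inv_mem _ n0_mem_N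

/-- conjugation by `n₀` preserves `H ∩ G¹` -/
theorem n0_conj_H1 {h : GL chevG2.Idx K} (hh : h ∈ chevG2.diagonalSubgroup K ⊓ twistedG2 K (3 ^ m)) :
    n0 K m * h * (n0 K m)⁻¹ ∈ chevG2.diagonalSubgroup K ⊓ twistedG2 K (3 ^ m) :=
  ⟨(bn2 (K := K)).conj_diag_mem n0_mem_N hh.1,
    Subgroup.mul_mem _ (Subgroup.mul_mem _ n0_mem_twisted hh.2) (Subgroup.inv_mem _ n0_mem_twisted)⟩

theorem H1_le_B1 {h : GL chevG2.Idx K} (hh : h ∈ chevG2.diagonalSubgroup K ⊓ twistedG2 K (3 ^ m)) :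
    h ∈ chevG2.borelSubgroup K ⊓ twistedG2 K (3 ^ m) := ⟨(bn2 (K := K)).diag_le_borel hh.1, hh.2⟩

theorem U1_le_B1 {h : GL chevG2.Idx K} (hh : h ∈ chevG2.posUnipotent K ⊓ twistedG2 K (3 ^ m)) :
    h ∈ chevG2.borelSubgroup K ⊓ twistedG2 K (3 ^ m) :=
  ⟨(bn2 (K := K)).posUnipotent_le_borel hh.1, hh.2⟩

/-- `n₀ h n₀ ∈ H ∩ G¹` -/
theorem n0_mul_H1_mul_n0 {h : GL chevG2.Idx K}
    (hh : h ∈ chevG2.diagonalSubgroup K ⊓ twistedG2 K (3 ^ m)) :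
    n0 K m * h * n0 K m ∈ chevG2.diagonalSubgroup K ⊓ twistedG2 K (3 ^ m) := by
  have e : n0 K m * h * n0 K m = (n0 K m * h * (n0 K m)⁻¹) * (n0 K m * n0 K m) := by group
  rw [e]
  exact Subgroup.mul_mem _ (C.n0_conj_H1 hh)
    ⟨C.n0_sq, Subgroup.mul_mem _ n0_mem_twisted n0_mem_twisted⟩

/-- the double coset condition, in the big cell -/
theorem n0_mul_U1_mul_n0 {u : GL chevG2.Idx K}
    (hu : u ∈ chevG2.posUnipotent K ⊓ twistedG2 K (3 ^ m)) :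
    (n0 K m * u * (n0 K m)⁻¹ = 1) ∨
      ∃ b ∈ chevG2.borelSubgroup K ⊓ twistedG2 K (3 ^ m),
        ∃ u' ∈ chevG2.posUnipotent K ⊓ twistedG2 K (3 ^ m),
          n0 K m * u * (n0 K m)⁻¹ = b * n0 K m * u' := by
  have Δ := bn2 (K := K)
  have hy : n0 K m * u * (n0 K m)⁻¹ ∈ twistedG2 K (3 ^ m) :=
    Subgroup.mul_mem _ (Subgroup.mul_mem _ n0_mem_twisted hu.2) (Subgroup.inv_mem _ n0_mem_twisted)
  have hV : n0 K m * u * (n0 K m)⁻¹ ∈ chevG2.negUnipotent K := big_conj_U C.n0_big hu.1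
  rcases C.cells hy with h | h
  · left
    have hmem : n0 K m * u * (n0 K m)⁻¹ ∈ chevG2.borelSubgroup K ⊓ chevG2.negUnipotent K := ⟨h.1, hV⟩
    rwa [borel_inf_negUnipotent Δ.hB Δ.hH Δ.good2, Subgroup.mem_bot] at hmem
  · right
    exact h

/-- the double coset condition -/
theorem mul_mem_cells {n b : GL chevG2.Idx K}
    (hn : n ∈ chevG2.monomialSubgroup K ⊓ twistedG2 K (3 ^ m))
    (hb : b ∈ chevG2.borelSubgroup K ⊓ twistedG2 K (3 ^ m)) :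
    (∃ b₁ ∈ chevG2.borelSubgroup K ⊓ twistedG2 K (3 ^ m),
      ∃ b₂ ∈ chevG2.borelSubgroup K ⊓ twistedG2 K (3 ^ m), n0 K m * b * n = b₁ * (n0 K m * n) * b₂) ∨
    (∃ b₁ ∈ chevG2.borelSubgroup K ⊓ twistedG2 K (3 ^ m),
      ∃ b₂ ∈ chevG2.borelSubgroup K ⊓ twistedG2 K (3 ^ m), n0 K m * b * n = b₁ * n * b₂) := by
  have Δ := bn2 (K := K)
  rcases C.N_inf hn with h | ⟨_, h⟩
  · -- `n ∈ H`
    left
    have hnB : n ∈ chevG2.borelSubgroup K ⊓ twistedG2 K (3 ^ m) := C.H1_le_B1 ⟨h, hn.2⟩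
    refine ⟨1, Subgroup.one_mem _, n⁻¹ * b * n,
      Subgroup.mul_mem _ (Subgroup.mul_mem _ (Subgroup.inv_mem _ hnB) hb) hnB, by group⟩
  · -- `n = h' n₀`
    obtain ⟨u, hu, h₁, hh₁, rfl⟩ := C.borel_inf hb
    obtain ⟨h', hh'⟩ : ∃ h', h' = n * (n0 K m)⁻¹ := ⟨_, rfl⟩
    rw [← hh'] at h
    have hn_eq : n = h' * n0 K m := by rw [hh']; group
    have h'' : h₁ * h' ∈ chevG2.diagonalSubgroup K ⊓ twistedG2 K (3 ^ m) := Subgroup.mul_mem _ hh₁ h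
    have h3 := C.n0_mul_H1_mul_n0 h''
    rcases C.n0_mul_U1_mul_n0 hu with hy | ⟨b₁, hb₁, u₁, hu₁, hy⟩
    · -- `u = 1`
      left
      have hu1 : u = 1 := by
        have : u = (n0 K m)⁻¹ * (n0 K m * u * (n0 K m)⁻¹) * n0 K m := by group
        rw [this, hy]; group
      subst hu1
      refine ⟨n0 K m * (h₁ * h') * n0 K m, C.H1_le_B1 h3,
        (n0 K m * h' * n0 K m)⁻¹, Subgroup.inv_mem _ (C.H1_le_B1 (C.n0_mul_H1_mul_n0 h)), ?_⟩
      rw [hn_eq]; group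
    · right
      refine ⟨b₁ * h'⁻¹, Subgroup.mul_mem _ hb₁ (Subgroup.inv_mem _ (C.H1_le_B1 h)),
        u₁ * (n0 K m * (h₁ * h') * n0 K m), Subgroup.mul_mem _ (C.U1_le_B1 hu₁) (C.H1_le_B1 h3), ?_⟩
      have e : n0 K m * (u * h₁) * n = (n0 K m * u * (n0 K m)⁻¹) * (n0 K m * (h₁ * h') * n0 K m) := by
        rw [hn_eq]; group
      rw [e, hy, hn_eq]; group

/-- `n₀ u n₀ ∉ B` for `u ≠ 1` in `U` -/
theorem n0_conj_not_mem_B {u : GL chevG2.Idx K} (hu : u ∈ chevG2.posUnipotent K) (hu1 : u ≠ 1) :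
    n0 K m * u * n0 K m ∉ chevG2.borelSubgroup K := by
  have Δ := bn2 (K := K)
  intro h
  have hV : n0 K m * u * (n0 K m)⁻¹ ∈ chevG2.negUnipotent K := big_conj_U C.n0_big hu
  have hB : n0 K m * u * (n0 K m)⁻¹ ∈ chevG2.borelSubgroup K := by
    have e : n0 K m * u * (n0 K m)⁻¹ = (n0 K m * u * n0 K m) * (n0 K m * n0 K m)⁻¹ := by group
    rw [e]
    exact Subgroup.mul_mem _ h (Subgroup.inv_mem _ (Δ.diag_le_borel C.n0_sq))
  have hmem : n0 K m * u * (n0 K m)⁻¹ ∈ chevG2.borelSubgroup K ⊓ chevG2.negUnipotent K := ⟨hB, hV⟩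
  rw [borel_inf_negUnipotent Δ.hB Δ.hH Δ.good2, Subgroup.mem_bot] at hmem
  apply hu1
  have : u = (n0 K m)⁻¹ * (n0 K m * u * (n0 K m)⁻¹) * n0 K m := by group
  rw [this, hmem]; group

theorem reeU_010_ne_one : reeU m (0 : K) 1 0 ≠ 1 := by
  have := C.char3
  intro h
  have h0 : reeU m (0 : K) 0 0 = 1 := by
    rw [reeU_eq]
    have h0 : (0 : K) ^ 3 ^ m = 0 := zero_pow (by positivity)
    simp only [h0, zero_pow (Nat.succ_ne_zero _), zero_add, X_zero, mul_one]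
  rw [← h0] at h
  exact one_ne_zero (reeU_inj h).2.1

/-- `S1091`, given the twisting automorphism -/
theorem has_bn_pair :
    ∃ P : Cfsg.BNPair ↥(twistedG2 K (3 ^ m)),
      P.B = (chevG2.borelSubgroup K ⊓ twistedG2 K (3 ^ m)).subgroupOf (twistedG2 K (3 ^ m)) ∧
      P.N = (chevG2.monomialSubgroup K ⊓ twistedG2 K (3 ^ m)).subgroupOf (twistedG2 K (3 ^ m)) := by
  have Δ := bn2 (K := K)
  let s : ↥(twistedG2 K (3 ^ m)) := ⟨n0 K m, n0_mem_twisted⟩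
  refine ⟨{
    B := (chevG2.borelSubgroup K ⊓ twistedG2 K (3 ^ m)).subgroupOf (twistedG2 K (3 ^ m))
    N := (chevG2.monomialSubgroup K ⊓ twistedG2 K (3 ^ m)).subgroupOf (twistedG2 K (3 ^ m))
    S := {s}
    sup_eq_top := ?_
    conj_mem := ?_
    subset := ?_
    sq_mem := ?_
    inj := ?_
    closure_sup := ?_
    mul_mem_union := ?_
    conj_ne := ?_ }, rfl, rfl⟩
  · -- sup_eq_top
    rw [eq_top_iff]
    rintro ⟨g, hg⟩ _
    have hsB : ∀ b (hb : b ∈ chevG2.borelSubgroup K ⊓ twistedG2 K (3 ^ m)),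
        (⟨b, hb.2⟩ : ↥(twistedG2 K (3 ^ m))) ∈
          (chevG2.borelSubgroup K ⊓ twistedG2 K (3 ^ m)).subgroupOf (twistedG2 K (3 ^ m)) ⊔
          (chevG2.monomialSubgroup K ⊓ twistedG2 K (3 ^ m)).subgroupOf (twistedG2 K (3 ^ m)) :=
      fun b hb => Subgroup.mem_sup_left (Subgroup.mem_subgroupOf.2 hb)
    rcases C.cells hg with h | ⟨b, hb, u, hu, rfl⟩
    · exact hsB g h
    · have e : (⟨b * n0 K m * u, hg⟩ : ↥(twistedG2 K (3 ^ m))) =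
          ⟨b, hb.2⟩ * s * ⟨u, hu.2⟩ := rfl
      rw [e]
      refine Subgroup.mul_mem _ (Subgroup.mul_mem _ (hsB b hb) ?_) (hsB u (C.U1_le_B1 hu))
      exact Subgroup.mem_sup_right (Subgroup.mem_subgroupOf.2 ⟨n0_mem_N, n0_mem_twisted⟩)
  · -- conj_mem
    intro n hn t ht
    rw [Subgroup.mem_subgroupOf] at hn ⊢
    have ht' : (t : GL chevG2.Idx K) ∈ chevG2.borelSubgroup K ⊓ chevG2.monomialSubgroup K :=
      ⟨(Subgroup.mem_subgroupOf.1 ht.1).1, (Subgroup.mem_subgroupOf.1 ht.2).1⟩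
    rw [Δ.inf_eq] at ht'
    simp only [Subgroup.coe_mul, Subgroup.coe_inv]
    exact ⟨Δ.diag_le_borel (Δ.conj_diag_mem hn.1 ht'),
      Subgroup.mul_mem _ (Subgroup.mul_mem _ hn.2 t.2) (Subgroup.inv_mem _ hn.2)⟩
  · -- subset
    rintro n hn
    rw [Set.mem_singleton_iff] at hn
    rw [hn, SetLike.mem_coe, Subgroup.mem_subgroupOf]
    exact ⟨n0_mem_N, n0_mem_twisted⟩
  · -- sq_mem
    rintro n hn
    rw [Set.mem_singleton_iff] at hn
    rw [hn, Subgroup.mem_subgroupOf]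
    exact ⟨Δ.diag_le_borel C.n0_sq, Subgroup.mul_mem _ n0_mem_twisted n0_mem_twisted⟩
  · -- inj
    rintro a ha b hb _
    rw [Set.mem_singleton_iff] at ha hb
    rw [ha, hb]
  · -- closure_sup
    apply le_antisymm
    · apply sup_le
      · rw [Subgroup.closure_le]
        rintro n hn
        rw [Set.mem_singleton_iff] at hn
        rw [hn, SetLike.mem_coe, Subgroup.mem_subgroupOf]
        exact ⟨n0_mem_N, n0_mem_twisted⟩
      · exact inf_le_right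
    · rintro ⟨n, hnG⟩ hn
      rw [Subgroup.mem_subgroupOf] at hn
      have hHmem : ∀ h (hh : h ∈ chevG2.diagonalSubgroup K ⊓ twistedG2 K (3 ^ m)),
          (⟨h, hh.2⟩ : ↥(twistedG2 K (3 ^ m))) ∈ Subgroup.closure {s} ⊔
            ((chevG2.borelSubgroup K ⊓ twistedG2 K (3 ^ m)).subgroupOf (twistedG2 K (3 ^ m)) ⊓
            (chevG2.monomialSubgroup K ⊓ twistedG2 K (3 ^ m)).subgroupOf (twistedG2 K (3 ^ m))) :=
        fun h hh => Subgroup.mem_sup_right ⟨Subgroup.mem_subgroupOf.2 (C.H1_le_B1 hh),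
          Subgroup.mem_subgroupOf.2 ⟨Δ.diag_le_monomial hh.1, hh.2⟩⟩
      rcases C.N_inf hn with h | ⟨_, h⟩
      · exact hHmem n ⟨h, hnG⟩
      · have e : (⟨n, hnG⟩ : ↥(twistedG2 K (3 ^ m))) = ⟨n * (n0 K m)⁻¹, h.2⟩ * s := by
          apply Subtype.ext
          show n = n * (n0 K m)⁻¹ * n0 K m
          group
        rw [e]
        exact Subgroup.mul_mem _ (hHmem _ h)
          (Subgroup.mem_sup_left (Subgroup.subset_closure (Set.mem_singleton _)))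
  · -- mul_mem_union
    rintro a ha ⟨n, hnG⟩ hn ⟨b, hbG⟩ hb
    rw [Set.mem_singleton_iff] at ha
    rw [Subgroup.mem_subgroupOf] at hn hb
    subst ha
    rcases C.mul_mem_cells hn hb with ⟨b₁, hb₁, b₂, hb₂, e⟩ | ⟨b₁, hb₁, b₂, hb₂, e⟩
    · left
      rw [DoubleCoset.mem_doubleCoset]
      refine ⟨⟨b₁, hb₁.2⟩, Subgroup.mem_subgroupOf.2 hb₁, ⟨b₂, hb₂.2⟩, Subgroup.mem_subgroupOf.2 hb₂, ?_⟩
      exact Subtype.ext e
    · right
      rw [DoubleCoset.mem_doubleCoset]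
      refine ⟨⟨b₁, hb₁.2⟩, Subgroup.mem_subgroupOf.2 hb₁, ⟨b₂, hb₂.2⟩, Subgroup.mem_subgroupOf.2 hb₂, ?_⟩
      exact Subtype.ext e
  · -- conj_ne
    rintro a ha
    rw [Set.mem_singleton_iff] at ha
    subst ha
    intro heq
    have hu : reeU m (0 : K) 1 0 ∈ chevG2.posUnipotent K ⊓ twistedG2 K (3 ^ m) :=
      ⟨reeU_mem_U _ _ _, reeU_mem_twisted _ _ _⟩
    have hmem : s * ⟨reeU m (0 : K) 1 0, hu.2⟩ * s ∈
        (fun b : ↥(twistedG2 K (3 ^ m)) => s * b * s) ''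
          (((chevG2.borelSubgroup K ⊓ twistedG2 K (3 ^ m)).subgroupOf (twistedG2 K (3 ^ m)) :
            Subgroup ↥(twistedG2 K (3 ^ m))) : Set ↥(twistedG2 K (3 ^ m))) :=
      ⟨⟨reeU m (0 : K) 1 0, hu.2⟩, Subgroup.mem_subgroupOf.2 (C.U1_le_B1 hu), rfl⟩
    rw [heq, SetLike.mem_coe, Subgroup.mem_subgroupOf] at hmem
    exact C.n0_conj_not_mem_B hu.1 C.reeU_010_ne_one hmem.1

end ReeCtx

end Cfsg.Agent.Helper6.Ree
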