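import Mathlib
import Cfsg.Agent.Helper6.Ree.G2BN

set_option autoImplicit false
set_option linter.unusedSectionVars false
set_option linter.unusedVariables false
set_option linter.unusedSimpArgs false

/-!
The core of `B ∩ ²G₂` in `²G₂` is trivial.
-/

namespace Cfsg.Agent.Helper6.Ree

open Cfsg.Lie Cfsg.Agent.Helper6

variable {K : Type*} [Field K] {m : ℕ}

theorem X_inj {r : ℕ} (hr : r < 12) {a b : K} (h : X r a = X r b) : a = b := by
  have h1 : X r (a - b) = 1 := by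
    rw [sub_eq_add_neg, ← X_add, h, X_add, add_neg_cancel, X_zero]
  by_contra hne
  exact X_ne_one hr (sub_ne_zero.2 hne) h1

theorem torChar_g2 (c : ℕ → K) (r : ℕ) :
    torChar chevG2 c r = c 0 ^ chevG2.cartan 0 r * c 1 ^ chevG2.cartan 1 r := by
  unfold torChar
  have : chevG2.rank = 2 := rfl
  rw [this, Finset.prod_range_succ, Finset.prod_range_succ, Finset.prod_range_zero, one_mul]

theorem torChar_9 (c : ℕ → K) : torChar chevG2 c 9 = c 0 := by
  rw [torChar_g2]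
  have h1 : chevG2.cartan 0 9 = 1 := by decide
  have h2 : chevG2.cartan 1 9 = 0 := by decide
  rw [h1, h2, zpow_one, zpow_zero, mul_one]

theorem torChar_11 (c : ℕ → K) : torChar chevG2 c 11 = c 1 := by
  rw [torChar_g2]
  have h1 : chevG2.cartan 0 11 = 0 := by decide
  have h2 : chevG2.cartan 1 11 = 1 := by decide
  rw [h1, h2, zpow_one, zpow_zero, one_mul]

/-- an element of `H` is determined by its action on `X_{2a+b}` and `X_{3a+2b}` -/
theorem diag_eq_one {h : GL chevG2.Idx K} (hh : h ∈ chevG2.diagonalSubgroup K)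
    (h9 : h * X 9 1 * h⁻¹ = X 9 1) (h11 : h * X 11 1 * h⁻¹ = X 11 1) : h = 1 := by
  have Δ := bn2 (K := K)
  obtain ⟨c, hc, hv⟩ := exists_torMat_of_mem_diagonal Δ.hB Δ.hH hh
  have key : ∀ r < 12, ∀ t : K, h * X r t * h⁻¹ = X r (torChar chevG2 c r * t) := by
    intro r hr t
    rw [mul_inv_eq_iff_eq_mul]
    apply Units.ext
    rw [Units.val_mul, Units.val_mul, hv, X_val, X_val]
    exact torMat_mul_x Δ.hB Δ.hAdd hc hr t
  rw [key 9 (by norm_num), torChar_9, mul_one] at h9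
  rw [key 11 (by norm_num), torChar_11, mul_one] at h11
  have e0 := X_inj (by norm_num) h9
  have e1 := X_inj (by norm_num) h11
  apply Units.ext
  rw [hv, Units.val_one, ← torMat_one (D := chevG2)]
  unfold torMat
  apply dMat_congr
  intro u _
  rw [torChar_g2, torChar_g2, e0, e1]

theorem reeU_00v (v : K) : reeU m (0 : K) 0 v = X 9 (v ^ 3 ^ m) * X 11 v := by
  rw [reeU_eq]
  have h0 : (0 : K) ^ 3 ^ m = 0 := zero_pow (by positivity)
  simp only [h0, zero_pow (Nat.succ_ne_zero _), zero_add, X_zero, one_mul, mul_one]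

namespace ReeCtx

variable (C : ReeCtx K m)
include C

/-- `S1117`, given the twisting automorphism -/
theorem borel_core_trivial :
    ((chevG2.borelSubgroup K ⊓ twistedG2 K (3 ^ m)).subgroupOf (twistedG2 K (3 ^ m))).normalCore = ⊥ := by
  have Δ := bn2 (K := K)
  set B1 := (chevG2.borelSubgroup K ⊓ twistedG2 K (3 ^ m)).subgroupOf (twistedG2 K (3 ^ m)) with hB1
  let s : ↥(twistedG2 K (3 ^ m)) := ⟨n0 K m, n0_mem_twisted⟩
  -- the core lies in `H`
  have hH : ∀ z ∈ B1.normalCore, (z : GL chevG2.Idx K) ∈ chevG2.diagonalSubgroup K := by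
    intro z hz
    have h1 : z ∈ B1 := Subgroup.normalCore_le _ hz
    have h2 : s * z * s⁻¹ ∈ B1 := hz s
    rw [hB1, Subgroup.mem_subgroupOf] at h1 h2
    obtain ⟨u, hu, h, hh, e⟩ := C.borel_inf h1
    have hV : n0 K m * u * (n0 K m)⁻¹ ∈ chevG2.negUnipotent K := big_conj_U C.n0_big hu.1
    have hBo : n0 K m * u * (n0 K m)⁻¹ ∈ chevG2.borelSubgroup K := by
      have e2 : n0 K m * u * (n0 K m)⁻¹ =
          (n0 K m * (z : GL chevG2.Idx K) * (n0 K m)⁻¹) * (n0 K m * h * (n0 K m)⁻¹)⁻¹ := by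
        rw [e]; group
      rw [e2]
      exact Subgroup.mul_mem _ h2.1 (Subgroup.inv_mem _ (Δ.diag_le_borel (C.n0_conj_H1 hh).1))
    have hmem : n0 K m * u * (n0 K m)⁻¹ ∈ chevG2.borelSubgroup K ⊓ chevG2.negUnipotent K := ⟨hBo, hV⟩
    rw [borel_inf_negUnipotent Δ.hB Δ.hH Δ.good2, Subgroup.mem_bot] at hmem
    have hu1 : u = 1 := by
      have : u = (n0 K m)⁻¹ * (n0 K m * u * (n0 K m)⁻¹) * n0 K m := by group
      rw [this, hmem]; group
    rw [e, hu1, one_mul]
    exact hh.1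
  -- the core centralises `U ∩ G¹`
  have hcent : ∀ z ∈ B1.normalCore, ∀ x ∈ chevG2.posUnipotent K ⊓ twistedG2 K (3 ^ m),
      (z : GL chevG2.Idx K) * x * (z : GL chevG2.Idx K)⁻¹ = x := by
    intro z hz x hx
    let xx : ↥(twistedG2 K (3 ^ m)) := ⟨x, hx.2⟩
    have hc : z * (xx * z⁻¹ * xx⁻¹) ∈ B1.normalCore :=
      Subgroup.mul_mem _ hz ((Subgroup.normalCore_normal B1).conj_mem _ (Subgroup.inv_mem _ hz) xx)
    have hcH := hH _ hc
    have hcU : ((z * (xx * z⁻¹ * xx⁻¹) : ↥(twistedG2 K (3 ^ m))) : GL chevG2.Idx K) ∈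
        chevG2.posUnipotent K := by
      have e : ((z * (xx * z⁻¹ * xx⁻¹) : ↥(twistedG2 K (3 ^ m))) : GL chevG2.Idx K) =
          ((z : GL chevG2.Idx K) * x * (z : GL chevG2.Idx K)⁻¹) * x⁻¹ := by
        simp only [Subgroup.coe_mul, Subgroup.coe_inv, xx]
        group
      rw [e]
      exact Subgroup.mul_mem _ (Δ.diag_conj_posUnipotent (hH z hz) hx.1) (Subgroup.inv_mem _ hx.1)
    have hmem : ((z * (xx * z⁻¹ * xx⁻¹) : ↥(twistedG2 K (3 ^ m))) : GL chevG2.Idx K) ∈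
        chevG2.posUnipotent K ⊓ chevG2.diagonalSubgroup K := ⟨hcU, hcH⟩
    rw [posUnipotent_inf_diagonal Δ.hB Δ.hH Δ.good, Subgroup.mem_bot] at hmem
    have e : ((z * (xx * z⁻¹ * xx⁻¹) : ↥(twistedG2 K (3 ^ m))) : GL chevG2.Idx K) =
        ((z : GL chevG2.Idx K) * x * (z : GL chevG2.Idx K)⁻¹) * x⁻¹ := by
      simp only [Subgroup.coe_mul, Subgroup.coe_inv, xx]
      group
    rw [e] at hmem
    exact mul_inv_eq_one.1 hmem
  rw [eq_bot_iff]
  intro z hz
  rw [Subgroup.mem_bot]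
  have hzH := hH z hz
  obtain ⟨c, hc, hv⟩ := exists_torMat_of_mem_diagonal Δ.hB Δ.hH hzH
  have key : ∀ r < 12, ∀ t : K, (z : GL chevG2.Idx K) * X r t * (z : GL chevG2.Idx K)⁻¹ =
      X r (torChar chevG2 c r * t) := by
    intro r hr t
    rw [mul_inv_eq_iff_eq_mul]
    apply Units.ext
    rw [Units.val_mul, Units.val_mul, hv, X_val, X_val]
    exact torMat_mul_x Δ.hB Δ.hAdd hc hr t
  have h1 := hcent z hz (reeU m 0 0 1) ⟨reeU_mem_U _ _ _, reeU_mem_twisted _ _ _⟩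
  rw [reeU_00v, one_pow] at h1
  have e : (z : GL chevG2.Idx K) * (X 9 1 * X 11 1) * (z : GL chevG2.Idx K)⁻¹ =
      ((z : GL chevG2.Idx K) * X 9 1 * (z : GL chevG2.Idx K)⁻¹) *
        ((z : GL chevG2.Idx K) * X 11 1 * (z : GL chevG2.Idx K)⁻¹) := by group
  rw [e, key 9 (by norm_num), key 11 (by norm_num), mul_one, mul_one] at h1
  have h2 : X 8 (0 : K) * X 9 (torChar chevG2 c 9) * (X 10 0 * X 11 (torChar chevG2 c 11)) =
      X 8 0 * X 9 1 * (X 10 0 * X 11 1) := by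
    simp only [X_zero, one_mul]
    exact h1
  obtain ⟨_, e9, _, e11⟩ := uge8_unique h2
  apply Subtype.ext
  apply diag_eq_one hzH
  · rw [key 9 (by norm_num), e9, mul_one]
  · rw [key 11 (by norm_num), e11, mul_one]

end ReeCtx

end Cfsg.Agent.Helper6.Ree
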