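import Mathlib
import Cfsg.Agent.Helper6.Ree.G2Core
import Cfsg.Agent.Helper6.Chev.TorusCard

set_option autoImplicit false
set_option linter.unusedSectionVars false
set_option linter.unusedVariables false
set_option linter.unusedSimpArgs false

/-!
The fixed points of the twisting automorphism in the torus `H` of `G₂(K)`: the elements
`h(w^θ, w)`, `w ∈ Kˣ`.
-/

namespace Cfsg.Agent.Helper6.Ree

open Cfsg.Lie Cfsg.Agent.Helper6

variable {K : Type*} [Field K] {m : ℕ}

/-- `h_r(t)` as an element of the general linear group -/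
noncomputable def hG (r : ℕ) {t : K} (ht : t ≠ 0) : GL chevG2.Idx K :=
  nU hB2 r ht * nU hB2 r (neg_ne_zero.2 (one_ne_zero (α := K)))

theorem hG_val_hMat (r : ℕ) {t : K} (ht : t ≠ 0) :
    ((hG r ht : GL chevG2.Idx K) : Matrix chevG2.Idx chevG2.Idx K) = chevG2.hMat K r t := by
  unfold hG
  rw [Units.val_mul, nU_val, nU_val]
  unfold ChevalleyDatum.hMat ChevalleyDatum.hWord ChevalleyDatum.nMat ChevalleyDatum.wordMat
  rw [List.map_append, List.prod_append]

theorem hG_val {r : ℕ} (hr : r < 12) {t : K} (ht : t ≠ 0) :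
    ((hG r ht : GL chevG2.Idx K) : Matrix chevG2.Idx chevG2.Idx K) =
      torMat chevG2 K (fun k => t ^ corootC chevG2 r k) := by
  rw [hG_val_hMat, hMat_eq_torMat ((bn2 (K := K)).hH r hr) ht]

theorem hG_mem_H {r : ℕ} (hr : r < 12) {t : K} (ht : t ≠ 0) : hG r ht ∈ chevG2.diagonalSubgroup K :=
  ReeCtx.hU_mem_H hr ht

theorem hG_mem_group {r : ℕ} (hr : r < 12) {t : K} (ht : t ≠ 0) : hG r ht ∈ chevG2.group K :=
  H_le_group (hG_mem_H hr ht)

theorem torMat_eq_iff {c d : ℕ → K} :
    torMat chevG2 K c = torMat chevG2 K d ↔ ∀ u < 12, torChar chevG2 c u = torChar chevG2 d u := by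
  unfold torMat dMat
  rw [Matrix.diagonal_eq_diagonal_iff]
  constructor
  · intro h u hu
    have := h (Sum.inr ⟨u, hu⟩)
    simpa using this
  · intro h x
    rcases x with j | s
    · rfl
    · simpa using h s.val s.isLt

/-- a torus element is the product of its two fundamental coroot factors -/
theorem tor_eq_hG {h : GL chevG2.Idx K} {c : ℕ → K} (hc : ∀ i, c i ≠ 0)
    (hv : (h : Matrix chevG2.Idx chevG2.Idx K) = torMat chevG2 K c) :
    h = hG 7 (hc 0) * hG 6 (hc 1) := by
  apply Units.ext
  rw [hv, Units.val_mul, hG_val (by norm_num), hG_val (by norm_num), torMat_mul]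
  apply torMat_congr
  intro i hi
  have hi' : i < 2 := hi
  have e1 : corootC chevG2 7 0 = 1 := by decide
  have e2 : corootC chevG2 7 1 = 0 := by decide
  have e3 : corootC chevG2 6 0 = 0 := by decide
  have e4 : corootC chevG2 6 1 = 1 := by decide
  interval_cases i
  · simp only [e1, e3, zpow_one, zpow_zero, mul_one]
  · simp only [e2, e4, zpow_one, zpow_zero, one_mul]

namespace ReeCtx

variable (C : ReeCtx K m)

theorem tau_hG {r : ℕ} (hr : r < 12) {t : K} (ht : t ≠ 0) :
    C.tau (hG r ht) = hG (rhoG r) (pow_ne_zero (exG m r) ht) := by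
  unfold hG
  rw [C.tau_mul (nU_mem_group hr _) (nU_mem_group hr _), C.tau_nU hr, C.tau_nU hr]
  have e : ((-1 : K)) ^ exG m r = -1 := (odd_exG r).neg_one_pow
  congr 2

/-- the twisting automorphism on the torus -/
theorem tau_torMat {h : GL chevG2.Idx K} {c : ℕ → K} (hc : ∀ i, c i ≠ 0)
    (hv : (h : Matrix chevG2.Idx chevG2.Idx K) = torMat chevG2 K c) :
    ((C.tau h : GL chevG2.Idx K) : Matrix chevG2.Idx chevG2.Idx K) =
      torMat chevG2 K (fun k => if k = 0 then c 1 ^ 3 ^ m else c 0 ^ (3 * 3 ^ m)) := by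
  rw [tor_eq_hG hc hv, C.tau_mul (hG_mem_group (by norm_num) _) (hG_mem_group (by norm_num) _),
    C.tau_hG (by norm_num), C.tau_hG (by norm_num), Units.val_mul]
  simp only [show rhoG 7 = 6 from rfl, show rhoG 6 = 7 from rfl]
  rw [hG_val (by norm_num), hG_val (by norm_num), torMat_mul]
  apply torMat_congr
  intro i hi
  have hi' : i < 2 := hi
  have e1 : corootC chevG2 7 0 = 1 := by decide
  have e2 : corootC chevG2 7 1 = 0 := by decide
  have e3 : corootC chevG2 6 0 = 0 := by decide
  have e4 : corootC chevG2 6 1 = 1 := by decide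
  have x7 : exG m 7 = 3 * 3 ^ m := exG_short (by decide)
  have x6 : exG m 6 = 3 ^ m := exG_long (by decide)
  interval_cases i
  · simp only [e1, e3, zpow_one, zpow_zero, one_mul, x6, if_true]
  · simp only [e2, e4, zpow_one, zpow_zero, mul_one, x7, one_ne_zero, if_false]

/-- the fixed torus elements -/
theorem tor_fix_iff {h : GL chevG2.Idx K} {c : ℕ → K} (hc : ∀ i, c i ≠ 0)
    (hv : (h : Matrix chevG2.Idx chevG2.Idx K) = torMat chevG2 K c) :
    C.tau h = h ↔ c 0 = c 1 ^ 3 ^ m := by
  constructor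
  · intro e
    have e2 := C.tau_torMat hc hv
    rw [e, hv, torMat_eq_iff] at e2
    have := e2 9 (by norm_num)
    rw [torChar_9, torChar_9] at this
    simpa using this
  · intro e
    apply Units.ext
    rw [C.tau_torMat hc hv, hv]
    apply torMat_congr
    intro i hi
    have hi' : i < 2 := hi
    interval_cases i
    · simp only [if_true]; exact e.symm
    · simp only [one_ne_zero, if_false]
      rw [e, ← pow_mul]
      have : 3 ^ m * (3 * 3 ^ m) = 3 ^ (2 * m + 1) := by ring
      rw [this, C.frob]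

end ReeCtx

/-- the parameters `(w^θ, w)` -/
def cw (m : ℕ) (w : K) : ℕ → K := fun k => if k = 0 then w ^ 3 ^ m else w

/-- the parameters `(w^θ, w)` as a homomorphism -/
def hwPar (K : Type*) [Field K] (m : ℕ) : Kˣ →* (Fin chevG2.rank → Kˣ) where
  toFun w := fun i => if i.val = 0 then w ^ 3 ^ m else w
  map_one' := by funext i; simp
  map_mul' a b := by
    funext i
    simp only [Pi.mul_apply]
    split_ifs
    · rw [mul_pow]
    · rfl

/-- the elements `h(w) = h(w^θ, w)` of the torus -/
noncomputable def hwHom (K : Type*) [Field K] (m : ℕ) : Kˣ →* GL chevG2.Idx K :=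
  (torHom chevG2 K).comp (hwPar K m)

theorem hwHom_val (w : Kˣ) :
    ((hwHom K m w : GL chevG2.Idx K) : Matrix chevG2.Idx chevG2.Idx K) = torMat chevG2 K (cw m (w : K)) := by
  unfold hwHom
  rw [MonoidHom.comp_apply, torHom_val]
  apply torMat_congr
  intro i hi
  unfold extPar hwPar cw
  rw [dif_pos hi]
  simp only [MonoidHom.coe_mk, OneHom.coe_mk]
  split_ifs
  · simp
  · rfl

theorem cw_ne_zero {w : K} (hw : w ≠ 0) (i : ℕ) : cw m w i ≠ 0 := by
  unfold cw
  split_ifs
  · exact pow_ne_zero _ hw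
  · exact hw

theorem hwHom_mem_H (w : Kˣ) : hwHom K m w ∈ chevG2.diagonalSubgroup K := by
  have Δ := bn2 (K := K)
  exact mem_diagonal_of_val_eq_torMat Δ.hB Δ.hAll (fun i _ => cw_ne_zero w.ne_zero i) (hwHom_val w)

theorem hwHom_injective : Function.Injective (hwHom K m) := by
  intro a b hab
  have h := congrArg (fun g : GL chevG2.Idx K => (g : Matrix chevG2.Idx chevG2.Idx K)) hab
  simp only [hwHom_val] at h
  rw [torMat_eq_iff] at h
  have := h 11 (by norm_num)
  rw [torChar_11, torChar_11] at this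
  unfold cw at this
  simp only [one_ne_zero, if_false] at this
  exact Units.ext this

/-- the value of the highest root character on `h(w)` -/
theorem torChar_cw_11 (w : K) : torChar chevG2 (cw m w) 11 = w := by
  rw [torChar_11]
  unfold cw
  simp

namespace ReeCtx

variable (C : ReeCtx K m)

theorem hwHom_mem_Fix (w : Kˣ) : hwHom K m w ∈ C.Fix := by
  rw [C.mem_Fix]
  refine ⟨H_le_group (hwHom_mem_H w), ?_⟩
  rw [C.tor_fix_iff (fun i => cw_ne_zero w.ne_zero i) (hwHom_val w)]
  unfold cw
  simp

/-- the fixed points in the torus are the `h(w)` -/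
theorem range_hwHom : (hwHom K m).range = chevG2.diagonalSubgroup K ⊓ C.Fix := by
  have Δ := bn2 (K := K)
  apply le_antisymm
  · rintro g ⟨w, rfl⟩
    exact ⟨hwHom_mem_H w, C.hwHom_mem_Fix w⟩
  · intro h hmem
    have hh : h ∈ chevG2.diagonalSubgroup K := hmem.1
    have hf : h ∈ C.Fix := hmem.2
    obtain ⟨c, hc, hv⟩ := exists_torMat_of_mem_diagonal Δ.hB Δ.hH hh
    rw [C.mem_Fix] at hf
    have e := (C.tor_fix_iff hc hv).1 hf.2
    refine ⟨Units.mk0 (c 1) (hc 1), ?_⟩
    apply Units.ext
    rw [hwHom_val, hv]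
    apply torMat_congr
    intro i hi
    have hi' : i < 2 := hi
    unfold cw
    interval_cases i
    · simp only [if_true, Units.val_mk0]; exact e.symm
    · simp only [one_ne_zero, if_false, Units.val_mk0]

theorem card_H_inf_Fix [Fintype K] :
    Nat.card ↥(chevG2.diagonalSubgroup K ⊓ C.Fix) = Fintype.card K - 1 := by
  classical
  rw [← C.range_hwHom, ← Nat.card_congr (MonoidHom.ofInjective (hwHom_injective (K := K) (m := m))).toEquiv,
    Nat.card_eq_fintype_card, Fintype.card_units]

end ReeCtx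

end Cfsg.Agent.Helper6.Ree
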