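import Mathlib
import Cfsg.Agent.Helper6.Ree.G2Tor

set_option autoImplicit false
set_option linter.unusedSectionVars false
set_option linter.unusedVariables false
set_option linter.unusedSimpArgs false

/-!
The torus elements `h(u^{3θ+1})` lie in `²G₂`.
-/

namespace Cfsg.Agent.Helper6.Ree

open Cfsg.Lie Cfsg.Agent.Helper6

variable {K : Type*} [Field K] {m : ℕ}

theorem reeU_0u0 (u : K) : reeU m (0 : K) u 0 = X 8 (u ^ 3 ^ m) * X 10 u := by
  rw [reeU_eq]
  have h0 : (0 : K) ^ 3 ^ m = 0 := zero_pow (by positivity)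
  rw [h0, zero_pow (Nat.succ_ne_zero _), zero_pow (Nat.succ_ne_zero _), X_zero, X_zero, X_zero, zero_add,
    zero_add, X_zero]
  simp only [one_mul, mul_one]

theorem reeV_0u0 (u : K) : reeV m (0 : K) u 0 = X 3 (-(u ^ 3 ^ m)) * X 1 (-u) := by
  rw [reeV_eq]
  have h0 : (0 : K) ^ 3 ^ m = 0 := zero_pow (by positivity)
  rw [h0, zero_pow (Nat.succ_ne_zero _), zero_pow (Nat.succ_ne_zero _), neg_zero, X_zero, X_zero, X_zero,
    zero_add, zero_add, neg_zero, X_zero]
  simp only [one_mul, mul_one]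

/-- the elements `n(u) = n_{a+b}(u^θ) n_{3a+b}(u)` of `²G₂` -/
theorem nn_eq {u : K} (hu : u ≠ 0) :
    reeU m (0 : K) u 0 * reeV m (0 : K) u⁻¹ 0 * reeU m (0 : K) u 0 =
      nU hB2 8 (pow_ne_zero (3 ^ m) hu) * nU hB2 10 hu := by
  rw [reeU_0u0, reeV_0u0, nU_eq (by norm_num), nU_eq (by norm_num), inv_pow]
  simp only [show 11 - 8 = 3 from rfl, show 11 - 10 = 1 from rfl]
  have c1 := (c_10_3 u (-(u ^ 3 ^ m)⁻¹)).eq
  have c2 := (c_8_1 (u ^ 3 ^ m) (-u⁻¹)).eq
  have c3 := (c_8_10 (u ^ 3 ^ m) u).eq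
  generalize X 8 (u ^ 3 ^ m) = A at *
  generalize X 10 u = B at *
  generalize X 3 (-(u ^ 3 ^ m)⁻¹) = C' at *
  generalize X 1 (-u⁻¹) = D' at *
  calc A * B * (C' * D') * (A * B)
      = A * (B * C') * D' * A * B := by simp only [mul_assoc]
    _ = A * (C' * B) * D' * A * B := by rw [c1]
    _ = A * C' * B * (D' * A) * B := by simp only [mul_assoc]
    _ = A * C' * B * (A * D') * B := by rw [c2]
    _ = A * C' * (B * A) * D' * B := by simp only [mul_assoc]
    _ = A * C' * (A * B) * D' * B := by rw [c3]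
    _ = _ := by simp only [mul_assoc]

theorem nn_mem_twisted {u : K} (hu : u ≠ 0) :
    nU hB2 8 (pow_ne_zero (3 ^ m) hu) * nU hB2 10 hu ∈ twistedG2 K (3 ^ m) := by
  rw [← nn_eq hu]
  exact Subgroup.mul_mem _ (Subgroup.mul_mem _ (reeU_mem_twisted _ _ _) (reeV_mem_twisted _ _ _))
    (reeU_mem_twisted _ _ _)

theorem commute_nU_10_8 {a b : K} (ha : a ≠ 0) (hb : b ≠ 0) :
    Commute (nU hB2 10 ha) (nU hB2 8 hb) := by
  rw [nU_eq (by norm_num), nU_eq (by norm_num)]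
  simp only [show 11 - 8 = 3 from rfl, show 11 - 10 = 1 from rfl]
  have h1 : ∀ x y : K, Commute (X 10 x) (X 8 y * X 3 (-b⁻¹) * X 8 y) := fun x y =>
    ((c_8_10 y x).symm.mul_right (c_10_3 x _)).mul_right (c_8_10 y x).symm
  have h2 : ∀ x y : K, Commute (X 1 x) (X 8 y * X 3 (-b⁻¹) * X 8 y) := fun x y =>
    ((c_8_1 y x).symm.mul_right (c_3_1 _ x).symm).mul_right (c_8_1 y x).symm
  exact ((h1 a b).mul_left (h2 _ b)).mul_left (h1 a b)

/-- `h_{a+b}(u^θ) h_{3a+b}(u)` lies in `²G₂` -/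
theorem hh_mem_twisted {u : K} (hu : u ≠ 0) :
    hG 8 (pow_ne_zero (3 ^ m) hu) * hG 10 hu ∈ twistedG2 K (3 ^ m) := by
  have hm1 : (-1 : K) ≠ 0 := neg_ne_zero.2 one_ne_zero
  have h1 := nn_mem_twisted (m := m) hu
  have h2 := nn_mem_twisted (m := m) hm1
  have e : hG 8 (pow_ne_zero (3 ^ m) hu) * hG 10 hu =
      (nU hB2 8 (pow_ne_zero (3 ^ m) hu) * nU hB2 10 hu) *
        (nU hB2 8 (pow_ne_zero (3 ^ m) hm1) * nU hB2 10 hm1) := by
    unfold hG
    have e1 : nU hB2 8 (pow_ne_zero (3 ^ m) hm1) = nU hB2 8 hm1 := by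
      have : ((-1 : K)) ^ 3 ^ m = -1 := (Odd.pow (by decide : Odd 3)).neg_one_pow
      congr 1
    rw [e1]
    have c := (commute_nU_10_8 hu hm1).eq
    generalize nU hB2 8 (pow_ne_zero (3 ^ m) hu) = A at *
    generalize nU hB2 10 hu = B at *
    generalize nU hB2 8 hm1 = C' at *
    generalize nU hB2 10 hm1 = D' at *
    calc A * C' * (B * D') = A * (C' * B) * D' := by simp only [mul_assoc]
      _ = A * (B * C') * D' := by rw [c]
      _ = _ := by simp only [mul_assoc]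
  rw [e]
  exact Subgroup.mul_mem _ h1 h2

/-- the parameters of `h_{a+b}(u^θ) h_{3a+b}(u)` -/
theorem hh_val {u : K} (hu : u ≠ 0) :
    ((hG 8 (pow_ne_zero (3 ^ m) hu) * hG 10 hu : GL chevG2.Idx K) : Matrix chevG2.Idx chevG2.Idx K) =
      torMat chevG2 K (fun k => if k = 0 then u ^ 3 ^ m * u else u ^ (3 * 3 ^ m) * u) := by
  rw [Units.val_mul, hG_val (by norm_num), hG_val (by norm_num), torMat_mul]
  apply torMat_congr
  intro i hi
  have hi' : i < 2 := hi
  have e1 : corootC chevG2 8 0 = 1 := by decide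
  have e2 : corootC chevG2 8 1 = 3 := by decide
  have e3 : corootC chevG2 10 0 = 1 := by decide
  have e4 : corootC chevG2 10 1 = 1 := by decide
  interval_cases i
  · simp only [e1, e3, zpow_one, if_true]
  · simp only [e2, e4, zpow_one, one_ne_zero, if_false]
    congr 1
    rw [show (3 : ℤ) = ((3 : ℕ) : ℤ) from rfl, zpow_natCast, ← pow_mul, mul_comm]

namespace ReeCtx

variable (C : ReeCtx K m)
include C

/-- `h(u^{3θ+1}) ∈ ²G₂` -/
theorem hw_pow_mem_twisted (u : Kˣ) : hwHom K m (u ^ (3 * 3 ^ m + 1)) ∈ twistedG2 K (3 ^ m) := by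
  have hu : (u : K) ≠ 0 := u.ne_zero
  have h := hh_mem_twisted (m := m) hu
  have e : hwHom K m (u ^ (3 * 3 ^ m + 1)) = hG 8 (pow_ne_zero (3 ^ m) hu) * hG 10 hu := by
    apply Units.ext
    rw [hwHom_val, hh_val]
    apply torMat_congr
    intro i hi
    have hi' : i < 2 := hi
    unfold cw
    interval_cases i
    · simp only [if_true, Units.val_pow_eq_pow_val]
      rw [← pow_mul]
      have : (3 * 3 ^ m + 1) * 3 ^ m = 3 ^ (2 * m + 1) + 3 ^ m := by ring
      rw [this, pow_add, C.frob, mul_comm]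
    · simp only [one_ne_zero, if_false, Units.val_pow_eq_pow_val]
      rw [pow_succ]
  rw [e]
  exact h

end ReeCtx

end Cfsg.Agent.Helper6.Ree
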