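import Mathlib
import Cfsg.Agent.Helper6.Ree.G2TorSq
import Cfsg.Agent.Helper6.Ree.G2Rank1
import Cfsg.Agent.Helper6.Chev.FormalFull

set_option autoImplicit false
set_option linter.unusedSectionVars false
set_option linter.unusedVariables false
set_option linter.unusedSimpArgs false

/-!
The torus element `h(-1)` lies in `²G₂`: read off from the cell of `x_{-a}(-1) x_{-b}(-1) ⋯`.
-/

namespace Cfsg.Agent.Helper6.Ree

open Cfsg.Lie Cfsg.Agent.Helper6

variable {K : Type*} [Field K] {m : ℕ}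

/-! ### formal evaluation of words -/

/-- the formal vector `x_{r_1}(σ_1) ⋯ x_{r_k}(σ_k) v` -/
def stepsF (w : List (ℕ × ℤ)) (v : List (ℕ × ℤ) × List (ℕ × ℤ)) : List (ℕ × ℤ) × List (ℕ × ℤ) :=
  w.foldr (fun p acc => stepF chevG2 p.1 p.2 acc) v

/-- all the intermediate vectors are in range -/
def stepsOK : List (ℕ × ℤ) → List (ℕ × ℤ) × List (ℕ × ℤ) → Prop
  | [], v => FOK chevG2 v
  | p :: w, v => p.1 < 12 ∧ FOK chevG2 (stepsF w v) ∧ stepsOK w v

instance instDecStepsOK : ∀ (w : List (ℕ × ℤ)) (v : List (ℕ × ℤ) × List (ℕ × ℤ)), Decidable (stepsOK w v)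
  | [], v => by unfold stepsOK; infer_instance
  | p :: w, v => by
    unfold stepsOK
    have := instDecStepsOK w v
    infer_instance

theorem wordMat_mulVec_evalF (w : List (ℕ × ℤ)) (v : List (ℕ × ℤ) × List (ℕ × ℤ)) (h : stepsOK w v) :
    (chevG2.wordMat K (w.map fun p => (p.1, ((p.2 : ℤ) : K)))).mulVec (evalF chevG2 K v) =
      evalF chevG2 K (stepsF w v) := by
  induction w with
  | nil => simp [ChevalleyDatum.wordMat, stepsF]
  | cons p w ih =>
    obtain ⟨h1, h2, h3⟩ := h
    have e : chevG2.wordMat K ((p :: w).map fun p => (p.1, ((p.2 : ℤ) : K))) =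
        chevG2.x K p.1 ((p.2 : ℤ) : K) * chevG2.wordMat K (w.map fun p => (p.1, ((p.2 : ℤ) : K))) := by
      simp [ChevalleyDatum.wordMat]
    rw [e, ← Matrix.mulVec_mulVec, ih h3]
    exact evalF_step hB2 h1 p.2 _ h2.1 h2.2

/-- the word of `x_{-a}(-1) x_{-b}(-1) x_{-a-b}(-1) x_{-2a-b}(-1)` -/
def wY : List (ℕ × ℤ) := [(4, -1), (5, -1), (3, -1), (2, -1)]

/-- the word of `n₀` -/
def wN : List (ℕ × ℤ) := [(8, 1), (10, 1), (3, -1), (1, -1), (8, 1), (10, 1)]

theorem wY_ok : stepsOK wY ([], [(11, 1)]) := by decide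
theorem wY_coeff : coeffOf (stepsF wY ([], [(11, 1)])).2 0 = -2 := by decide
theorem wN_ok : stepsOK wN ([], [(11, 1)]) := by decide
theorem wN_coeff : coeffOf (stepsF wN ([], [(11, 1)])).2 0 = -1 := by decide

/-- the index of the lowest root vector -/
def i0 : chevG2.Idx := Sum.inr ⟨0, by decide⟩

theorem word_entry (w : List (ℕ × ℤ)) (h : stepsOK w ([], [(11, 1)])) :
    ((chevG2.wordMat K (w.map fun p => (p.1, ((p.2 : ℤ) : K)))).mulVec (ev chevG2 K 11)) i0 =
      ((coeffOf (stepsF w ([], [(11, 1)])).2 0 : ℤ) : K) := by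
  rw [← evalF_single, wordMat_mulVec_evalF w _ h]
  exact evalF_apply_inr _ _

/-! ### the unipotent group fixes the highest root vector, and its matrices have first row `e_0` -/

theorem chainEntry_11 : ∀ r : Fin 12, 6 ≤ r.val → r.val ≠ 11 → chevG2.chainEntry r.val 11 = [] := by
  decide

theorem x_pos_e11 {r : ℕ} (h6 : 6 ≤ r) (hr : r < 12) (t : K) :
    (chevG2.x K r t).mulVec (ev chevG2 K 11) = ev chevG2 K 11 := by
  by_cases e : r = 11
  · subst e; exact x_mulVec_ev_self hB2 hr t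
  · have hm : MemOK chevG2 r 11 := by
      refine ⟨by decide, Ne.symm e, ?_⟩
      rw [neg_eq hr]
      omega
    rw [x_of_lt hr, x_mulVec_ev' hB2.keys ⟨r, hr⟩ t hm, chainEntry_11 ⟨r, hr⟩ h6 e]
    simp [chainVec]

theorem U_fix_e11 {u : GL chevG2.Idx K} (hu : u ∈ chevG2.posUnipotent K) :
    (u : Matrix chevG2.Idx chevG2.Idx K).mulVec (ev chevG2 K 11) = ev chevG2 K 11 := by
  unfold ChevalleyDatum.posUnipotent at hu
  induction hu using Subgroup.closure_induction with
  | mem g hg =>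
    obtain ⟨r, t, hr, h3⟩ := hg
    have hr' := isPos_iff.1 hr
    rw [h3]
    exact x_pos_e11 hr'.1 hr'.2 t
  | one => simp
  | mul a b _ _ iha ihb => rw [Units.val_mul, ← Matrix.mulVec_mulVec, ihb, iha]
  | inv a _ iha =>
    have : ((a⁻¹ : GL chevG2.Idx K) : Matrix chevG2.Idx chevG2.Idx K).mulVec (ev chevG2 K 11) =
        ((a⁻¹ : GL chevG2.Idx K) : Matrix chevG2.Idx chevG2.Idx K).mulVec
          ((a : Matrix chevG2.Idx chevG2.Idx K).mulVec (ev chevG2 K 11)) := by rw [iha]
    rw [this, Matrix.mulVec_mulVec, ← Units.val_mul, inv_mul_cancel, Units.val_one, Matrix.one_mulVec]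

theorem chainCoeff_zero :
    ∀ r : Fin 12, 6 ≤ r.val → ∀ s : Fin 12, chevG2.chainCoeff r.val s.val 0 = [] := by
  decide

theorem xMat_row0 {r : ℕ} (h6 : 6 ≤ r) (hr : r < 12) (t : K) (j : chevG2.Idx) :
    chevG2.xMat K ⟨r, hr⟩ t i0 j = if j = i0 then 1 else 0 := by
  unfold i0
  have hne : (⟨0, by decide⟩ : Fin chevG2.nroots) ≠ ⟨r, hr⟩ := by
    intro h
    have := congrArg Fin.val h
    simp at this
    omega
  rcases j with i | s
  · simp [ChevalleyDatum.xMat, hne]
  · unfold ChevalleyDatum.xMat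
    simp only [Matrix.of_apply]
    by_cases e1 : s = ⟨r, hr⟩
    · rw [if_pos e1, if_neg hne]
      rw [if_neg]
      intro h
      apply hne
      rw [← e1]
      exact (Sum.inr.inj h).symm
    · rw [if_neg e1]
      by_cases e2 : s.val = chevG2.negIdx.getD r 0
      · rw [if_pos e2]
        simp only [hne, if_false]
        by_cases e3 : (⟨0, by decide⟩ : Fin chevG2.nroots) = s
        · rw [if_pos e3, if_pos (by rw [e3])]
        · rw [if_neg e3, if_neg]
          intro h
          exact e3 (Sum.inr.inj h).symm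
      · rw [if_neg e2]
        have := chainCoeff_zero ⟨r, hr⟩ h6 s
        simp only at this
        rw [this]
        simp only [List.map_nil, List.sum_nil, add_zero]
        by_cases e3 : (⟨0, by decide⟩ : Fin chevG2.nroots) = s
        · rw [if_pos e3, if_pos (by rw [e3])]
        · rw [if_neg e3, if_neg]
          intro h
          exact e3 (Sum.inr.inj h).symm

theorem U_row0 {u : GL chevG2.Idx K} (hu : u ∈ chevG2.posUnipotent K) (v : chevG2.Idx → K) :
    ((u : Matrix chevG2.Idx chevG2.Idx K).mulVec v) i0 = v i0 := by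
  unfold ChevalleyDatum.posUnipotent at hu
  induction hu using Subgroup.closure_induction generalizing v with
  | mem g hg =>
    obtain ⟨r, t, hr, h3⟩ := hg
    have hr' := isPos_iff.1 hr
    rw [h3, x_of_lt hr'.2]
    simp only [Matrix.mulVec, dotProduct, xMat_row0 hr'.1 hr'.2]
    simp
  | one => simp
  | mul a b _ _ iha ihb => rw [Units.val_mul, ← Matrix.mulVec_mulVec, iha, ihb]
  | inv a _ iha =>
    have h1 := iha (((a⁻¹ : GL chevG2.Idx K) : Matrix chevG2.Idx chevG2.Idx K).mulVec v)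
    rw [Matrix.mulVec_mulVec, ← Units.val_mul, mul_inv_cancel, Units.val_one, Matrix.one_mulVec] at h1
    exact h1.symm

theorem torMat_mulVec_i0 (c : ℕ → K) (v : chevG2.Idx → K) :
    ((torMat chevG2 K c).mulVec v) i0 = torChar chevG2 c 0 * v i0 := by
  unfold torMat dMat i0
  rw [Matrix.mulVec_diagonal]
  rfl

theorem torChar_0 (c : ℕ → K) : torChar chevG2 c 0 = (c 1)⁻¹ := by
  rw [torChar_g2]
  have h1 : chevG2.cartan 0 0 = 0 := by decide
  have h2 : chevG2.cartan 1 0 = -1 := by decide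
  rw [h1, h2, zpow_zero, one_mul, zpow_neg_one]

/-! ### the two words -/

theorem reeV_100_val : ((reeV m (1 : K) 0 0 : GL chevG2.Idx K) : Matrix chevG2.Idx chevG2.Idx K) =
    chevG2.wordMat K (wY.map fun p => (p.1, ((p.2 : ℤ) : K))) := by
  rw [reeV_eq]
  have h0 : (0 : K) ^ 3 ^ m = 0 := zero_pow (by positivity)
  rw [h0, one_pow, one_pow, one_pow, add_zero, neg_zero, X_zero, X_zero, one_mul, mul_one]
  simp only [Units.val_mul, X_val, wY, ChevalleyDatum.wordMat, List.map_cons, List.map_nil,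
    List.prod_cons, List.prod_nil, mul_one, Int.cast_neg, Int.cast_one, mul_assoc]

theorem n0_val : ((n0 K m : GL chevG2.Idx K) : Matrix chevG2.Idx chevG2.Idx K) =
    chevG2.wordMat K (wN.map fun p => (p.1, ((p.2 : ℤ) : K))) := by
  unfold n0
  rw [reeU_010, reeV_010]
  simp only [Units.val_mul, X_val, wN, ChevalleyDatum.wordMat, List.map_cons, List.map_nil,
    List.prod_cons, List.prod_nil, mul_one, Int.cast_neg, Int.cast_one, mul_assoc]

theorem reeV_100_entry [CharP K 3] :
    (((reeV m (1 : K) 0 0 : GL chevG2.Idx K) : Matrix chevG2.Idx chevG2.Idx K).mulVec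
      (ev chevG2 K 11)) i0 = 1 := by
  rw [reeV_100_val, word_entry wY wY_ok, wY_coeff]
  have h3 : (3 : K) = 0 := three_eq_zero
  push_cast
  linear_combination (-1 : K) * h3

theorem n0_entry :
    (((n0 K m : GL chevG2.Idx K) : Matrix chevG2.Idx chevG2.Idx K).mulVec (ev chevG2 K 11)) i0 = -1 := by
  rw [n0_val, word_entry wN wN_ok, wN_coeff]
  push_cast
  rfl

theorem ev11_i0 : ev chevG2 K 11 i0 = 0 := by
  unfold i0
  rw [ev_apply_inr]
  simp

namespace ReeCtx

variable (C : ReeCtx K m)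
include C

/-- `h(-1) ∈ ²G₂` -/
theorem hw_neg_one_mem_twisted : hwHom K m (-1) ∈ twistedG2 K (3 ^ m) := by
  have : CharP K 3 := C.char3
  have Δ := bn2 (K := K)
  have hy : reeV m (1 : K) 0 0 ∈ twistedG2 K (3 ^ m) := reeV_mem_twisted _ _ _
  have hy0 := reeV_100_entry (K := K) (m := m)
  rcases C.cells hy with hB | ⟨b, hb, u, hu, e⟩
  · exfalso
    obtain ⟨u, hu, h, hh, e⟩ := C.borel_inf hB
    obtain ⟨c, hc, hv⟩ := exists_torMat_of_mem_diagonal Δ.hB Δ.hH hh.1
    rw [e, Units.val_mul, ← Matrix.mulVec_mulVec, U_row0 hu.1, hv, torMat_mulVec_i0, ev11_i0,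
      mul_zero] at hy0
    exact zero_ne_one hy0
  · obtain ⟨u₁, hu₁, h, hh, eb⟩ := C.borel_inf hb
    have hhF : h ∈ (hwHom K m).range := by
      rw [C.range_hwHom]
      exact ⟨hh.1, C.twisted_le_Fix hh.2⟩
    obtain ⟨w, rfl⟩ := hhF
    rw [e, eb, Units.val_mul, Units.val_mul, Units.val_mul, ← Matrix.mulVec_mulVec, U_fix_e11 hu.1,
      ← Matrix.mulVec_mulVec, ← Matrix.mulVec_mulVec, U_row0 hu₁.1, hwHom_val, torMat_mulVec_i0,
      n0_entry, torChar_0] at hy0
    have hw : (w : K) = -1 := by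
      unfold cw at hy0
      simp only [one_ne_zero, if_false] at hy0
      have hw0 : (w : K) ≠ 0 := w.ne_zero
      field_simp at hy0
      linear_combination -hy0
    have : w = -1 := Units.ext (by rw [hw]; simp)
    rw [← this]
    exact hh.2

end ReeCtx

end Cfsg.Agent.Helper6.Ree
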