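import Mathlib
import Cfsg.Agent.Helper6.Ree.G2TorNeg

set_option autoImplicit false
set_option linter.unusedSectionVars false
set_option linter.unusedVariables false
set_option linter.unusedSimpArgs false

/-!
The torus and the order of `²G₂(3^{2m+1})`.
-/

namespace Cfsg.Agent.Helper6.Ree

open Cfsg.Lie Cfsg.Agent.Helper6

variable {K : Type*} [Field K] {m : ℕ}

theorem q_mod_four (m : ℕ) : 3 ^ (2 * m + 1) % 4 = 3 := by
  have h : 3 ^ (2 * m + 1) = 3 * 9 ^ m := by
    rw [pow_succ, pow_mul]; norm_num; ring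
  have h9 : 9 ^ m % 4 = 1 := by
    rw [Nat.pow_mod]; norm_num
  rw [h]
  omega

namespace ReeCtx

variable (C : ReeCtx K m)
include C

/-- every `h(w)` lies in `²G₂` -/
theorem hw_mem_twisted [Fintype K] (hK : Fintype.card K = 3 ^ (2 * m + 1)) (w : Kˣ) :
    hwHom K m w ∈ twistedG2 K (3 ^ m) := by
  classical
  have : CharP K 3 := C.char3
  let S : Subgroup Kˣ := (twistedG2 K (3 ^ m)).comap (hwHom K m)
  have hS : ∀ w, w ∈ S ↔ hwHom K m w ∈ twistedG2 K (3 ^ m) := fun w => Iff.rfl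
  rw [← hS]
  -- squares
  have hsq : ∀ z : Kˣ, z ^ 2 ∈ S := by
    intro z
    have h1 : z ^ (3 * 3 ^ m + 1) ∈ S := (hS _).2 (C.hw_pow_mem_twisted z)
    have h2 := Subgroup.pow_mem S h1 (3 * 3 ^ m - 1)
    have hq : z ^ (Fintype.card K - 1) = 1 := by
      rw [← Fintype.card_units]; exact pow_card_eq_one
    have e : (3 * 3 ^ m + 1) * (3 * 3 ^ m - 1) = (Fintype.card K - 1) * 3 + 2 := by
      rw [hK]
      have h3 : 1 ≤ 3 * 3 ^ m := Nat.succ_le_of_lt (by positivity)
      have h4 : 1 ≤ 3 ^ (2 * m + 1) := Nat.succ_le_of_lt (by positivity)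
      zify [h3, h4]
      ring
    rw [← pow_mul, e, pow_add, pow_mul, hq, one_pow, one_mul] at h2
    exact h2
  have hneg : (-1 : Kˣ) ∈ S := (hS _).2 C.hw_neg_one_mem_twisted
  have hchar : ringChar K ≠ 2 := by
    rw [ringChar.eq K 3]; norm_num
  have hodd : Odd (Fintype.card K / 2) := by
    rw [hK, Nat.odd_iff]
    have := q_mod_four m
    omega
  have hsq' : ∀ a : Kˣ, IsSquare (a : K) → a ∈ S := by
    rintro a ⟨r, hr⟩
    have hr0 : r ≠ 0 := by
      rintro rfl
      exact a.ne_zero (by rw [hr, mul_zero])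
    have : a = (Units.mk0 r hr0) ^ 2 := Units.ext (by rw [hr]; simp [sq])
    rw [this]
    exact hsq _
  rcases FiniteField.pow_dichotomy hchar w.ne_zero with h | h
  · exact hsq' w ((FiniteField.isSquare_iff hchar w.ne_zero).2 h)
  · have h2 : IsSquare (((-w : Kˣ)) : K) := by
      rw [FiniteField.isSquare_iff hchar (-w).ne_zero, Units.val_neg, neg_pow, h, hodd.neg_one_pow]
      ring
    have h3 := Subgroup.mul_mem S hneg (hsq' _ h2)
    simpa using h3

/-- `H ∩ ²G₂` is the fixed torus -/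
theorem H_inf_twisted [Fintype K] (hK : Fintype.card K = 3 ^ (2 * m + 1)) :
    chevG2.diagonalSubgroup K ⊓ twistedG2 K (3 ^ m) = chevG2.diagonalSubgroup K ⊓ C.Fix := by
  apply le_antisymm
  · exact inf_le_inf_left _ C.twisted_le_Fix
  · intro h hh
    refine ⟨hh.1, ?_⟩
    rw [← C.range_hwHom] at hh
    obtain ⟨w, rfl⟩ := hh
    exact C.hw_mem_twisted hK w

/-- `S1114`, given the twisting automorphism -/
theorem card_torus [Fintype K] (hK : Fintype.card K = 3 ^ (2 * m + 1)) :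
    Nat.card ↥(chevG2.diagonalSubgroup K ⊓ twistedG2 K (3 ^ m)) = 3 ^ (2 * m + 1) - 1 := by
  rw [C.H_inf_twisted hK, C.card_H_inf_Fix, hK]

/-- `S1069`, given the twisting automorphism -/
theorem card_ree [Fintype K] (hK : Fintype.card K = 3 ^ (2 * m + 1)) :
    Nat.card ↥(twistedG2 K (3 ^ m)) =
      (3 ^ (2 * m + 1)) ^ 3 * (3 ^ (2 * m + 1) - 1) * ((3 ^ (2 * m + 1)) ^ 3 + 1) := by
  rw [C.card_twisted, C.card_borel_inf, C.card_torus hK, C.U_inf_twisted, C.card_U_inf_Fix, hK, add_comm 1]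

end ReeCtx

end Cfsg.Agent.Helper6.Ree
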