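import Mathlib
import Cfsg.Agent.Helper6.Ree.G2Order

set_option autoImplicit false
set_option linter.unusedSectionVars false
set_option linter.unusedVariables false
set_option linter.unusedSimpArgs false

/-!
`²G₂(3^{2m+1})` is perfect for `m ≥ 1`.
-/

namespace Cfsg.Agent.Helper6.Ree

open Cfsg.Lie Cfsg.Agent.Helper6
open scoped commutatorElement

variable {K : Type*} [Field K] {m : ℕ}

/-- uniqueness of the form `x_a(p) x_b(q) g`, `g ∈ U_8` -/
theorem uge76_unique {p q p' q' : K} {g g' : GL chevG2.Idx K} (hg : g ∈ Uge chevG2 K 8)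
    (hg' : g' ∈ Uge chevG2 K 8) (h : X 7 p * (X 6 q * g) = X 7 p' * (X 6 q' * g')) :
    p = p' ∧ q = q' ∧ g = g' := by
  obtain ⟨c, hc, e⟩ := swap_76 p q
  obtain ⟨c', hc', e'⟩ := swap_76 p' q'
  have h' : X 6 q * (X 7 p * (c * g)) = X 6 q' * (X 7 p' * (c' * g')) := by
    have h1 : X 6 q * (X 7 p * (c * g)) = X 6 q * X 7 p * c * g := by simp only [mul_assoc]
    have h2 : X 6 q' * (X 7 p' * (c' * g')) = X 6 q' * X 7 p' * c' * g' := by simp only [mul_assoc]
    rw [h1, h2, ← e, ← e']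
    simpa only [mul_assoc] using h
  obtain ⟨e1, e2, e3⟩ := uge6_unique (Subgroup.mul_mem _ hc hg) (Subgroup.mul_mem _ hc' hg') h'
  subst e1 e2
  have hcc : c = c' := mul_left_cancel (e.symm.trans e')
  subst hcc
  exact ⟨rfl, rfl, mul_left_cancel e3⟩

theorem reeU_000 : reeU m (0 : K) 0 0 = 1 := by
  rw [reeU_eq]
  have h0 : (0 : K) ^ 3 ^ m = 0 := zero_pow (by positivity)
  simp only [h0, zero_pow (Nat.succ_ne_zero _), zero_add, X_zero, one_mul]

/-- generation of `²G₂` -/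
theorem twisted_le_of_gens (S : Subgroup (GL chevG2.Idx K)) (hU : ∀ t u v : K, reeU m t u v ∈ S)
    (hV : ∀ t u v : K, reeV m t u v ∈ S) : twistedG2 K (3 ^ m) ≤ S := by
  unfold twistedG2 ChevalleyDatum.genSubgroup
  rw [Subgroup.closure_le]
  rintro g ⟨w, ⟨t, u, v, rfl | rfl⟩, hg⟩
  · have : g = reeU m t u v := Units.ext (by rw [hg, reeU_val])
    rw [this]; exact hU t u v
  · have : g = reeV m t u v := Units.ext (by rw [hg, reeV_val])
    rw [this]; exact hV t u v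

theorem reeV_mem_V (t u v : K) : reeV m t u v ∈ chevG2.negUnipotent K := by
  rw [reeV_eq]
  exact Subgroup.mul_mem _ (ReeCtx.X_mem_V (by norm_num) _)
    (Subgroup.mul_mem _ (ReeCtx.X_mem_V (by norm_num) _)
      (Subgroup.mul_mem _ (ReeCtx.X_mem_V (by norm_num) _)
        (Subgroup.mul_mem _ (ReeCtx.X_mem_V (by norm_num) _)
          (Subgroup.mul_mem _ (ReeCtx.X_mem_V (by norm_num) _)
            (ReeCtx.X_mem_V (by norm_num) _)))))

/-- conjugation of root elements by the torus elements `h(w)` -/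
theorem hw_conj_X (w : Kˣ) {r : ℕ} (hr : r < 12) (t : K) :
    hwHom K m w * X r t * (hwHom K m w)⁻¹ = X r (torChar chevG2 (cw m (w : K)) r * t) := by
  have Δ := bn2 (K := K)
  rw [mul_inv_eq_iff_eq_mul]
  apply Units.ext
  rw [Units.val_mul, Units.val_mul, hwHom_val, X_val, X_val]
  exact torMat_mul_x Δ.hB Δ.hAdd (fun i => cw_ne_zero w.ne_zero i) hr t

/-- `h(w)` acts without fixed points on `U ∩ ²G₂` for suitable `w` -/
theorem hw_fpf (w : Kˣ) (h6 : torChar chevG2 (cw m (w : K)) 6 ≠ 1)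
    (h10 : torChar chevG2 (cw m (w : K)) 10 ≠ 1) (h11 : (w : K) ≠ 1) {t u v : K}
    (hfix : hwHom K m w * reeU m t u v * (hwHom K m w)⁻¹ = reeU m t u v) :
    t = 0 ∧ u = 0 ∧ v = 0 := by
  have hconj : ∀ a b : GL chevG2.Idx K, hwHom K m w * (a * b) * (hwHom K m w)⁻¹ =
      (hwHom K m w * a * (hwHom K m w)⁻¹) * (hwHom K m w * b * (hwHom K m w)⁻¹) := by
    intro a b; group
  rw [reeU_eq] at hfix
  simp only [hconj, hw_conj_X w (show 7 < 12 by norm_num), hw_conj_X w (show 6 < 12 by norm_num),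
    hw_conj_X w (show 8 < 12 by norm_num), hw_conj_X w (show 9 < 12 by norm_num),
    hw_conj_X w (show 10 < 12 by norm_num), hw_conj_X w (show 11 < 12 by norm_num)] at hfix
  have hmem : ∀ a b c d : K, X 8 a * (X 9 b * (X 10 c * X 11 d)) ∈ Uge chevG2 K 8 := fun a b c d =>
    Subgroup.mul_mem _ (X_mem_Uge (by norm_num) (by norm_num) _)
      (Subgroup.mul_mem _ (X_mem_Uge (by norm_num) (by norm_num) _)
        (Subgroup.mul_mem _ (X_mem_Uge (by norm_num) (by norm_num) _)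
          (X_mem_Uge (by norm_num) (by norm_num) _)))
  obtain ⟨_, e6, eg⟩ := uge76_unique (hmem _ _ _ _) (hmem _ _ _ _) hfix
  have eg' : X 8 (torChar chevG2 (cw m (w : K)) 8 * (t ^ (3 ^ m + 1) + u ^ 3 ^ m)) *
      X 9 (torChar chevG2 (cw m (w : K)) 9 * (t ^ (2 * 3 ^ m + 1) + v ^ 3 ^ m)) *
      (X 10 (torChar chevG2 (cw m (w : K)) 10 * u) * X 11 (torChar chevG2 (cw m (w : K)) 11 * v)) =
      X 8 (t ^ (3 ^ m + 1) + u ^ 3 ^ m) * X 9 (t ^ (2 * 3 ^ m + 1) + v ^ 3 ^ m) *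
        (X 10 u * X 11 v) := by
    simpa only [mul_assoc] using eg
  obtain ⟨_, _, e10, e11⟩ := uge8_unique eg'
  rw [torChar_cw_11] at e11
  refine ⟨?_, ?_, ?_⟩
  · have : (torChar chevG2 (cw m (w : K)) 6 - 1) * t = 0 := by rw [sub_mul, e6, one_mul, sub_self]
    rcases mul_eq_zero.1 this with h | h
    · exact absurd (sub_eq_zero.1 h) h6
    · exact h
  · have : (torChar chevG2 (cw m (w : K)) 10 - 1) * u = 0 := by rw [sub_mul, e10, one_mul, sub_self]
    rcases mul_eq_zero.1 this with h | h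
    · exact absurd (sub_eq_zero.1 h) h10
    · exact h
  · have : ((w : K) - 1) * v = 0 := by rw [sub_mul, e11, one_mul, sub_self]
    rcases mul_eq_zero.1 this with h | h
    · exact absurd (sub_eq_zero.1 h) h11
    · exact h

/-- a torus parameter acting without fixed points -/
theorem exists_good_w [Fintype K] (hK : Fintype.card K = 3 ^ (2 * m + 1)) (hm : 1 ≤ m) :
    ∃ w : Kˣ, torChar chevG2 (cw m (w : K)) 6 ≠ 1 ∧ torChar chevG2 (cw m (w : K)) 10 ≠ 1 ∧
      (w : K) ≠ 1 := by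
  classical
  obtain ⟨w, hw⟩ := IsCyclic.exists_generator (α := Kˣ)
  have hord : orderOf w = 3 ^ (2 * m + 1) - 1 := by
    rw [orderOf_eq_card_of_forall_mem_zpowers hw, Nat.card_eq_fintype_card, Fintype.card_units, hK]
  have hθ : 3 ≤ 3 ^ m := by
    calc 3 = 3 ^ 1 := (pow_one 3).symm
      _ ≤ 3 ^ m := Nat.pow_le_pow_right (by norm_num) hm
  have hq : 3 ^ (2 * m + 1) = 3 * (3 ^ m * 3 ^ m) := by ring
  have hlt : 3 * 3 ^ m < 3 ^ (2 * m + 1) - 1 := by
    rw [hq]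
    have : 3 * 3 ^ m ≤ 3 ^ m * 3 ^ m := Nat.mul_le_mul_right _ hθ
    omega
  have hne : ∀ k : ℕ, 0 < k → k ≤ 3 * 3 ^ m → w ^ k ≠ 1 := by
    intro k hk0 hk h
    have := Nat.le_of_dvd hk0 (orderOf_dvd_of_pow_eq_one h)
    omega
  have hne' : ∀ k : ℕ, 0 < k → k ≤ 3 * 3 ^ m → (w : K) ^ k ≠ 1 := by
    intro k hk0 hk h
    apply hne k hk0 hk
    apply Units.ext
    rw [Units.val_pow_eq_pow_val, h, Units.val_one]
  have hw0 : (w : K) ≠ 0 := w.ne_zero
  refine ⟨w, ?_, ?_, ?_⟩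
  · rw [torChar_g2]
    have h1 : chevG2.cartan 0 6 = -3 := by decide
    have h2 : chevG2.cartan 1 6 = 2 := by decide
    rw [h1, h2]
    unfold cw
    simp only [if_true, one_ne_zero, if_false]
    intro h
    have e : (w : K) ^ (3 * 3 ^ m - 2) = 1 := by
      have h3 : ((w : K) ^ 3 ^ m) ^ (-3 : ℤ) = (((w : K) ^ 3 ^ m) ^ 3)⁻¹ := by
        rw [show (-3 : ℤ) = -((3 : ℕ) : ℤ) from rfl, zpow_neg, zpow_natCast]
      have h4 : (w : K) ^ (2 : ℤ) = (w : K) ^ 2 := by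
        rw [show (2 : ℤ) = ((2 : ℕ) : ℤ) from rfl, zpow_natCast]
      rw [h3, h4, inv_mul_eq_one₀ (pow_ne_zero _ (pow_ne_zero _ hw0)), ← pow_mul] at h
      have h5 : (w : K) ^ (3 ^ m * 3) = (w : K) ^ (3 * 3 ^ m - 2) * (w : K) ^ 2 := by
        have h7 : 3 ^ m * 3 = (3 * 3 ^ m - 2) + 2 := by
          have : 2 ≤ 3 * 3 ^ m := by omega
          omega
        rw [h7, pow_add]
      rw [h5] at h
      exact (mul_right_cancel₀ (pow_ne_zero 2 hw0) (h.trans (one_mul _).symm)).symm ▸ rfl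
    exact hne' _ (by omega) (by omega) e
  · rw [torChar_g2]
    have h1 : chevG2.cartan 0 10 = 3 := by decide
    have h2 : chevG2.cartan 1 10 = -1 := by decide
    rw [h1, h2]
    unfold cw
    simp only [if_true, one_ne_zero, if_false]
    intro h
    have e : (w : K) ^ (3 * 3 ^ m - 1) = 1 := by
      have h3 : ((w : K) ^ 3 ^ m) ^ (3 : ℤ) = ((w : K) ^ 3 ^ m) ^ 3 := by
        rw [show (3 : ℤ) = ((3 : ℕ) : ℤ) from rfl, zpow_natCast]
      rw [h3, zpow_neg_one, mul_inv_eq_one₀ hw0, ← pow_mul] at h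
      have h5 : (w : K) ^ (3 ^ m * 3) = (w : K) ^ (3 * 3 ^ m - 1) * (w : K) := by
        have h7 : 3 ^ m * 3 = (3 * 3 ^ m - 1) + 1 := by
          have : 1 ≤ 3 * 3 ^ m := by omega
          omega
        rw [h7, pow_succ]
      rw [h5] at h
      have h6 : (w : K) ^ (3 * 3 ^ m - 1) * (w : K) = 1 * (w : K) := by rw [h, one_mul]
      exact mul_right_cancel₀ hw0 h6
    exact hne' _ (by omega) (by omega) e
  · intro h
    exact hne' 1 (by norm_num) (by omega) (by rw [pow_one, h])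

namespace ReeCtx

variable (C : ReeCtx K m)
include C

/-- `S1116`, given the twisting automorphism -/
theorem perfect [Fintype K] (hK : Fintype.card K = 3 ^ (2 * m + 1)) (hm : 1 ≤ m) :
    commutator ↥(twistedG2 K (3 ^ m)) = ⊤ := by
  classical
  have : CharP K 3 := C.char3
  have Δ := bn2 (K := K)
  obtain ⟨w, h6, h10, h11⟩ := exists_good_w (K := K) hK hm
  have hhG : hwHom K m w ∈ twistedG2 K (3 ^ m) := C.hw_mem_twisted hK w
  have hhH : hwHom K m w ∈ chevG2.diagonalSubgroup K := hwHom_mem_H w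
  set h := hwHom K m w with hdef
  let hG : ↥(twistedG2 K (3 ^ m)) := ⟨h, hhG⟩
  have hnorm := diagonal_le_normalizer_posUnipotent Δ.hB Δ.hAll Δ.hAdd Δ.hH hhH
  -- the commutator map on `U ∩ ²G₂`
  let A := chevG2.posUnipotent K ⊓ twistedG2 K (3 ^ m)
  have hmemA : ∀ x : ↥A, h * x.1 * h⁻¹ * x.1⁻¹ ∈ A := by
    intro x
    refine ⟨Subgroup.mul_mem _ ((Subgroup.mem_normalizer_iff.1 hnorm x.1).1 x.2.1)
      (Subgroup.inv_mem _ x.2.1), ?_⟩
    exact Subgroup.mul_mem _ (Subgroup.mul_mem _ (Subgroup.mul_mem _ hhG x.2.2)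
      (Subgroup.inv_mem _ hhG)) (Subgroup.inv_mem _ x.2.2)
  let f : ↥A → ↥A := fun x => ⟨h * x.1 * h⁻¹ * x.1⁻¹, hmemA x⟩
  have hfin : Finite ↥A := by
    have : Finite (GL chevG2.Idx K) := inferInstance
    exact Subtype.finite
  have hinj : Function.Injective f := by
    intro x y hxy
    have e : h * x.1 * h⁻¹ * x.1⁻¹ = h * y.1 * h⁻¹ * y.1⁻¹ := congrArg Subtype.val hxy
    have hz : y.1⁻¹ * x.1 ∈ A := Subgroup.mul_mem _ (Subgroup.inv_mem _ y.2) x.2
    have hzfix : h * (y.1⁻¹ * x.1) * h⁻¹ = y.1⁻¹ * x.1 := by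
      have e2 : h * x.1 * h⁻¹ = h * y.1 * h⁻¹ * y.1⁻¹ * x.1 := by
        rw [← e]; group
      calc h * (y.1⁻¹ * x.1) * h⁻¹ = (h * y.1 * h⁻¹)⁻¹ * (h * x.1 * h⁻¹) := by group
        _ = (h * y.1 * h⁻¹)⁻¹ * (h * y.1 * h⁻¹ * y.1⁻¹ * x.1) := by rw [e2]
        _ = y.1⁻¹ * x.1 := by group
    have hz' : y.1⁻¹ * x.1 ∈ chevG2.posUnipotent K ⊓ C.Fix := by
      rw [← C.U_inf_twisted]; exact hz
    obtain ⟨t, u, v, hz''⟩ := C.mem_U_inf_Fix.1 hz'
    rw [hz''] at hzfix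
    obtain ⟨rfl, rfl, rfl⟩ := hw_fpf w h6 h10 h11 hzfix
    rw [reeU_000] at hz''
    apply Subtype.ext
    have : x.1 = y.1 * (y.1⁻¹ * x.1) := by group
    rw [this, hz'', mul_one]
  have hsurj : Function.Surjective f := Finite.injective_iff_surjective.1 hinj
  -- `U ∩ ²G₂` lies in the commutator subgroup
  have hA : ∀ x (hx : x ∈ A), (⟨x, hx.2⟩ : ↥(twistedG2 K (3 ^ m))) ∈
      commutator ↥(twistedG2 K (3 ^ m)) := by
    intro x hx
    obtain ⟨y, hy⟩ := hsurj ⟨x, hx⟩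
    have e : x = h * y.1 * h⁻¹ * y.1⁻¹ := (congrArg Subtype.val hy).symm
    have : (⟨x, hx.2⟩ : ↥(twistedG2 K (3 ^ m))) =
        ⁅hG, (⟨y.1, y.2.2⟩ : ↥(twistedG2 K (3 ^ m)))⁆ := by
      apply Subtype.ext
      rw [commutatorElement_def]
      exact e
    rw [this, commutator_def]
    exact Subgroup.commutator_mem_commutator (Subgroup.mem_top _) (Subgroup.mem_top _)
  -- the generators
  have key : twistedG2 K (3 ^ m) ≤
      (commutator ↥(twistedG2 K (3 ^ m))).map (twistedG2 K (3 ^ m)).subtype := by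
    apply twisted_le_of_gens
    · intro t u v
      exact ⟨_, hA _ ⟨reeU_mem_U t u v, reeU_mem_twisted t u v⟩, rfl⟩
    · intro t u v
      let s : ↥(twistedG2 K (3 ^ m)) := ⟨n0 K m, n0_mem_twisted⟩
      have h1 : n0 K m * reeV m t u v * (n0 K m)⁻¹ ∈ A :=
        ⟨big_conj_V C.n0_big (reeV_mem_V t u v),
          Subgroup.mul_mem _ (Subgroup.mul_mem _ n0_mem_twisted (reeV_mem_twisted t u v))
            (Subgroup.inv_mem _ n0_mem_twisted)⟩
      have h2 := hA _ h1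
      have h3 := (inferInstance : (commutator ↥(twistedG2 K (3 ^ m))).Normal).conj_mem _ h2 s⁻¹
      refine ⟨_, h3, ?_⟩
      simp only [Subgroup.coe_subtype, Subgroup.coe_mul, Subgroup.coe_inv, inv_inv, s]
      group
  rw [eq_top_iff]
  intro g _
  obtain ⟨x, hx, e⟩ := key g.2
  have : x = g := Subtype.ext e
  rw [← this]
  exact hx

end ReeCtx

end Cfsg.Agent.Helper6.Ree
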