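import Mathlib
import Cfsg.Agent.Helper6.Ree.G2Perfect
import Cfsg.Agent.Helper2.BN.Simple
import Cfsg.Agent.S1050

set_option autoImplicit false
set_option linter.unusedSectionVars false
set_option linter.unusedVariables false
set_option linter.unusedSimpArgs false

/-!
`²G₂(3^{2m+1})` is simple for `m ≥ 1`.
-/

namespace Cfsg.Agent.Helper6.Ree

open Cfsg.Lie Cfsg.Agent.Helper6

variable {K : Type*} [Field K] {m : ℕ}

namespace ReeCtx

variable (C : ReeCtx K m)
include C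

/-- `n₀⁻¹ h n₀ ∈ H ∩ G¹` -/
theorem n0_inv_conj_H1 {h : GL chevG2.Idx K}
    (hh : h ∈ chevG2.diagonalSubgroup K ⊓ twistedG2 K (3 ^ m)) :
    (n0 K m)⁻¹ * h * n0 K m ∈ chevG2.diagonalSubgroup K ⊓ twistedG2 K (3 ^ m) := by
  have hz : n0 K m * n0 K m ∈ chevG2.diagonalSubgroup K ⊓ twistedG2 K (3 ^ m) :=
    ⟨C.n0_sq, Subgroup.mul_mem _ n0_mem_twisted n0_mem_twisted⟩
  have e : (n0 K m)⁻¹ * h * n0 K m =
      (n0 K m * n0 K m)⁻¹ * (n0 K m * h * (n0 K m)⁻¹) * (n0 K m * n0 K m) := by group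
  rw [e]
  exact Subgroup.mul_mem _ (Subgroup.mul_mem _ (Subgroup.inv_mem _ hz) (C.n0_conj_H1 hh)) hz

/-- `S1073`, given the twisting automorphism -/
theorem simple [Fintype K] (hK : Fintype.card K = 3 ^ (2 * m + 1)) (hm : 1 ≤ m) :
    IsSimpleGroup ↥(twistedG2 K (3 ^ m)) ∧ ¬ IsMulCommutative ↥(twistedG2 K (3 ^ m)) := by
  have Δ := bn2 (K := K)
  obtain ⟨P, hPB, hPN⟩ := C.has_bn_pair
  have hperf := C.perfect hK hm
  have hcore : P.B.normalCore = ⊥ := by rw [hPB]; exact C.borel_core_trivial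
  have hnt : Nontrivial ↥(twistedG2 K (3 ^ m)) := by
    refine ⟨⟨⟨reeU m 0 1 0, reeU_mem_twisted _ _ _⟩, 1, ?_⟩⟩
    intro h
    exact C.reeU_010_ne_one (congrArg Subtype.val h)
  -- solvability of `B¹`
  have hsolv : Group.IsSolvable ↥P.B := by
    rw [hPB]
    have := Cfsg.Agent.S1050.result (F := K) chevG2 (by simp)
    let f : ↥((chevG2.borelSubgroup K ⊓ twistedG2 K (3 ^ m)).subgroupOf (twistedG2 K (3 ^ m))) →*
        ↥(chevG2.borelSubgroup K) :=
      { toFun := fun x => ⟨x.1.1, (Subgroup.mem_subgroupOf.1 x.2).1⟩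
        map_one' := rfl
        map_mul' := fun _ _ => rfl }
    apply Group.isSolvable_of_isSolvable_injective (f := f)
    intro x y hxy
    apply Subtype.ext
    apply Subtype.ext
    exact congrArg (fun z : ↥(chevG2.borelSubgroup K) => (z : GL chevG2.Idx K)) hxy
  -- the elements of `S` lie in `H¹ n₀`
  have hS : ∀ t ∈ P.S, (t : GL chevG2.Idx K) * (n0 K m)⁻¹ ∈
      chevG2.diagonalSubgroup K ⊓ twistedG2 K (3 ^ m) := by
    intro t ht
    have htN : t ∈ P.N := P.subset ht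
    rw [hPN, Subgroup.mem_subgroupOf] at htN
    have htB : t ∉ P.B := by
      intro hB
      apply P.conj_ne t ht
      ext b
      constructor
      · rintro ⟨b', hb', rfl⟩
        exact Subgroup.mul_mem _ (Subgroup.mul_mem _ hB hb') hB
      · intro hb
        refine ⟨t⁻¹ * b * t⁻¹, Subgroup.mul_mem _ (Subgroup.mul_mem _ (Subgroup.inv_mem _ hB) hb)
          (Subgroup.inv_mem _ hB), ?_⟩
        simp only
        group
    rcases C.N_inf htN with h | ⟨_, h⟩
    · exfalso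
      apply htB
      rw [hPB, Subgroup.mem_subgroupOf]
      exact ⟨Δ.diag_le_borel h, t.2⟩
    · exact h
  have hirr : P.Irreducible := by
    intro J hJ ⟨s, hs⟩ ⟨s', hs'⟩
    exfalso
    have h1 := hS s (hJ hs)
    have h2 := hS s' hs'.1
    have h3 : s⁻¹ * s' ∈ P.B := by
      rw [hPB, Subgroup.mem_subgroupOf]
      have e : ((s⁻¹ * s' : ↥(twistedG2 K (3 ^ m))) : GL chevG2.Idx K) =
          (n0 K m)⁻¹ * (((s : GL chevG2.Idx K) * (n0 K m)⁻¹)⁻¹ *
            ((s' : GL chevG2.Idx K) * (n0 K m)⁻¹)) * n0 K m := by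
        simp only [Subgroup.coe_mul, Subgroup.coe_inv]
        group
      rw [e]
      exact C.H1_le_B1 (C.n0_inv_conj_H1 (Subgroup.mul_mem _ (Subgroup.inv_mem _ h1) h2))
    have := P.inj s (hJ hs) s' hs'.1 h3
    exact hs'.2 (this ▸ hs)
  refine ⟨Cfsg.Agent.Helper2.BN.isSimpleGroup_of_irreducible P hirr hsolv hperf hcore, ?_⟩
  intro hcomm
  rw [← commutator_eq_bot_iff, hperf] at hcomm
  exact top_ne_bot hcomm

end ReeCtx

end Cfsg.Agent.Helper6.Ree
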