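import Mathlib
import Cfsg.Agent.Helper6.Ree.G2Perfect

set_option autoImplicit false
set_option linter.unusedSectionVars false
set_option linter.unusedVariables false
set_option linter.unusedSimpArgs false

/-!
The torus `H¹` of `²G₂(3^{2m+1})`: cyclic of order `q - 1`; its elements of odd order act without
fixed points on `U¹`.
-/

namespace Cfsg.Agent.Helper6.Ree

open Cfsg.Lie Cfsg.Agent.Helper6

variable {K : Type*} [Field K] {m : ℕ}

/-- `χ_b(h(w)) = 1` forces `w^{3θ-2} = 1` -/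
theorem chi6_eq_one {w : Kˣ} (h : torChar chevG2 (cw m (w : K)) 6 = 1) : w ^ (3 * 3 ^ m - 2) = 1 := by
  have hw0 : (w : K) ≠ 0 := w.ne_zero
  have hθ : 1 ≤ 3 ^ m := Nat.one_le_pow _ _ (by norm_num)
  rw [torChar_g2] at h
  have h1 : chevG2.cartan 0 6 = -3 := by decide
  have h2 : chevG2.cartan 1 6 = 2 := by decide
  rw [h1, h2] at h
  unfold cw at h
  simp only [if_true, one_ne_zero, if_false] at h
  have h3 : ((w : K) ^ 3 ^ m) ^ (-3 : ℤ) = (((w : K) ^ 3 ^ m) ^ 3)⁻¹ := by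
    rw [show (-3 : ℤ) = -((3 : ℕ) : ℤ) from rfl, zpow_neg, zpow_natCast]
  have h4 : (w : K) ^ (2 : ℤ) = (w : K) ^ 2 := by
    rw [show (2 : ℤ) = ((2 : ℕ) : ℤ) from rfl, zpow_natCast]
  rw [h3, h4, inv_mul_eq_one₀ (pow_ne_zero _ (pow_ne_zero _ hw0)), ← pow_mul] at h
  have h5 : (w : K) ^ (3 ^ m * 3) = (w : K) ^ (3 * 3 ^ m - 2) * (w : K) ^ 2 := by
    have h7 : 3 ^ m * 3 = (3 * 3 ^ m - 2) + 2 := by omega
    rw [h7, pow_add]
  rw [h5] at h
  have e : (w : K) ^ (3 * 3 ^ m - 2) = 1 :=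
    mul_right_cancel₀ (pow_ne_zero 2 hw0) (h.trans (one_mul _).symm)
  apply Units.ext
  rw [Units.val_pow_eq_pow_val, e, Units.val_one]

/-- `χ_{3a+b}(h(w)) = 1` forces `w^{3θ-1} = 1` -/
theorem chi10_eq_one {w : Kˣ} (h : torChar chevG2 (cw m (w : K)) 10 = 1) : w ^ (3 * 3 ^ m - 1) = 1 := by
  have hw0 : (w : K) ≠ 0 := w.ne_zero
  have hθ : 1 ≤ 3 ^ m := Nat.one_le_pow _ _ (by norm_num)
  rw [torChar_g2] at h
  have h1 : chevG2.cartan 0 10 = 3 := by decide
  have h2 : chevG2.cartan 1 10 = -1 := by decide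
  rw [h1, h2] at h
  unfold cw at h
  simp only [if_true, one_ne_zero, if_false] at h
  have h3 : ((w : K) ^ 3 ^ m) ^ (3 : ℤ) = ((w : K) ^ 3 ^ m) ^ 3 := by
    rw [show (3 : ℤ) = ((3 : ℕ) : ℤ) from rfl, zpow_natCast]
  rw [h3, zpow_neg_one, mul_inv_eq_one₀ hw0, ← pow_mul] at h
  have h5 : (w : K) ^ (3 ^ m * 3) = (w : K) ^ (3 * 3 ^ m - 1) * (w : K) := by
    have h7 : 3 ^ m * 3 = (3 * 3 ^ m - 1) + 1 := by omega
    rw [h7, pow_succ]
  rw [h5] at h
  have h6 : (w : K) ^ (3 * 3 ^ m - 1) * (w : K) = 1 * (w : K) := by rw [h, one_mul]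
  have e : (w : K) ^ (3 * 3 ^ m - 1) = 1 := mul_right_cancel₀ hw0 h6
  apply Units.ext
  rw [Units.val_pow_eq_pow_val, e, Units.val_one]

/-- `(3θ+2)(3θ-2) = 3(q-1) - 1` -/
theorem arith6 (m : ℕ) : (3 * 3 ^ m + 2) * (3 * 3 ^ m - 2) + 1 = 3 * (3 ^ (2 * m + 1) - 1) := by
  have h3 : 2 ≤ 3 * 3 ^ m := by
    have : 1 ≤ 3 ^ m := Nat.one_le_pow _ _ (by norm_num)
    omega
  have h4 : 1 ≤ 3 ^ (2 * m + 1) := Nat.one_le_pow _ _ (by norm_num)
  zify [h3, h4]
  ring

/-- `(3θ+1)(3θ-1) = 3(q-1) + 2` -/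
theorem arith10 (m : ℕ) : (3 * 3 ^ m + 1) * (3 * 3 ^ m - 1) = 3 * (3 ^ (2 * m + 1) - 1) + 2 := by
  have h3 : 1 ≤ 3 * 3 ^ m := by
    have : 1 ≤ 3 ^ m := Nat.one_le_pow _ _ (by norm_num)
    omega
  have h4 : 1 ≤ 3 ^ (2 * m + 1) := Nat.one_le_pow _ _ (by norm_num)
  zify [h3, h4]
  ring

/-- an element of odd order of `Kˣ` other than `1` gives a torus element acting freely -/
theorem good_of_odd [Fintype K] (hK : Fintype.card K = 3 ^ (2 * m + 1)) {w : Kˣ} (hw1 : w ≠ 1)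
    (hodd : Odd (orderOf w)) :
    torChar chevG2 (cw m (w : K)) 6 ≠ 1 ∧ torChar chevG2 (cw m (w : K)) 10 ≠ 1 ∧ (w : K) ≠ 1 := by
  classical
  have hq : w ^ (3 ^ (2 * m + 1) - 1) = 1 := by
    rw [← hK, ← Fintype.card_units]; exact pow_card_eq_one
  have hd := orderOf_dvd_of_pow_eq_one hq
  refine ⟨?_, ?_, ?_⟩
  · intro h
    have h1 := orderOf_dvd_of_pow_eq_one (chi6_eq_one h)
    have h2 : orderOf w ∣ 1 := by
      have h3 : orderOf w ∣ (3 * 3 ^ m + 2) * (3 * 3 ^ m - 2) := Dvd.dvd.mul_left h1 _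
      have h4 : orderOf w ∣ 3 * (3 ^ (2 * m + 1) - 1) := Dvd.dvd.mul_left hd _
      rw [← arith6 m] at h4
      exact (Nat.dvd_add_right h3).1 h4
    exact hw1 (orderOf_eq_one_iff.1 (Nat.dvd_one.1 h2))
  · intro h
    have h1 := orderOf_dvd_of_pow_eq_one (chi10_eq_one h)
    have h2 : orderOf w ∣ 2 := by
      have h3 : orderOf w ∣ (3 * 3 ^ m + 1) * (3 * 3 ^ m - 1) := Dvd.dvd.mul_left h1 _
      have h4 : orderOf w ∣ 3 * (3 ^ (2 * m + 1) - 1) := Dvd.dvd.mul_left hd _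
      rw [arith10 m] at h3
      exact (Nat.dvd_add_right h4).1 h3
    have h5 : orderOf w = 1 := by
      rcases (Nat.dvd_prime Nat.prime_two).1 h2 with h | h
      · exact h
      · exfalso; rw [h] at hodd; exact (by decide : ¬ Odd 2) hodd
    exact hw1 (orderOf_eq_one_iff.1 h5)
  · intro h
    exact hw1 (Units.ext (by rw [h, Units.val_one]))

namespace ReeCtx

variable (C : ReeCtx K m)
include C

/-- the isomorphism `Kˣ ≃ H¹` -/
noncomputable def torusEquiv [Fintype K] (hK : Fintype.card K = 3 ^ (2 * m + 1)) :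
    Kˣ ≃* ↥(chevG2.diagonalSubgroup K ⊓ twistedG2 K (3 ^ m)) :=
  (MonoidHom.ofInjective (hwHom_injective (K := K) (m := m))).trans
    (MulEquiv.subgroupCongr (by rw [C.range_hwHom, C.H_inf_twisted hK]))

theorem torusEquiv_val [Fintype K] (hK : Fintype.card K = 3 ^ (2 * m + 1)) (w : Kˣ) :
    ((C.torusEquiv hK w : ↥(chevG2.diagonalSubgroup K ⊓ twistedG2 K (3 ^ m))) : GL chevG2.Idx K) =
      hwHom K m w := rfl

/-- `S1150`, given the twisting automorphism -/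
theorem torus_cyclic [Fintype K] (hK : Fintype.card K = 3 ^ (2 * m + 1)) :
    IsCyclic ↥(chevG2.diagonalSubgroup K ⊓ twistedG2 K (3 ^ m)) :=
  isCyclic_of_surjective (C.torusEquiv hK) (C.torusEquiv hK).surjective

/-- `S1151`, given the twisting automorphism -/
theorem odd_torus [Fintype K] (hK : Fintype.card K = 3 ^ (2 * m + 1)) :
    2 * Nat.card {h : ↥(chevG2.diagonalSubgroup K ⊓ twistedG2 K (3 ^ m)) // Odd (orderOf h)} =
        3 ^ (2 * m + 1) - 1 ∧
      ∀ h ∈ (chevG2.diagonalSubgroup K ⊓ twistedG2 K (3 ^ m)), h ≠ 1 → Odd (orderOf h) →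
        (chevG2.posUnipotent K ⊓ twistedG2 K (3 ^ m)) ⊓ Subgroup.centralizer {h} = ⊥ := by
  classical
  have : CharP K 3 := C.char3
  set e := C.torusEquiv hK with he
  have hcard : Nat.card Kˣ = 3 ^ (2 * m + 1) - 1 := by
    rw [Nat.card_eq_fintype_card, Fintype.card_units, hK]
  have hq4 := q_mod_four m
  set k := (3 ^ (2 * m + 1) - 1) / 2 with hk
  have h2k : 3 ^ (2 * m + 1) - 1 = 2 * k := by omega
  have hkodd : Odd k := by rw [Nat.odd_iff]; omega
  constructor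
  · -- counting
    have e1 : {h : ↥(chevG2.diagonalSubgroup K ⊓ twistedG2 K (3 ^ m)) // Odd (orderOf h)} ≃
        {w : Kˣ // Odd (orderOf w)} :=
      e.symm.toEquiv.subtypeEquiv (fun h => by
        show Odd (orderOf h) ↔ Odd (orderOf (e.symm h))
        rw [MulEquiv.orderOf_eq])
    have e2 : {w : Kˣ // Odd (orderOf w)} ≃ ↥(powMonoidHom k : Kˣ →* Kˣ).ker :=
      Equiv.subtypeEquivRight (fun w => by
        rw [MonoidHom.mem_ker, powMonoidHom_apply, ← orderOf_dvd_iff_pow_eq_one]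
        constructor
        · intro ho
          have hd : orderOf w ∣ 2 * k := by
            rw [← h2k, ← hcard]; exact orderOf_dvd_natCard w
          exact (Nat.Coprime.dvd_of_dvd_mul_left (Nat.Coprime.symm (Nat.coprime_two_left.2 ho)) hd)
        · intro hd
          exact Odd.of_dvd_nat hkodd hd)
    rw [Nat.card_congr e1, Nat.card_congr e2, IsCyclic.card_powMonoidHom_ker, hcard, h2k]
    rw [Nat.gcd_eq_right (Dvd.intro_left 2 rfl)]
  · intro h hh hne hodd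
    obtain ⟨w, hw⟩ := e.surjective ⟨h, hh⟩
    have hwv : hwHom K m w = h := by
      have := congrArg Subtype.val hw
      simpa [he, C.torusEquiv_val hK] using this
    have hw1 : w ≠ 1 := by
      rintro rfl
      apply hne
      rw [← hwv, map_one]
    have hoddw : Odd (orderOf w) := by
      have : orderOf h = orderOf w := by
        rw [← hwv]; exact orderOf_injective (hwHom K m) hwHom_injective w
      rwa [← this]
    obtain ⟨h6, h10, h11⟩ := good_of_odd hK hw1 hoddw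
    rw [eq_bot_iff]
    rintro x ⟨hxU, hxc⟩
    rw [Subgroup.mem_bot]
    have hxU' : x ∈ chevG2.posUnipotent K ⊓ C.Fix := by rw [← C.U_inf_twisted]; exact hxU
    obtain ⟨t, u, v, rfl⟩ := C.mem_U_inf_Fix.1 hxU'
    have hc := Subgroup.mem_centralizer_iff.1 hxc h (Set.mem_singleton h)
    have hfix : hwHom K m w * reeU m t u v * (hwHom K m w)⁻¹ = reeU m t u v := by
      rw [hwv, hc, mul_inv_cancel_right]
    obtain ⟨rfl, rfl, rfl⟩ := hw_fpf w h6 h10 h11 hfix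
    exact reeU_000

end ReeCtx

end Cfsg.Agent.Helper6.Ree
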