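import Mathlib
import Cfsg.Agent.Helper6.Ree.G2Small

set_option autoImplicit false
set_option linter.unusedSectionVars false
set_option linter.unusedVariables false
set_option linter.unusedSimpArgs false

/-!
The Sylow 3-subgroups of `²G₂(3^{2m+1})` are the conjugates of `U¹`; distinct ones meet trivially.
-/

namespace Cfsg.Agent.Helper6.Ree

open Cfsg.Lie Cfsg.Agent.Helper6
open scoped Pointwise

variable {K : Type*} [Field K] {m : ℕ}

/-- `B` normalises `U` -/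
theorem borel_le_normalizer :
    chevG2.borelSubgroup K ≤ Subgroup.normalizer (chevG2.posUnipotent K : Set (GL chevG2.Idx K)) := by
  have Δ := bn2 (K := K)
  unfold ChevalleyDatum.borelSubgroup
  apply sup_le
  · exact Subgroup.le_normalizer
  · exact diagonal_le_normalizer_posUnipotent Δ.hB Δ.hAll Δ.hAdd Δ.hH

theorem borel_conj_U {b u : GL chevG2.Idx K} (hb : b ∈ chevG2.borelSubgroup K) :
    b * u * b⁻¹ ∈ chevG2.posUnipotent K ↔ u ∈ chevG2.posUnipotent K :=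
  ((Subgroup.mem_normalizer_iff.1 (borel_le_normalizer hb)) u).symm

theorem borel_inv_conj_U {b u : GL chevG2.Idx K} (hb : b ∈ chevG2.borelSubgroup K) :
    b⁻¹ * u * b ∈ chevG2.posUnipotent K ↔ u ∈ chevG2.posUnipotent K := by
  have := borel_conj_U (u := u) (Subgroup.inv_mem _ hb)
  rwa [inv_inv] at this

theorem U_inf_V : chevG2.posUnipotent K ⊓ chevG2.negUnipotent K = ⊥ := by
  have Δ := bn2 (K := K)
  rw [eq_bot_iff, ← borel_inf_negUnipotent Δ.hB Δ.hH Δ.good2]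
  exact inf_le_inf_right _ Δ.posUnipotent_le_borel

namespace ReeCtx

variable (C : ReeCtx K m)
include C

/-- `U ∩ c U c⁻¹ = 1` inside `²G₂`, for `c ∉ B` -/
theorem U_inter_conj {c y : GL chevG2.Idx K} (hc : c ∈ twistedG2 K (3 ^ m))
    (hcB : c ∉ chevG2.borelSubgroup K) (hy : y ∈ chevG2.posUnipotent K)
    (hy' : c⁻¹ * y * c ∈ chevG2.posUnipotent K) : y = 1 := by
  have Δ := bn2 (K := K)
  rcases C.cells hc with h | ⟨b, hb, u, hu, rfl⟩
  · exact absurd h.1 hcB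
  · -- `y' = b⁻¹ y b ∈ U`
    have h1 : b⁻¹ * y * b ∈ chevG2.posUnipotent K := (borel_inv_conj_U hb.1).2 hy
    have h2 : (n0 K m)⁻¹ * (b⁻¹ * y * b) * n0 K m ∈ chevG2.posUnipotent K := by
      have e : (n0 K m)⁻¹ * (b⁻¹ * y * b) * n0 K m =
          u * ((b * n0 K m * u)⁻¹ * y * (b * n0 K m * u)) * u⁻¹ := by group
      rw [e]
      exact Subgroup.mul_mem _ (Subgroup.mul_mem _ hu.1 hy') (Subgroup.inv_mem _ hu.1)
    have h3 : b⁻¹ * y * b ∈ chevG2.negUnipotent K := by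
      have e : b⁻¹ * y * b = n0 K m * ((n0 K m)⁻¹ * (b⁻¹ * y * b) * n0 K m) * (n0 K m)⁻¹ := by group
      rw [e]
      exact big_conj_U C.n0_big h2
    have h4 : b⁻¹ * y * b ∈ chevG2.posUnipotent K ⊓ chevG2.negUnipotent K := ⟨h1, h3⟩
    rw [U_inf_V, Subgroup.mem_bot] at h4
    have : y = b * (b⁻¹ * y * b) * b⁻¹ := by group
    rw [this, h4]; group

omit C in
/-- the 3'-part of the order -/
theorem three_coprime (m : ℕ) :
    Nat.Coprime 3 ((3 ^ (2 * m + 1) - 1) * ((3 ^ (2 * m + 1)) ^ 3 + 1)) := by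
  rw [Nat.Prime.coprime_iff_not_dvd Nat.prime_three]
  have h1 : 3 ^ (2 * m + 1) = 3 * 3 ^ (2 * m) := by ring
  have h0 : 1 ≤ 3 ^ (2 * m) := Nat.one_le_pow _ _ (by norm_num)
  intro h
  rcases (Nat.Prime.dvd_mul Nat.prime_three).1 h with h | h
  · rw [h1] at h; omega
  · have : (3 ^ (2 * m + 1)) ^ 3 = 3 * (3 ^ (2 * m) * (3 ^ (2 * m + 1)) ^ 2) := by
      rw [h1]; ring
    rw [this] at h
    omega

/-- the subgroup `U¹` of `²G₂` -/
abbrev U1 : Subgroup ↥(twistedG2 K (3 ^ m)) :=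
  (chevG2.posUnipotent K ⊓ twistedG2 K (3 ^ m)).subgroupOf (twistedG2 K (3 ^ m))

omit C in
theorem mem_U1 (g : ↥(twistedG2 K (3 ^ m))) :
    g ∈ (U1 (K := K) (m := m)) ↔ (g : GL chevG2.Idx K) ∈ chevG2.posUnipotent K := by
  unfold U1
  rw [Subgroup.mem_subgroupOf]
  exact ⟨fun h => h.1, fun h => ⟨h, g.2⟩⟩

theorem card_U1 [Fintype K] (hK : Fintype.card K = 3 ^ (2 * m + 1)) :
    Nat.card ↥(U1 (K := K) (m := m)) = (3 ^ (2 * m + 1)) ^ 3 := by
  unfold U1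
  rw [Nat.card_congr (Subgroup.subgroupOfEquivOfLe inf_le_right).toEquiv, C.U_inf_twisted,
    C.card_U_inf_Fix, hK]

/-- every Sylow 3-subgroup is a conjugate of `U¹` -/
theorem sylow_eq_conj [Fintype K] (hK : Fintype.card K = 3 ^ (2 * m + 1))
    (P : Sylow 3 ↥(twistedG2 K (3 ^ m))) :
    ∃ a : ↥(twistedG2 K (3 ^ m)), ∀ x, x ∈ (P : Subgroup ↥(twistedG2 K (3 ^ m))) ↔
      a⁻¹ * x * a ∈ (U1 (K := K) (m := m)) := by
  classical
  have : Fact (Nat.Prime 3) := ⟨Nat.prime_three⟩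
  have hfin : Finite ↥(twistedG2 K (3 ^ m)) := Subtype.finite
  have hU1 : IsPGroup 3 ↥(U1 (K := K) (m := m)) :=
    IsPGroup.of_card (n := (2 * m + 1) * 3) (by rw [C.card_U1 hK, ← pow_mul])
  obtain ⟨P0, hP0⟩ := hU1.exists_le_sylow
  -- `P0 = U¹`
  have hcard : Nat.card ↥(P0 : Subgroup ↥(twistedG2 K (3 ^ m))) ≤ (3 ^ (2 * m + 1)) ^ 3 := by
    obtain ⟨n, hn⟩ := (P0.isPGroup').exists_card_eq
    have hdvd : Nat.card ↥(P0 : Subgroup ↥(twistedG2 K (3 ^ m))) ∣ Nat.card ↥(twistedG2 K (3 ^ m)) :=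
      Subgroup.card_subgroup_dvd_card _
    rw [C.card_ree hK, hn, mul_assoc] at hdvd
    have hcop : Nat.Coprime (3 ^ n) ((3 ^ (2 * m + 1) - 1) * ((3 ^ (2 * m + 1)) ^ 3 + 1)) :=
      Nat.Coprime.pow_left _ (three_coprime m)
    have := Nat.Coprime.dvd_of_dvd_mul_right hcop hdvd
    rw [hn]
    exact Nat.le_of_dvd (by positivity) this
  have hEq : (U1 (K := K) (m := m)) = P0 := by
    apply Subgroup.eq_of_le_of_card_ge hP0
    rw [C.card_U1 hK]
    exact hcard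
  obtain ⟨a, ha⟩ := MulAction.exists_smul_eq ↥(twistedG2 K (3 ^ m)) P0 P
  refine ⟨a, fun x => ?_⟩
  rw [← ha, Sylow.coe_subgroup_smul, ← hEq, Subgroup.mem_pointwise_smul_iff_inv_smul_mem,
    MulAut.smul_def, MulAut.conj_inv_apply]

/-- `S1155`, given the twisting automorphism -/
theorem sylow_three_ti [Fintype K] (hK : Fintype.card K = 3 ^ (2 * m + 1))
    (P Q : Sylow 3 ↥(twistedG2 K (3 ^ m))) (hPQ : P ≠ Q) :
    (P : Subgroup ↥(twistedG2 K (3 ^ m))) ⊓ (Q : Subgroup ↥(twistedG2 K (3 ^ m))) = ⊥ := by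
  obtain ⟨a, ha⟩ := C.sylow_eq_conj hK P
  obtain ⟨b, hb⟩ := C.sylow_eq_conj hK Q
  rw [eq_bot_iff]
  rintro x ⟨hxP, hxQ⟩
  rw [Subgroup.mem_bot]
  have h1 := (ha x).1 hxP
  have h2 := (hb x).1 hxQ
  rw [mem_U1] at h1 h2
  by_cases hc : ((a⁻¹ * b : ↥(twistedG2 K (3 ^ m))) : GL chevG2.Idx K) ∈ chevG2.borelSubgroup K
  · exfalso
    apply hPQ
    apply Sylow.ext
    ext z
    rw [ha z, hb z, mem_U1, mem_U1]
    have e : ((b⁻¹ * z * b : ↥(twistedG2 K (3 ^ m))) : GL chevG2.Idx K) =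
        ((a⁻¹ * b : ↥(twistedG2 K (3 ^ m))) : GL chevG2.Idx K)⁻¹ *
          ((a⁻¹ * z * a : ↥(twistedG2 K (3 ^ m))) : GL chevG2.Idx K) *
          ((a⁻¹ * b : ↥(twistedG2 K (3 ^ m))) : GL chevG2.Idx K) := by
      simp only [Subgroup.coe_mul, Subgroup.coe_inv]
      group
    rw [e, borel_inv_conj_U hc]
  · have e : ((a⁻¹ * b : ↥(twistedG2 K (3 ^ m))) : GL chevG2.Idx K)⁻¹ *
        ((a⁻¹ * x * a : ↥(twistedG2 K (3 ^ m))) : GL chevG2.Idx K) *
        ((a⁻¹ * b : ↥(twistedG2 K (3 ^ m))) : GL chevG2.Idx K) =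
        ((b⁻¹ * x * b : ↥(twistedG2 K (3 ^ m))) : GL chevG2.Idx K) := by
      simp only [Subgroup.coe_mul, Subgroup.coe_inv]
      group
    have h3 := C.U_inter_conj (a⁻¹ * b).2 hc h1 (by rw [e]; exact h2)
    have h4 : a⁻¹ * x * a = 1 := Subtype.ext h3
    have : x = a * (a⁻¹ * x * a) * a⁻¹ := by group
    rw [this, h4]; group

end ReeCtx

end Cfsg.Agent.Helper6.Ree
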