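import Mathlib
import Cfsg.Agent.Helper6.Ree.G2Sylow3
import Cfsg.Agent.Helper6.Ree.G2Simple

set_option autoImplicit false
set_option linter.unusedSectionVars false
set_option linter.unusedVariables false
set_option linter.unusedSimpArgs false

/-!
Three-point stabilisers of `²G₂(3^{2m+1})` on the cosets of `B¹` have order at most 2.
-/

namespace Cfsg.Agent.Helper6.Ree

open Cfsg.Lie Cfsg.Agent.Helper6

variable {K : Type*} [Field K] {m : ℕ}

/-- the equations of a fixed point of `h(w)` on `U¹` -/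
theorem hw_fix_eqs (w : Kˣ) {t u v : K}
    (hfix : hwHom K m w * reeU m t u v * (hwHom K m w)⁻¹ = reeU m t u v) :
    torChar chevG2 (cw m (w : K)) 6 * t = t ∧ torChar chevG2 (cw m (w : K)) 10 * u = u ∧
      (w : K) * v = v := by
  have hconj : ∀ a b : GL chevG2.Idx K, hwHom K m w * (a * b) * (hwHom K m w)⁻¹ =
      (hwHom K m w * a * (hwHom K m w)⁻¹) * (hwHom K m w * b * (hwHom K m w)⁻¹) := by
    intro a b; group
  rw [reeU_eq] at hfix
  simp only [hconj, hw_conj_X w (show 7 < 12 by norm_num), hw_conj_X w (show 6 < 12 by norm_num),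
    hw_conj_X w (show 8 < 12 by norm_num), hw_conj_X w (show 9 < 12 by norm_num),
    hw_conj_X w (show 10 < 12 by norm_num), hw_conj_X w (show 11 < 12 by norm_num)] at hfix
  have hmem : ∀ a b c d : K, X 8 a * (X 9 b * (X 10 c * X 11 d)) ∈ Uge chevG2 K 8 := fun a b c d =>
    Subgroup.mul_mem _ (X_mem_Uge (by norm_num) (by norm_num) _)
      (Subgroup.mul_mem _ (X_mem_Uge (by norm_num) (by norm_num) _)
        (Subgroup.mul_mem _ (X_mem_Uge (by norm_num) (by norm_num) _)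
          (X_mem_Uge (by norm_num) (by norm_num) _)))
  obtain ⟨_, e6, eg⟩ := uge76_unique (hmem _ _ _ _) (hmem _ _ _ _) hfix
  have eg' : X 8 (torChar chevG2 (cw m (w : K)) 8 * (t ^ (3 ^ m + 1) + u ^ 3 ^ m)) *
      X 9 (torChar chevG2 (cw m (w : K)) 9 * (t ^ (2 * 3 ^ m + 1) + v ^ 3 ^ m)) *
      (X 10 (torChar chevG2 (cw m (w : K)) 10 * u) * X 11 (torChar chevG2 (cw m (w : K)) 11 * v)) =
      X 8 (t ^ (3 ^ m + 1) + u ^ 3 ^ m) * X 9 (t ^ (2 * 3 ^ m + 1) + v ^ 3 ^ m) *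
        (X 10 u * X 11 v) := by
    simpa only [mul_assoc] using eg
  obtain ⟨_, _, e10, e11⟩ := uge8_unique eg'
  rw [torChar_cw_11] at e11
  exact ⟨e6, e10, e11⟩

namespace ReeCtx

variable (C : ReeCtx K m)
include C

/-- the stabiliser of two points -/
theorem two_point {t : GL chevG2.Idx K} (ht : t ∈ twistedG2 K (3 ^ m))
    (h1 : t ∈ chevG2.borelSubgroup K) (h2 : (n0 K m)⁻¹ * t * n0 K m ∈ chevG2.borelSubgroup K) :
    t ∈ chevG2.diagonalSubgroup K := by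
  have Δ := bn2 (K := K)
  obtain ⟨u, hu, h, hh, rfl⟩ := C.borel_inf ⟨h1, ht⟩
  have h3 : (n0 K m)⁻¹ * u * n0 K m ∈ chevG2.borelSubgroup K := by
    have e : (n0 K m)⁻¹ * u * n0 K m =
        ((n0 K m)⁻¹ * (u * h) * n0 K m) * ((n0 K m)⁻¹ * h * n0 K m)⁻¹ := by group
    rw [e]
    exact Subgroup.mul_mem _ h2 (Subgroup.inv_mem _ (C.H1_le_B1 (C.n0_inv_conj_H1 hh)).1)
  have h4 : (n0 K m)⁻¹ * u * n0 K m ∈ chevG2.borelSubgroup K ⊓ chevG2.negUnipotent K :=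
    ⟨h3, big_inv_conj_U C.n0_big hu.1⟩
  rw [borel_inf_negUnipotent Δ.hB Δ.hH Δ.good2, Subgroup.mem_bot] at h4
  have hu1 : u = 1 := by
    have : u = n0 K m * ((n0 K m)⁻¹ * u * n0 K m) * (n0 K m)⁻¹ := by group
    rw [this, h4]; group
  rw [hu1, one_mul]
  exact hh.1

/-- the stabiliser of three points centralises an element of `U¹` -/
theorem three_point {t u : GL chevG2.Idx K}
    (ht : t ∈ chevG2.diagonalSubgroup K ⊓ twistedG2 K (3 ^ m))
    (hu : u ∈ chevG2.posUnipotent K ⊓ twistedG2 K (3 ^ m))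
    (h3 : (u * n0 K m)⁻¹ * t * (u * n0 K m) ∈ chevG2.borelSubgroup K) : t * u = u * t := by
  have Δ := bn2 (K := K)
  have htB := Δ.diag_le_borel ht.1
  have hu'' : t⁻¹ * u⁻¹ * t * u ∈ chevG2.posUnipotent K := by
    have : t⁻¹ * u⁻¹ * t ∈ chevG2.posUnipotent K :=
      (borel_inv_conj_U htB).2 (Subgroup.inv_mem _ hu.1)
    exact Subgroup.mul_mem _ this hu.1
  have h4 : (n0 K m)⁻¹ * (t⁻¹ * u⁻¹ * t * u) * n0 K m ∈ chevG2.borelSubgroup K := by
    have e : (n0 K m)⁻¹ * (t⁻¹ * u⁻¹ * t * u) * n0 K m =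
        ((n0 K m)⁻¹ * t * n0 K m)⁻¹ * ((u * n0 K m)⁻¹ * t * (u * n0 K m)) := by group
    rw [e]
    exact Subgroup.mul_mem _ (Subgroup.inv_mem _ (C.H1_le_B1 (C.n0_inv_conj_H1 ht)).1) h3
  have h5 : (n0 K m)⁻¹ * (t⁻¹ * u⁻¹ * t * u) * n0 K m ∈
      chevG2.borelSubgroup K ⊓ chevG2.negUnipotent K := ⟨h4, big_inv_conj_U C.n0_big hu''⟩
  rw [borel_inf_negUnipotent Δ.hB Δ.hH Δ.good2, Subgroup.mem_bot] at h5
  have h6 : t⁻¹ * u⁻¹ * t * u = 1 := by
    have : t⁻¹ * u⁻¹ * t * u =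
        n0 K m * ((n0 K m)⁻¹ * (t⁻¹ * u⁻¹ * t * u) * n0 K m) * (n0 K m)⁻¹ := by group
    rw [this, h5]; group
  have : t * u = u * t * (t⁻¹ * u⁻¹ * t * u) := by group
  rw [this, h6, mul_one]

/-- the centraliser in `H¹` of a nontrivial element of `U¹` has at most two elements -/
theorem cent_torus [Fintype K] (hK : Fintype.card K = 3 ^ (2 * m + 1)) {t u : GL chevG2.Idx K}
    (ht : t ∈ chevG2.diagonalSubgroup K ⊓ twistedG2 K (3 ^ m))
    (hu : u ∈ chevG2.posUnipotent K ⊓ twistedG2 K (3 ^ m)) (hu1 : u ≠ 1) (hc : t * u = u * t) :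
    t = 1 ∨ t = hwHom K m (-1) := by
  classical
  have : CharP K 3 := C.char3
  have htF : t ∈ (hwHom K m).range := by
    rw [C.range_hwHom]; exact ⟨ht.1, C.twisted_le_Fix ht.2⟩
  obtain ⟨w, rfl⟩ := htF
  have huF : u ∈ chevG2.posUnipotent K ⊓ C.Fix := by rw [← C.U_inf_twisted]; exact hu
  obtain ⟨a, b, c, rfl⟩ := C.mem_U_inf_Fix.1 huF
  have hfix : hwHom K m w * reeU m a b c * (hwHom K m w)⁻¹ = reeU m a b c := by
    rw [hc, mul_inv_cancel_right]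
  obtain ⟨e6, e10, e11⟩ := hw_fix_eqs w hfix
  have hq : w ^ (3 ^ (2 * m + 1) - 1) = 1 := by
    rw [← hK, ← Fintype.card_units]; exact pow_card_eq_one
  have hd := orderOf_dvd_of_pow_eq_one hq
  have hone : ∀ {x y : K}, x * y = y → y ≠ 0 → x = 1 := by
    intro x y h hy
    have : (x - 1) * y = 0 := by rw [sub_mul, h, one_mul, sub_self]
    rcases mul_eq_zero.1 this with h | h
    · exact sub_eq_zero.1 h
    · exact absurd h hy
  by_cases hc0 : c = 0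
  · by_cases hb0 : b = 0
    · by_cases ha0 : a = 0
      · exfalso; apply hu1; rw [ha0, hb0, hc0]; exact reeU_000
      · left
        have h1 := orderOf_dvd_of_pow_eq_one (chi6_eq_one (hone e6 ha0))
        have h2 : orderOf w ∣ 1 := by
          have h3 : orderOf w ∣ (3 * 3 ^ m + 2) * (3 * 3 ^ m - 2) := Dvd.dvd.mul_left h1 _
          have h4 : orderOf w ∣ 3 * (3 ^ (2 * m + 1) - 1) := Dvd.dvd.mul_left hd _
          rw [← arith6 m] at h4
          exact (Nat.dvd_add_right h3).1 h4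
        rw [orderOf_eq_one_iff.1 (Nat.dvd_one.1 h2), map_one]
    · have h1 := orderOf_dvd_of_pow_eq_one (chi10_eq_one (hone e10 hb0))
      have h2 : orderOf w ∣ 2 := by
        have h3 : orderOf w ∣ (3 * 3 ^ m + 1) * (3 * 3 ^ m - 1) := Dvd.dvd.mul_left h1 _
        have h4 : orderOf w ∣ 3 * (3 ^ (2 * m + 1) - 1) := Dvd.dvd.mul_left hd _
        rw [arith10 m] at h3
        exact (Nat.dvd_add_right h4).1 h3
      have h3 : w ^ 2 = 1 := orderOf_dvd_iff_pow_eq_one.1 h2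
      have h4 : ((w : K) - 1) * ((w : K) + 1) = 0 := by
        have := congrArg Units.val h3
        rw [Units.val_pow_eq_pow_val, Units.val_one] at this
        linear_combination this
      rcases mul_eq_zero.1 h4 with h | h
      · left
        have : w = 1 := Units.ext (by rw [Units.val_one]; exact sub_eq_zero.1 h)
        rw [this, map_one]
      · right
        have : w = -1 := Units.ext (by
          rw [Units.val_neg, Units.val_one]; exact eq_neg_of_add_eq_zero_left h)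
        rw [this]
  · left
    have : w = 1 := Units.ext (by rw [Units.val_one]; exact hone e11 hc0)
    rw [this, map_one]

/-- three points in general position -/
theorem reduce_three {a b c : GL chevG2.Idx K} (ha : a ∈ twistedG2 K (3 ^ m))
    (hb : b ∈ twistedG2 K (3 ^ m)) (hc : c ∈ twistedG2 K (3 ^ m))
    (hab : a⁻¹ * b ∉ chevG2.borelSubgroup K) (hac : a⁻¹ * c ∉ chevG2.borelSubgroup K)
    (hbc : b⁻¹ * c ∉ chevG2.borelSubgroup K) :
    ∃ g ∈ twistedG2 K (3 ^ m), ∃ u ∈ chevG2.posUnipotent K ⊓ twistedG2 K (3 ^ m), u ≠ 1 ∧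
      g⁻¹ * a ∈ chevG2.borelSubgroup K ∧ (g * n0 K m)⁻¹ * b ∈ chevG2.borelSubgroup K ∧
      (g * u * n0 K m)⁻¹ * c ∈ chevG2.borelSubgroup K := by
  have Δ := bn2 (K := K)
  have hab' : a⁻¹ * b ∈ twistedG2 K (3 ^ m) := Subgroup.mul_mem _ (Subgroup.inv_mem _ ha) hb
  rcases C.cells hab' with h | ⟨β, hβ, u₀, hu₀, e⟩
  · exact absurd h.1 hab
  obtain ⟨u₁, hu₁, h₁, hh₁, rfl⟩ := C.borel_inf hβ
  have hg : a * u₁ ∈ twistedG2 K (3 ^ m) := Subgroup.mul_mem _ ha hu₁.2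
  have hgc : (a * u₁)⁻¹ * c ∈ twistedG2 K (3 ^ m) := Subgroup.mul_mem _ (Subgroup.inv_mem _ hg) hc
  have hgcB : (a * u₁)⁻¹ * c ∉ chevG2.borelSubgroup K := by
    intro h
    apply hac
    have e2 : a⁻¹ * c = u₁ * ((a * u₁)⁻¹ * c) := by group
    rw [e2]
    exact Subgroup.mul_mem _ (Δ.posUnipotent_le_borel hu₁.1) h
  rcases C.cells hgc with h | ⟨β', hβ', u₀', hu₀', e'⟩
  · exact absurd h.1 hgcB
  obtain ⟨u₂, hu₂, h₂, hh₂, rfl⟩ := C.borel_inf hβ'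
  have hB2 : (a * u₁ * n0 K m)⁻¹ * b ∈ chevG2.borelSubgroup K := by
    have e2 : (a * u₁ * n0 K m)⁻¹ * b = (n0 K m)⁻¹ * u₁⁻¹ * (a⁻¹ * b) := by group
    rw [e2, e]
    have e3 : (n0 K m)⁻¹ * u₁⁻¹ * (u₁ * h₁ * n0 K m * u₀) = ((n0 K m)⁻¹ * h₁ * n0 K m) * u₀ := by
      group
    rw [e3]
    exact Subgroup.mul_mem _ (C.H1_le_B1 (C.n0_inv_conj_H1 hh₁)).1 (Δ.posUnipotent_le_borel hu₀.1)
  have hB3 : (a * u₁ * u₂ * n0 K m)⁻¹ * c ∈ chevG2.borelSubgroup K := by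
    have e2 : (a * u₁ * u₂ * n0 K m)⁻¹ * c = (n0 K m)⁻¹ * u₂⁻¹ * ((a * u₁)⁻¹ * c) := by group
    rw [e2, e']
    have e3 : (n0 K m)⁻¹ * u₂⁻¹ * (u₂ * h₂ * n0 K m * u₀') = ((n0 K m)⁻¹ * h₂ * n0 K m) * u₀' := by
      group
    rw [e3]
    exact Subgroup.mul_mem _ (C.H1_le_B1 (C.n0_inv_conj_H1 hh₂)).1 (Δ.posUnipotent_le_borel hu₀'.1)
  refine ⟨a * u₁, hg, u₂, hu₂, ?_, ?_, hB2, hB3⟩
  · rintro rfl
    apply hbc
    have e2 : b⁻¹ * c = ((a * u₁ * n0 K m)⁻¹ * b)⁻¹ * ((a * u₁ * 1 * n0 K m)⁻¹ * c) := by group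
    rw [e2]
    exact Subgroup.mul_mem _ (Subgroup.inv_mem _ hB2) hB3
  · have e2 : (a * u₁)⁻¹ * a = u₁⁻¹ := by group
    rw [e2]
    exact Subgroup.inv_mem _ (Δ.posUnipotent_le_borel hu₁.1)

/-- three-point stabilisers, in the general linear group -/
theorem three_stab [Fintype K] (hK : Fintype.card K = 3 ^ (2 * m + 1)) {a b c : GL chevG2.Idx K}
    (ha : a ∈ twistedG2 K (3 ^ m)) (hb : b ∈ twistedG2 K (3 ^ m)) (hc : c ∈ twistedG2 K (3 ^ m))
    (hab : a⁻¹ * b ∉ chevG2.borelSubgroup K) (hac : a⁻¹ * c ∉ chevG2.borelSubgroup K)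
    (hbc : b⁻¹ * c ∉ chevG2.borelSubgroup K) :
    ∃ g ∈ twistedG2 K (3 ^ m), ∀ t ∈ twistedG2 K (3 ^ m),
      a⁻¹ * t * a ∈ chevG2.borelSubgroup K → b⁻¹ * t * b ∈ chevG2.borelSubgroup K →
      c⁻¹ * t * c ∈ chevG2.borelSubgroup K → t = 1 ∨ t = g * hwHom K m (-1) * g⁻¹ := by
  obtain ⟨g, hg, u, hu, hu1, h1, h2, h3⟩ := C.reduce_three ha hb hc hab hac hbc
  refine ⟨g, hg, ?_⟩
  intro t ht hta htb htc
  have ht' : g⁻¹ * t * g ∈ twistedG2 K (3 ^ m) :=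
    Subgroup.mul_mem _ (Subgroup.mul_mem _ (Subgroup.inv_mem _ hg) ht) hg
  have k1 : g⁻¹ * t * g ∈ chevG2.borelSubgroup K := by
    have e : g⁻¹ * t * g = (g⁻¹ * a) * (a⁻¹ * t * a) * (g⁻¹ * a)⁻¹ := by group
    rw [e]
    exact Subgroup.mul_mem _ (Subgroup.mul_mem _ h1 hta) (Subgroup.inv_mem _ h1)
  have k2 : (n0 K m)⁻¹ * (g⁻¹ * t * g) * n0 K m ∈ chevG2.borelSubgroup K := by
    have e : (n0 K m)⁻¹ * (g⁻¹ * t * g) * n0 K m =
        ((g * n0 K m)⁻¹ * b) * (b⁻¹ * t * b) * ((g * n0 K m)⁻¹ * b)⁻¹ := by group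
    rw [e]
    exact Subgroup.mul_mem _ (Subgroup.mul_mem _ h2 htb) (Subgroup.inv_mem _ h2)
  have k3 : (u * n0 K m)⁻¹ * (g⁻¹ * t * g) * (u * n0 K m) ∈ chevG2.borelSubgroup K := by
    have e : (u * n0 K m)⁻¹ * (g⁻¹ * t * g) * (u * n0 K m) =
        ((g * u * n0 K m)⁻¹ * c) * (c⁻¹ * t * c) * ((g * u * n0 K m)⁻¹ * c)⁻¹ := by group
    rw [e]
    exact Subgroup.mul_mem _ (Subgroup.mul_mem _ h3 htc) (Subgroup.inv_mem _ h3)
  have kH : g⁻¹ * t * g ∈ chevG2.diagonalSubgroup K ⊓ twistedG2 K (3 ^ m) :=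
    ⟨C.two_point ht' k1 k2, ht'⟩
  have kc := C.three_point kH hu k3
  rcases C.cent_torus hK kH hu hu1 kc with h | h
  · left
    have : t = g * (g⁻¹ * t * g) * g⁻¹ := by group
    rw [this, h]; group
  · right
    have : t = g * (g⁻¹ * t * g) * g⁻¹ := by group
    rw [this, h]

end ReeCtx

end Cfsg.Agent.Helper6.Ree
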