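import Mathlib
import Cfsg.Agent.Helper6.Ree.G2ThreePt

set_option autoImplicit false
set_option linter.unusedSectionVars false
set_option linter.unusedVariables false
set_option linter.unusedSimpArgs false

/-!
Three-point stabilisers of `²G₂(3^{2m+1})` on the cosets of `B¹`: the statement on the quotient.
-/

namespace Cfsg.Agent.Helper6.Ree

open Cfsg.Lie Cfsg.Agent.Helper6

variable {K : Type*} [Field K] {m : ℕ}

/-- `B¹` as a subgroup of `²G₂` -/
abbrev B1 (K : Type*) [Field K] (m : ℕ) : Subgroup ↥(twistedG2 K (3 ^ m)) :=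
  (chevG2.borelSubgroup K ⊓ twistedG2 K (3 ^ m)).subgroupOf (twistedG2 K (3 ^ m))

theorem mem_B1 (g : ↥(twistedG2 K (3 ^ m))) :
    g ∈ B1 K m ↔ (g : GL chevG2.Idx K) ∈ chevG2.borelSubgroup K := by
  unfold B1
  rw [Subgroup.mem_subgroupOf]
  exact ⟨fun h => h.1, fun h => ⟨h, g.2⟩⟩

theorem mem_stab (a t : ↥(twistedG2 K (3 ^ m))) :
    t ∈ MulAction.stabilizer ↥(twistedG2 K (3 ^ m)) ((a : ↥(twistedG2 K (3 ^ m)) ⧸ B1 K m)) ↔
      ((a : GL chevG2.Idx K))⁻¹ * (t : GL chevG2.Idx K) * (a : GL chevG2.Idx K) ∈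
        chevG2.borelSubgroup K := by
  rw [MulAction.mem_stabilizer_iff, MulAction.Quotient.smul_mk, QuotientGroup.eq, mem_B1,
    smul_eq_mul]
  have e : (((t * a)⁻¹ * a : ↥(twistedG2 K (3 ^ m))) : GL chevG2.Idx K) =
      (((a : GL chevG2.Idx K))⁻¹ * (t : GL chevG2.Idx K) * (a : GL chevG2.Idx K))⁻¹ := by
    simp only [Subgroup.coe_mul, Subgroup.coe_inv]
    group
  rw [e, inv_mem_iff]

theorem coset_ne_iff (a b : ↥(twistedG2 K (3 ^ m))) :
    (a : ↥(twistedG2 K (3 ^ m)) ⧸ B1 K m) ≠ b ↔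
      ((a : GL chevG2.Idx K))⁻¹ * (b : GL chevG2.Idx K) ∉ chevG2.borelSubgroup K := by
  rw [Ne, QuotientGroup.eq, mem_B1]
  rfl

/-- `h(-1)` commutes with `x_{a+b}(1) x_{3a+b}(1)` -/
theorem hw_neg_one_comm : hwHom K m (-1) * reeU m (0 : K) 1 0 = reeU m (0 : K) 1 0 * hwHom K m (-1) := by
  have hodd : ((-1 : K)) ^ 3 ^ m = -1 := (Odd.pow (by decide : Odd 3)).neg_one_pow
  have h8 : torChar chevG2 (cw m (((-1 : Kˣ) : Kˣ) : K)) 8 = 1 := by
    rw [torChar_g2]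
    have h1 : chevG2.cartan 0 8 = -1 := by decide
    have h2 : chevG2.cartan 1 8 = 1 := by decide
    rw [h1, h2]
    unfold cw
    simp only [if_true, one_ne_zero, if_false, Units.val_neg, Units.val_one, hodd]
    rw [zpow_neg_one, zpow_one]
    norm_num
  have h10 : torChar chevG2 (cw m (((-1 : Kˣ) : Kˣ) : K)) 10 = 1 := by
    rw [torChar_g2]
    have h1 : chevG2.cartan 0 10 = 3 := by decide
    have h2 : chevG2.cartan 1 10 = -1 := by decide
    rw [h1, h2]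
    unfold cw
    simp only [if_true, one_ne_zero, if_false, Units.val_neg, Units.val_one, hodd]
    rw [zpow_neg_one, show (3 : ℤ) = ((3 : ℕ) : ℤ) from rfl, zpow_natCast]
    norm_num
  have e8 := hw_conj_X (m := m) (-1 : Kˣ) (show 8 < 12 by norm_num) (1 : K)
  have e10 := hw_conj_X (m := m) (-1 : Kˣ) (show 10 < 12 by norm_num) (1 : K)
  rw [h8, one_mul] at e8
  rw [h10, one_mul] at e10
  rw [reeU_010]
  have e : hwHom K m (-1) * (X 8 1 * X 10 1) * (hwHom K m (-1))⁻¹ = X 8 1 * X 10 1 := by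
    have : hwHom K m (-1) * (X 8 1 * X 10 1) * (hwHom K m (-1))⁻¹ =
        (hwHom K m (-1) * X 8 (1 : K) * (hwHom K m (-1))⁻¹) *
          (hwHom K m (-1) * X 10 (1 : K) * (hwHom K m (-1))⁻¹) := by group
    rw [this, e8, e10]
  exact mul_inv_eq_iff_eq_mul.1 e

namespace ReeCtx

variable (C : ReeCtx K m)
include C

theorem hw_neg_one_ne_one : hwHom K m (-1) ≠ 1 := by
  have : CharP K 3 := C.char3
  intro h
  have h1 : (-1 : Kˣ) = 1 := hwHom_injective (by rw [h, map_one])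
  have h2 := congrArg Units.val h1
  rw [Units.val_neg, Units.val_one] at h2
  have h3 : (3 : K) = 0 := three_eq_zero
  have h4 : (1 : K) = 0 := by linear_combination h3 + h2
  exact one_ne_zero h4

/-- `S1153`, given the twisting automorphism -/
theorem three_point_stab [Fintype K] (hK : Fintype.card K = 3 ^ (2 * m + 1)) :
    (∀ x y z : ↥(twistedG2 K (3 ^ m)) ⧸ B1 K m, x ≠ y → x ≠ z → y ≠ z →
        Nat.card ↥(MulAction.stabilizer ↥(twistedG2 K (3 ^ m)) x ⊓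
          MulAction.stabilizer ↥(twistedG2 K (3 ^ m)) y ⊓
          MulAction.stabilizer ↥(twistedG2 K (3 ^ m)) z) ≤ 2) ∧
      ∃ x y z : ↥(twistedG2 K (3 ^ m)) ⧸ B1 K m, x ≠ y ∧ x ≠ z ∧ y ≠ z ∧
        Nat.card ↥(MulAction.stabilizer ↥(twistedG2 K (3 ^ m)) x ⊓
          MulAction.stabilizer ↥(twistedG2 K (3 ^ m)) y ⊓
          MulAction.stabilizer ↥(twistedG2 K (3 ^ m)) z) = 2 := by
  classical
  have Δ := bn2 (K := K)
  have hfin : Finite ↥(twistedG2 K (3 ^ m)) := Subtype.finite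
  have part1 : ∀ x y z : ↥(twistedG2 K (3 ^ m)) ⧸ B1 K m, x ≠ y → x ≠ z → y ≠ z →
      Nat.card ↥(MulAction.stabilizer ↥(twistedG2 K (3 ^ m)) x ⊓
        MulAction.stabilizer ↥(twistedG2 K (3 ^ m)) y ⊓
        MulAction.stabilizer ↥(twistedG2 K (3 ^ m)) z) ≤ 2 := by
    intro x y z
    induction x using QuotientGroup.induction_on with | _ a => ?_
    induction y using QuotientGroup.induction_on with | _ b => ?_
    induction z using QuotientGroup.induction_on with | _ c => ?_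
    intro hxy hxz hyz
    rw [coset_ne_iff] at hxy hxz hyz
    obtain ⟨g, hg, key⟩ := C.three_stab hK a.2 b.2 c.2 hxy hxz hyz
    set T := MulAction.stabilizer ↥(twistedG2 K (3 ^ m)) (a : ↥(twistedG2 K (3 ^ m)) ⧸ B1 K m) ⊓
        MulAction.stabilizer ↥(twistedG2 K (3 ^ m)) (b : ↥(twistedG2 K (3 ^ m)) ⧸ B1 K m) ⊓
        MulAction.stabilizer ↥(twistedG2 K (3 ^ m)) (c : ↥(twistedG2 K (3 ^ m)) ⧸ B1 K m) with hT
    let f : ↥T → GL chevG2.Idx K := fun t => ((t : ↥(twistedG2 K (3 ^ m))) : GL chevG2.Idx K)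
    have hf : Function.Injective f := by
      intro s t hst
      exact Subtype.ext (Subtype.ext hst)
    have hrange : Set.range f ⊆ {1, g * hwHom K m (-1) * g⁻¹} := by
      rintro _ ⟨t, rfl⟩
      have ht : (t : ↥(twistedG2 K (3 ^ m))) ∈
          MulAction.stabilizer ↥(twistedG2 K (3 ^ m)) (a : ↥(twistedG2 K (3 ^ m)) ⧸ B1 K m) ⊓
          MulAction.stabilizer ↥(twistedG2 K (3 ^ m)) (b : ↥(twistedG2 K (3 ^ m)) ⧸ B1 K m) ⊓
          MulAction.stabilizer ↥(twistedG2 K (3 ^ m)) (c : ↥(twistedG2 K (3 ^ m)) ⧸ B1 K m) := t.2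
      rw [Subgroup.mem_inf, Subgroup.mem_inf, mem_stab, mem_stab, mem_stab] at ht
      rcases key _ (t : ↥(twistedG2 K (3 ^ m))).2 ht.1.1 ht.1.2 ht.2 with h | h
      · left; exact h
      · right; exact h
    rw [← Nat.card_range_of_injective hf, Nat.card_coe_set_eq]
    calc (Set.range f).ncard ≤ ({1, g * hwHom K m (-1) * g⁻¹} : Set (GL chevG2.Idx K)).ncard :=
          Set.ncard_le_ncard hrange (Set.toFinite _)
      _ ≤ 2 := by
          refine (Set.ncard_insert_le _ _).trans ?_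
          rw [Set.ncard_singleton]
  refine ⟨part1, ?_⟩
  -- the example
  let s : ↥(twistedG2 K (3 ^ m)) := ⟨n0 K m, n0_mem_twisted⟩
  let u : ↥(twistedG2 K (3 ^ m)) := ⟨reeU m 0 1 0, reeU_mem_twisted _ _ _⟩
  let z : ↥(twistedG2 K (3 ^ m)) := ⟨hwHom K m (-1), C.hw_neg_one_mem_twisted⟩
  have huU : reeU m (0 : K) 1 0 ∈ chevG2.posUnipotent K := reeU_mem_U _ _ _
  have hzH : hwHom K m (-1) ∈ chevG2.diagonalSubgroup K ⊓ twistedG2 K (3 ^ m) :=
    ⟨hwHom_mem_H _, C.hw_neg_one_mem_twisted⟩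
  have h12 : ((1 : ↥(twistedG2 K (3 ^ m))) : ↥(twistedG2 K (3 ^ m)) ⧸ B1 K m) ≠ s := by
    rw [coset_ne_iff]
    simp only [Subgroup.coe_one, inv_one, one_mul, s]
    exact n0_not_mem_B
  have h13 : ((1 : ↥(twistedG2 K (3 ^ m))) : ↥(twistedG2 K (3 ^ m)) ⧸ B1 K m) ≠ (u * s : _) := by
    rw [coset_ne_iff]
    simp only [Subgroup.coe_one, inv_one, one_mul, Subgroup.coe_mul, u, s]
    intro h
    apply n0_not_mem_B (K := K) (m := m)
    have e : n0 K m = (reeU m (0 : K) 1 0)⁻¹ * (reeU m (0 : K) 1 0 * n0 K m) := by group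
    rw [e]
    exact Subgroup.mul_mem _ (Subgroup.inv_mem _ (Δ.posUnipotent_le_borel huU)) h
  have h23 : (s : ↥(twistedG2 K (3 ^ m)) ⧸ B1 K m) ≠ (u * s : _) := by
    rw [coset_ne_iff]
    simp only [Subgroup.coe_mul, u, s]
    intro h
    have hV : (n0 K m)⁻¹ * reeU m (0 : K) 1 0 * n0 K m ∈ chevG2.negUnipotent K :=
      big_inv_conj_U C.n0_big huU
    have hmem : (n0 K m)⁻¹ * reeU m (0 : K) 1 0 * n0 K m ∈
        chevG2.borelSubgroup K ⊓ chevG2.negUnipotent K := by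
      refine ⟨?_, hV⟩
      have e : (n0 K m)⁻¹ * reeU m (0 : K) 1 0 * n0 K m =
          (n0 K m)⁻¹ * (reeU m (0 : K) 1 0 * n0 K m) := by group
      rw [e]; exact h
    rw [borel_inf_negUnipotent Δ.hB Δ.hH Δ.good2, Subgroup.mem_bot] at hmem
    apply C.reeU_010_ne_one
    have : reeU m (0 : K) 1 0 =
        n0 K m * ((n0 K m)⁻¹ * reeU m (0 : K) 1 0 * n0 K m) * (n0 K m)⁻¹ := by group
    rw [this, hmem]; group
  refine ⟨((1 : ↥(twistedG2 K (3 ^ m))) : _), (s : _), ((u * s : ↥(twistedG2 K (3 ^ m))) : _),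
    h12, h13, h23, ?_⟩
  apply le_antisymm (part1 _ _ _ h12 h13 h23)
  have hzT : z ∈ MulAction.stabilizer ↥(twistedG2 K (3 ^ m))
        (((1 : ↥(twistedG2 K (3 ^ m))) : ↥(twistedG2 K (3 ^ m)) ⧸ B1 K m)) ⊓
      MulAction.stabilizer ↥(twistedG2 K (3 ^ m)) (s : ↥(twistedG2 K (3 ^ m)) ⧸ B1 K m) ⊓
      MulAction.stabilizer ↥(twistedG2 K (3 ^ m))
        ((u * s : ↥(twistedG2 K (3 ^ m))) : ↥(twistedG2 K (3 ^ m)) ⧸ B1 K m) := by
    rw [Subgroup.mem_inf, Subgroup.mem_inf, mem_stab, mem_stab, mem_stab]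
    have k2 : (n0 K m)⁻¹ * hwHom K m (-1) * n0 K m ∈ chevG2.borelSubgroup K :=
      (C.H1_le_B1 (C.n0_inv_conj_H1 hzH)).1
    refine ⟨⟨?_, k2⟩, ?_⟩
    · simp only [Subgroup.coe_one, inv_one, one_mul, mul_one, z]
      exact Δ.diag_le_borel hzH.1
    · simp only [Subgroup.coe_mul, u, s, z]
      have e : (reeU m (0 : K) 1 0 * n0 K m)⁻¹ * hwHom K m (-1) * (reeU m (0 : K) 1 0 * n0 K m) =
          (n0 K m)⁻¹ * ((reeU m (0 : K) 1 0)⁻¹ * (hwHom K m (-1) * reeU m (0 : K) 1 0)) * n0 K m := by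
        group
      rw [e, hw_neg_one_comm, inv_mul_cancel_left]
      exact k2
  have hnt : Nontrivial ↥(MulAction.stabilizer ↥(twistedG2 K (3 ^ m))
        (((1 : ↥(twistedG2 K (3 ^ m))) : ↥(twistedG2 K (3 ^ m)) ⧸ B1 K m)) ⊓
      MulAction.stabilizer ↥(twistedG2 K (3 ^ m)) (s : ↥(twistedG2 K (3 ^ m)) ⧸ B1 K m) ⊓
      MulAction.stabilizer ↥(twistedG2 K (3 ^ m))
        ((u * s : ↥(twistedG2 K (3 ^ m))) : ↥(twistedG2 K (3 ^ m)) ⧸ B1 K m)) := by
    refine ⟨⟨⟨z, hzT⟩, 1, ?_⟩⟩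
    intro h
    have h1 : z = 1 := congrArg Subtype.val h
    exact C.hw_neg_one_ne_one (congrArg Subtype.val h1)
  exact Finite.one_lt_card_iff_nontrivial.2 hnt

end ReeCtx

end Cfsg.Agent.Helper6.Ree
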