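import Mathlib
import Cfsg.Agent.Helper2.ChevSL2
import Cfsg.Agent.Helper6.Ree.G2ThreePt2

set_option autoImplicit false
set_option linter.unusedSectionVars false
set_option linter.unusedVariables false
set_option linter.unusedSimpArgs false

/-!
The homomorphism `SL₂(K) → ²G₂(K)`, `g ↦ φ_{a+b}(g^θ) φ_{3a+b}(g)`.
-/

namespace Cfsg.Agent.Helper6.Ree

open Cfsg.Lie Cfsg.Agent.Helper6 Cfsg.Agent.Helper2.St2F Cfsg.Agent.Helper2.ChevSL2

variable {K : Type*} [Field K] {m : ℕ}

/-- two homomorphisms of `SL₂` whose values on the unitriangular elements commute have commuting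
values -/
theorem sl2_commute {M : Type*} [Group M] (f g : Matrix.SpecialLinearGroup (Fin 2) K →* M)
    (h1 : ∀ t u, Commute (f (upperSL t)) (g (upperSL u)))
    (h2 : ∀ t u, Commute (f (upperSL t)) (g (lowerSL u)))
    (h3 : ∀ t u, Commute (f (lowerSL t)) (g (upperSL u)))
    (h4 : ∀ t u, Commute (f (lowerSL t)) (g (lowerSL u))) :
    ∀ x y, Commute (f x) (g y) := by
  have hgen : ∀ z : M, (∀ u, Commute z (g (upperSL u))) → (∀ u, Commute z (g (lowerSL u))) →
      ∀ y, Commute z (g y) := by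
    intro z hz1 hz2 y
    have hy : y ∈ Subgroup.closure (Set.range (upperSL (K := K)) ∪ Set.range (lowerSL (K := K))) := by
      rw [closure_upper_lower]; trivial
    induction hy using Subgroup.closure_induction with
    | mem y hy =>
      rcases hy with ⟨u, rfl⟩ | ⟨u, rfl⟩
      · exact hz1 u
      · exact hz2 u
    | one => rw [map_one]; exact Commute.one_right _
    | mul a b _ _ iha ihb => rw [map_mul]; exact iha.mul_right ihb
    | inv a _ iha => rw [map_inv]; exact iha.inv_right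
  intro x y
  have hx : x ∈ Subgroup.closure (Set.range (upperSL (K := K)) ∪ Set.range (lowerSL (K := K))) := by
    rw [closure_upper_lower]; trivial
  induction hx using Subgroup.closure_induction with
  | mem x hx =>
    rcases hx with ⟨t, rfl⟩ | ⟨t, rfl⟩
    · exact hgen _ (h1 t) (h2 t) y
    · exact hgen _ (h3 t) (h4 t) y
  | one => rw [map_one]; exact Commute.one_left _
  | mul a b _ _ iha ihb => rw [map_mul]; exact iha.mul_left ihb
  | inv a _ iha => rw [map_inv]; exact iha.inv_left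

/-- a homomorphism of `SL₂` with values of the unitriangular elements in a subgroup has values in
it -/
theorem sl2_range_le {M : Type*} [Group M] (f : Matrix.SpecialLinearGroup (Fin 2) K →* M)
    (S : Subgroup M) (h1 : ∀ t, f (upperSL t) ∈ S) (h2 : ∀ t, f (lowerSL t) ∈ S) (x) : f x ∈ S := by
  have hx : x ∈ Subgroup.closure (Set.range (upperSL (K := K)) ∪ Set.range (lowerSL (K := K))) := by
    rw [closure_upper_lower]; trivial
  induction hx using Subgroup.closure_induction with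
  | mem x hx =>
    rcases hx with ⟨t, rfl⟩ | ⟨t, rfl⟩
    · exact h1 t
    · exact h2 t
  | one => rw [map_one]; exact Subgroup.one_mem _
  | mul a b _ _ iha ihb => rw [map_mul]; exact Subgroup.mul_mem _ iha ihb
  | inv a _ iha => rw [map_inv]; exact Subgroup.inv_mem _ iha

/-- the diagonal elements of `SL₂` -/
def diagSL {s : K} (hs : s ≠ 0) : Matrix.SpecialLinearGroup (Fin 2) K :=
  ⟨!![s, 0; 0, s⁻¹], by rw [Matrix.det_fin_two_of]; field_simp; ring⟩

theorem diagSL_coe {s : K} (hs : s ≠ 0) :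
    ((diagSL hs : Matrix.SpecialLinearGroup (Fin 2) K) : Matrix (Fin 2) (Fin 2) K) =
      !![s, 0; 0, s⁻¹] := rfl

/-- the monomial elements of `SL₂` -/
def wSL (t : K) : Matrix.SpecialLinearGroup (Fin 2) K := upperSL t * lowerSL (-t⁻¹) * upperSL t

theorem wSL_coe {t : K} (ht : t ≠ 0) :
    ((wSL t : Matrix.SpecialLinearGroup (Fin 2) K) : Matrix (Fin 2) (Fin 2) K) =
      !![0, t; -t⁻¹, 0] := by
  unfold wSL
  rw [Matrix.SpecialLinearGroup.coe_mul, Matrix.SpecialLinearGroup.coe_mul, upperSL_coe, lowerSL_coe,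
    Matrix.mul_fin_two, Matrix.mul_fin_two]
  apply Cfsg.Agent.Helper2.St2.mk2_eq <;> (try field_simp) <;> (try ring)

theorem diagSL_eq {s : K} (hs : s ≠ 0) : diagSL hs = wSL s * wSL (-1) := by
  apply Subtype.ext
  rw [Matrix.SpecialLinearGroup.coe_mul, wSL_coe hs, wSL_coe (neg_ne_zero.2 one_ne_zero), diagSL_coe,
    Matrix.mul_fin_two]
  apply Cfsg.Agent.Helper2.St2.mk2_eq <;> simp

section char3

variable [CharP K 3]

/-- the map `g ↦ g^θ` of `SL₂(K)` -/
noncomputable def frobSL (K : Type*) [Field K] [CharP K 3] (m : ℕ) :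
    Matrix.SpecialLinearGroup (Fin 2) K →* Matrix.SpecialLinearGroup (Fin 2) K :=
  haveI : Fact (Nat.Prime 3) := ⟨Nat.prime_three⟩
  haveI : ExpChar K 3 := ExpChar.prime Nat.prime_three
  Matrix.SpecialLinearGroup.map (iterateFrobenius K 3 m)

theorem frobSL_coe (g : Matrix.SpecialLinearGroup (Fin 2) K) (i j : Fin 2) :
    ((frobSL K m g : Matrix.SpecialLinearGroup (Fin 2) K) : Matrix (Fin 2) (Fin 2) K) i j =
      ((g : Matrix (Fin 2) (Fin 2) K) i j) ^ 3 ^ m := by
  haveI : Fact (Nat.Prime 3) := ⟨Nat.prime_three⟩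
  haveI : ExpChar K 3 := ExpChar.prime Nat.prime_three
  unfold frobSL
  rw [Matrix.SpecialLinearGroup.map_apply_coe, RingHom.mapMatrix_apply, Matrix.map_apply,
    iterateFrobenius_def]

theorem frobSL_upper (t : K) : frobSL K m (upperSL t) = upperSL (t ^ 3 ^ m) := by
  apply Subtype.ext
  ext i j
  rw [frobSL_coe, upperSL_coe, upperSL_coe]
  fin_cases i <;> fin_cases j <;> simp

theorem frobSL_lower (t : K) : frobSL K m (lowerSL t) = lowerSL (t ^ 3 ^ m) := by
  apply Subtype.ext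
  ext i j
  rw [frobSL_coe, lowerSL_coe, lowerSL_coe]
  fin_cases i <;> fin_cases j <;> simp

theorem frobSL_diag {s : K} (hs : s ≠ 0) :
    frobSL K m (diagSL hs) = diagSL (pow_ne_zero (3 ^ m) hs) := by
  apply Subtype.ext
  ext i j
  rw [frobSL_coe, diagSL_coe, diagSL_coe]
  fin_cases i <;> fin_cases j <;> simp

end char3

/-- the value of a root homomorphism on a diagonal element -/
theorem rootHom_diag {r : ℕ} (hr : r < 12)
    (φ : Matrix.SpecialLinearGroup (Fin 2) K →* GL chevG2.Idx K)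
    (h1 : ∀ t, φ (upperSL t) = X r t) (h2 : ∀ t, φ (lowerSL t) = X (11 - r) t) {s : K} (hs : s ≠ 0) :
    φ (diagSL hs) = hG r hs := by
  rw [diagSL_eq]
  unfold wSL hG
  rw [nU_eq hr, nU_eq hr]
  simp only [map_mul, h1, h2]

theorem rootHom_w {r : ℕ} (hr : r < 12)
    (φ : Matrix.SpecialLinearGroup (Fin 2) K →* GL chevG2.Idx K)
    (h1 : ∀ t, φ (upperSL t) = X r t) (h2 : ∀ t, φ (lowerSL t) = X (11 - r) t) {s : K} (hs : s ≠ 0) :
    φ (wSL s) = nU hB2 r hs := by
  unfold wSL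
  rw [nU_eq hr]
  simp only [map_mul, h1, h2]

/-- the homomorphism `SL₂(K) → G₂(K)`, `g ↦ φ_{a+b}(g^θ) φ_{3a+b}(g)` -/
theorem exists_invHom [CharP K 3] (m : ℕ) :
    ∃ φ : Matrix.SpecialLinearGroup (Fin 2) K →* GL chevG2.Idx K,
      (∀ t, φ (upperSL t) = reeU m 0 t 0) ∧ (∀ t, φ (lowerSL t) = reeV m 0 (-t) 0) ∧
      (∀ (s : K) (hs : s ≠ 0), φ (diagSL hs) = hG 8 (pow_ne_zero (3 ^ m) hs) * hG 10 hs) ∧
      (∀ (s : K) (hs : s ≠ 0), φ (wSL s) = nU hB2 8 (pow_ne_zero (3 ^ m) hs) * nU hB2 10 hs) := by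
  obtain ⟨φ₈, h8u, h8l⟩ := hasSL2_of_tabulated (F := K) g2_tab (r := 8) (by decide)
  obtain ⟨φ₁₀, h10u, h10l⟩ := hasSL2_of_tabulated (F := K) g2_tab (r := 10) (by decide)
  have h8u' : ∀ t, φ₈ (upperSL t) = X 8 t := h8u
  have h8l' : ∀ t, φ₈ (lowerSL t) = X (11 - 8) t := h8l
  have h10u' : ∀ t, φ₁₀ (upperSL t) = X 10 t := h10u
  have h10l' : ∀ t, φ₁₀ (lowerSL t) = X (11 - 10) t := h10l
  have comm : ∀ x y, Commute (φ₈ x) (φ₁₀ y) := by
    apply sl2_commute
    · intro t u; rw [h8u', h10u']; exact c_8_10 t u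
    · intro t u; rw [h8u', h10l']; exact c_8_1 t u
    · intro t u; rw [h8l', h10u']; exact (c_10_3 u t).symm
    · intro t u; rw [h8l', h10l']; exact c_3_1 t u
  let φ : Matrix.SpecialLinearGroup (Fin 2) K →* GL chevG2.Idx K :=
    { toFun := fun g => φ₈ (frobSL K m g) * φ₁₀ g
      map_one' := by simp
      map_mul' := by
        intro x y
        rw [map_mul, map_mul, map_mul]
        have c := (comm (frobSL K m y) x).eq
        calc φ₈ (frobSL K m x) * φ₈ (frobSL K m y) * (φ₁₀ x * φ₁₀ y)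
            = φ₈ (frobSL K m x) * (φ₈ (frobSL K m y) * φ₁₀ x) * φ₁₀ y := by simp only [mul_assoc]
          _ = φ₈ (frobSL K m x) * (φ₁₀ x * φ₈ (frobSL K m y)) * φ₁₀ y := by rw [c]
          _ = _ := by simp only [mul_assoc] }
  have hφ : ∀ g, φ g = φ₈ (frobSL K m g) * φ₁₀ g := fun g => rfl
  refine ⟨φ, ?_, ?_, ?_, ?_⟩
  · intro t
    rw [hφ, frobSL_upper, h8u', h10u', reeU_0u0]
  · intro t
    rw [hφ, frobSL_lower, h8l', h10l', reeV_0u0, neg_neg,
      (Odd.pow (by decide : Odd 3) : Odd (3 ^ m)).neg_pow, neg_neg]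
  · intro s hs
    rw [hφ, frobSL_diag, rootHom_diag (by norm_num) φ₈ h8u' h8l', rootHom_diag (by norm_num) φ₁₀ h10u' h10l']
  · intro s hs
    have e : frobSL K m (wSL s) = wSL (s ^ 3 ^ m) := by
      unfold wSL
      rw [map_mul, map_mul, frobSL_upper, frobSL_lower,
        (Odd.pow (by decide : Odd 3) : Odd (3 ^ m)).neg_pow, inv_pow]
    rw [hφ, e, rootHom_w (by norm_num) φ₈ h8u' h8l' (pow_ne_zero (3 ^ m) hs),
      rootHom_w (by norm_num) φ₁₀ h10u' h10l' hs]

end Cfsg.Agent.Helper6.Ree
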