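import Mathlib
import Cfsg.Agent.Helper6.Ree.G2Inv1

set_option autoImplicit false
set_option linter.unusedSectionVars false
set_option linter.unusedVariables false
set_option linter.unusedSimpArgs false

/-!
The kernel and the image of the homomorphism `SL₂(K) → ²G₂(K)`.
-/

namespace Cfsg.Agent.Helper6.Ree

open Cfsg.Lie Cfsg.Agent.Helper6 Cfsg.Agent.Helper2.St2F Cfsg.Agent.Helper2.ChevSL2

variable {K : Type*} [Field K] {m : ℕ}

theorem sl2_det (g : Matrix.SpecialLinearGroup (Fin 2) K) :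
    (g : Matrix (Fin 2) (Fin 2) K) 0 0 * (g : Matrix (Fin 2) (Fin 2) K) 1 1 -
      (g : Matrix (Fin 2) (Fin 2) K) 0 1 * (g : Matrix (Fin 2) (Fin 2) K) 1 0 = 1 := by
  have := g.2
  rwa [Matrix.det_fin_two] at this

/-- the big cell of `SL₂` -/
theorem sl2_big (g : Matrix.SpecialLinearGroup (Fin 2) K)
    (hr : (g : Matrix (Fin 2) (Fin 2) K) 1 0 ≠ 0) :
    ∃ x y t : K, t ≠ 0 ∧ g = upperSL x * wSL t * upperSL y := by
  have hd := sl2_det g
  obtain ⟨p, hp⟩ : ∃ p, p = (g : Matrix (Fin 2) (Fin 2) K) 0 0 := ⟨_, rfl⟩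
  obtain ⟨q, hq⟩ : ∃ q, q = (g : Matrix (Fin 2) (Fin 2) K) 0 1 := ⟨_, rfl⟩
  obtain ⟨r, hr'⟩ : ∃ r, r = (g : Matrix (Fin 2) (Fin 2) K) 1 0 := ⟨_, rfl⟩
  obtain ⟨s, hs⟩ : ∃ s, s = (g : Matrix (Fin 2) (Fin 2) K) 1 1 := ⟨_, rfl⟩
  rw [← hp, ← hq, ← hr', ← hs] at hd
  rw [← hr'] at hr
  have ht : -r⁻¹ ≠ 0 := neg_ne_zero.2 (inv_ne_zero hr)
  refine ⟨p / r, s / r, -r⁻¹, ht, ?_⟩
  apply Subtype.ext
  rw [Matrix.SpecialLinearGroup.coe_mul, Matrix.SpecialLinearGroup.coe_mul, upperSL_coe, upperSL_coe,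
    wSL_coe ht, Matrix.mul_fin_two, Matrix.mul_fin_two, Matrix.eta_fin_two (g : Matrix (Fin 2) (Fin 2) K),
    ← hp, ← hq, ← hr', ← hs]
  have hq' : q = (p * s - 1) / r := by
    field_simp
    linear_combination (-1 : K) * hd
  apply Cfsg.Agent.Helper2.St2.mk2_eq
  · field_simp
    ring
  · rw [hq']
    field_simp
    ring
  · field_simp
    ring
  · field_simp
    ring

/-- the small cell of `SL₂` -/
theorem sl2_small (g : Matrix.SpecialLinearGroup (Fin 2) K)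
    (hr : (g : Matrix (Fin 2) (Fin 2) K) 1 0 = 0) :
    ∃ (x s : K) (hs : s ≠ 0), g = upperSL x * diagSL hs := by
  have hd := sl2_det g
  obtain ⟨p, hp⟩ : ∃ p, p = (g : Matrix (Fin 2) (Fin 2) K) 0 0 := ⟨_, rfl⟩
  obtain ⟨q, hq⟩ : ∃ q, q = (g : Matrix (Fin 2) (Fin 2) K) 0 1 := ⟨_, rfl⟩
  obtain ⟨s, hs⟩ : ∃ s, s = (g : Matrix (Fin 2) (Fin 2) K) 1 1 := ⟨_, rfl⟩
  rw [← hp, ← hq, hr, ← hs, mul_zero, sub_zero] at hd
  have hp0 : p ≠ 0 := by
    rintro rfl
    rw [zero_mul] at hd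
    exact zero_ne_one hd
  refine ⟨q * p, p, hp0, ?_⟩
  apply Subtype.ext
  rw [Matrix.SpecialLinearGroup.coe_mul, upperSL_coe, diagSL_coe, Matrix.mul_fin_two,
    Matrix.eta_fin_two (g : Matrix (Fin 2) (Fin 2) K), ← hp, ← hq, hr, ← hs]
  have hs' : s = p⁻¹ := eq_inv_of_mul_eq_one_right hd
  apply Cfsg.Agent.Helper2.St2.mk2_eq
  · ring
  · field_simp
    ring
  · ring
  · rw [hs']
    ring

/-- the homomorphism `SL₂(K) → G₂(K)` with its values -/
structure InvHom (K : Type*) [Field K] (m : ℕ) where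
  φ : Matrix.SpecialLinearGroup (Fin 2) K →* GL chevG2.Idx K
  upper : ∀ t, φ (upperSL t) = reeU m 0 t 0
  lower : ∀ t, φ (lowerSL t) = reeV m 0 (-t) 0
  diag : ∀ (s : K) (hs : s ≠ 0), φ (diagSL hs) = hG 8 (pow_ne_zero (3 ^ m) hs) * hG 10 hs
  w : ∀ (s : K) (hs : s ≠ 0), φ (wSL s) = nU hB2 8 (pow_ne_zero (3 ^ m) hs) * nU hB2 10 hs

theorem nonempty_invHom [CharP K 3] : Nonempty (InvHom K m) := by
  obtain ⟨φ, h1, h2, h3, h4⟩ := exists_invHom (K := K) m
  exact ⟨⟨φ, h1, h2, h3, h4⟩⟩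

/-- `n_r(-1) n_r(1) = 1` -/
theorem nU_neg_one_mul (r : ℕ) :
    nU hB2 r (neg_ne_zero.2 (one_ne_zero (α := K))) * nU hB2 r (one_ne_zero (α := K)) = 1 := by
  have h : nU hB2 r (neg_ne_zero.2 (one_ne_zero (α := K))) = (nU hB2 r (one_ne_zero (α := K)))⁻¹ := by
    apply Units.ext
    rw [nU_val, nU_inv_val]
  rw [h, inv_mul_cancel]

/-- `n_r(t) = h_r(t) n_r(1)` -/
theorem nU_eq_hG (r : ℕ) {t : K} (ht : t ≠ 0) : nU hB2 r ht = hG r ht * nU hB2 r (one_ne_zero (α := K)) := by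
  unfold hG
  rw [mul_assoc, nU_neg_one_mul, mul_one]

/-- `n_{a+b}(u^θ) n_{3a+b}(u) = h_{a+b}(u^θ) h_{3a+b}(u) n₀` -/
theorem nn_eq_hh_n0 {u : K} (hu : u ≠ 0) :
    nU hB2 8 (pow_ne_zero (3 ^ m) hu) * nU hB2 10 hu =
      hG 8 (pow_ne_zero (3 ^ m) hu) * hG 10 hu * n0 K m := by
  rw [n0_eq, nU_eq_hG 8, nU_eq_hG 10 hu]
  have c : Commute (hG 10 hu) (nU hB2 8 (one_ne_zero (α := K))) := by
    unfold hG
    exact (commute_nU_10_8 _ _).mul_left (commute_nU_10_8 _ _)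
  have c' := c.eq
  generalize hG 8 (pow_ne_zero (3 ^ m) hu) = A at *
  generalize hG 10 hu = B at *
  generalize nU hB2 8 (one_ne_zero (α := K)) = C' at *
  generalize nU hB2 10 (one_ne_zero (α := K)) = D' at *
  calc A * C' * (B * D') = A * (C' * B) * D' := by simp only [mul_assoc]
    _ = A * (B * C') * D' := by rw [c']
    _ = _ := by simp only [mul_assoc]

namespace ReeCtx

variable (C : ReeCtx K m)
include C

/-- `h_{a+b}(u^θ) h_{3a+b}(u) = h(u^{3θ+1})` -/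
theorem hh_eq_hw (u : Kˣ) :
    hG 8 (pow_ne_zero (3 ^ m) u.ne_zero) * hG 10 u.ne_zero = hwHom K m (u ^ (3 * 3 ^ m + 1)) := by
  symm
  apply Units.ext
  rw [hwHom_val, hh_val]
  apply torMat_congr
  intro i hi
  have hi' : i < 2 := hi
  unfold cw
  interval_cases i
  · simp only [if_true, Units.val_pow_eq_pow_val]
    rw [← pow_mul]
    have : (3 * 3 ^ m + 1) * 3 ^ m = 3 ^ (2 * m + 1) + 3 ^ m := by ring
    rw [this, pow_add, C.frob, mul_comm]
  · simp only [one_ne_zero, if_false, Units.val_pow_eq_pow_val]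
    rw [pow_succ]

end ReeCtx

namespace InvHom

variable (Φ : InvHom K m)

theorem mem_twisted (g : Matrix.SpecialLinearGroup (Fin 2) K) : Φ.φ g ∈ twistedG2 K (3 ^ m) := by
  apply sl2_range_le
  · intro t; rw [Φ.upper]; exact reeU_mem_twisted _ _ _
  · intro t; rw [Φ.lower]; exact reeV_mem_twisted _ _ _

/-- the image of the small cell -/
theorem small_form (C : ReeCtx K m) (g : Matrix.SpecialLinearGroup (Fin 2) K)
    (hr : (g : Matrix (Fin 2) (Fin 2) K) 1 0 = 0) :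
    ∃ (x : K) (u : Kˣ), g = upperSL x * diagSL u.ne_zero ∧
      Φ.φ g = reeU m 0 x 0 * hwHom K m (u ^ (3 * 3 ^ m + 1)) := by
  obtain ⟨x, s, hs, rfl⟩ := sl2_small g hr
  refine ⟨x, Units.mk0 s hs, rfl, ?_⟩
  rw [map_mul, Φ.upper, Φ.diag, ← C.hh_eq_hw (Units.mk0 s hs)]
  rfl

/-- the image of the big cell -/
theorem big_form (g : Matrix.SpecialLinearGroup (Fin 2) K)
    (hr : (g : Matrix (Fin 2) (Fin 2) K) 1 0 ≠ 0) :
    ∃ (x y t : K) (ht : t ≠ 0),
      Φ.φ g = reeU m 0 x 0 * (hG 8 (pow_ne_zero (3 ^ m) ht) * hG 10 ht) * n0 K m * reeU m 0 y 0 := by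
  obtain ⟨x, y, t, ht, rfl⟩ := sl2_big g hr
  refine ⟨x, y, t, ht, ?_⟩
  rw [map_mul, map_mul, Φ.upper, Φ.upper, Φ.w t ht, nn_eq_hh_n0 ht]
  simp only [mul_assoc]

/-- the image of the big cell does not meet `B` -/
theorem big_not_borel (C : ReeCtx K m) (g : Matrix.SpecialLinearGroup (Fin 2) K)
    (hr : (g : Matrix (Fin 2) (Fin 2) K) 1 0 ≠ 0) : Φ.φ g ∉ chevG2.borelSubgroup K := by
  have Δ := bn2 (K := K)
  obtain ⟨x, y, t, ht, e⟩ := Φ.big_form g hr
  rw [e]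
  apply C.big_cell_not_borel
  · exact Subgroup.mul_mem _ (Δ.posUnipotent_le_borel (reeU_mem_U _ _ _))
      (Δ.diag_le_borel (Subgroup.mul_mem _ (hG_mem_H (by norm_num) _) (hG_mem_H (by norm_num) _)))
  · exact reeU_mem_U _ _ _

end InvHom

/-- uniqueness of the decomposition in `U H` -/
theorem uh_unique {u u' h h' : GL chevG2.Idx K} (hu : u ∈ chevG2.posUnipotent K)
    (hu' : u' ∈ chevG2.posUnipotent K) (hh : h ∈ chevG2.diagonalSubgroup K)
    (hh' : h' ∈ chevG2.diagonalSubgroup K) (e : u * h = u' * h') : u = u' ∧ h = h' := by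
  have Δ := bn2 (K := K)
  have hmem : u'⁻¹ * u ∈ chevG2.posUnipotent K ⊓ chevG2.diagonalSubgroup K := by
    refine ⟨Subgroup.mul_mem _ (Subgroup.inv_mem _ hu') hu, ?_⟩
    have : u'⁻¹ * u = h' * h⁻¹ := by
      have : u = u' * h' * h⁻¹ := by rw [← e]; group
      rw [this]; group
    rw [this]
    exact Subgroup.mul_mem _ hh' (Subgroup.inv_mem _ hh)
  rw [posUnipotent_inf_diagonal Δ.hB Δ.hH Δ.good, Subgroup.mem_bot] at hmem
  have huu : u = u' := by
    have : u = u' * (u'⁻¹ * u) := by group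
    rw [this, hmem, mul_one]
  subst huu
  exact ⟨rfl, mul_left_cancel e⟩

section arith

variable [Fintype K]

/-- `u^{3θ+1} = 1` forces `u² = 1` -/
theorem sq_eq_one_of_pow (hK : Fintype.card K = 3 ^ (2 * m + 1)) {u : Kˣ}
    (h : u ^ (3 * 3 ^ m + 1) = 1) : u ^ 2 = 1 := by
  classical
  have hq : u ^ (Fintype.card K - 1) = 1 := by
    rw [← Fintype.card_units]; exact pow_card_eq_one
  have e : (3 * 3 ^ m + 1) * (3 * 3 ^ m - 1) = (Fintype.card K - 1) * 3 + 2 := by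
    rw [hK]
    have h3 : 1 ≤ 3 * 3 ^ m := Nat.succ_le_of_lt (by positivity)
    have h4 : 1 ≤ 3 ^ (2 * m + 1) := Nat.succ_le_of_lt (by positivity)
    zify [h3, h4]
    ring
  have h2 : (u ^ (3 * 3 ^ m + 1)) ^ (3 * 3 ^ m - 1) = 1 := by rw [h, one_pow]
  rw [← pow_mul, e, pow_add, pow_mul, hq, one_pow, one_mul] at h2
  exact h2

theorem units_sq_eq_one {u : Kˣ} (h : u ^ 2 = 1) : u = 1 ∨ u = -1 := by
  have h' : (u : K) ^ 2 = 1 := by
    have := congrArg Units.val h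
    simpa using this
  have h2 : ((u : K) - 1) * ((u : K) + 1) = 0 := by ring_nf; rw [h']; ring
  rcases mul_eq_zero.1 h2 with h3 | h3
  · left; exact Units.ext (by simpa using sub_eq_zero.1 h3)
  · right; exact Units.ext (by simpa using eq_neg_of_add_eq_zero_left h3)

theorem even_three_theta (m : ℕ) : ∃ k, 3 * 3 ^ m + 1 = 2 * k := by
  have h : Odd (3 * 3 ^ m) := Odd.mul (by decide) (Odd.pow (by decide))
  obtain ⟨j, hj⟩ := h
  exact ⟨j + 1, by omega⟩

/-- `-1` is not a `(3θ+1)`-th power -/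
theorem pow_ne_neg_one [CharP K 3] (hK : Fintype.card K = 3 ^ (2 * m + 1)) (u : Kˣ) :
    u ^ (3 * 3 ^ m + 1) ≠ -1 := by
  intro h
  obtain ⟨k, hk⟩ := even_three_theta m
  have hsq : IsSquare (-1 : K) := by
    refine ⟨(u : K) ^ k, ?_⟩
    have := congrArg Units.val h
    rw [hk, Units.val_pow_eq_pow_val, Units.val_neg, Units.val_one] at this
    rw [← this, ← pow_add]
    congr 1
    omega
  rw [FiniteField.isSquare_neg_one_iff, hK] at hsq
  exact hsq (q_mod_four m)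

/-- `(±1)^{3θ+1} = 1` -/
theorem pow_eq_one_of_sq {u : Kˣ} (h : u ^ 2 = 1) : u ^ (3 * 3 ^ m + 1) = 1 := by
  obtain ⟨k, hk⟩ := even_three_theta m
  rw [hk, pow_mul, h, one_pow]

end arith

namespace InvHom

variable (Φ : InvHom K m) [Fintype K]

/-- an element of `SL₂` whose image lies in `B` is upper triangular -/
theorem lower_eq_zero (C : ReeCtx K m) {g : Matrix.SpecialLinearGroup (Fin 2) K}
    (hg : Φ.φ g ∈ chevG2.borelSubgroup K) : (g : Matrix (Fin 2) (Fin 2) K) 1 0 = 0 := by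
  by_contra hr
  exact Φ.big_not_borel C g hr hg

/-- an element of `SL₂` whose image lies in `H` is diagonal -/
theorem diag_of_mem_H (C : ReeCtx K m) {g : Matrix.SpecialLinearGroup (Fin 2) K} {w : Kˣ}
    (hg : Φ.φ g = hwHom K m w) :
    ∃ u : Kˣ, g = diagSL u.ne_zero ∧ w = u ^ (3 * 3 ^ m + 1) := by
  have := C.char3
  have Δ := bn2 (K := K)
  have hr := Φ.lower_eq_zero C (g := g) (by rw [hg]; exact Δ.diag_le_borel (hwHom_mem_H w))
  obtain ⟨x, u, rfl, e⟩ := Φ.small_form C g hr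
  rw [hg] at e
  have e' : reeU m 0 0 0 * hwHom K m w = reeU m 0 x 0 * hwHom K m (u ^ (3 * 3 ^ m + 1)) := by
    rw [reeU_000, one_mul]; exact e
  obtain ⟨e1, e2⟩ := uh_unique (reeU_mem_U _ _ _) (reeU_mem_U _ _ _) (hwHom_mem_H _) (hwHom_mem_H _) e'
  have hx : x = 0 := (reeU_inj e1).2.1.symm
  refine ⟨u, ?_, hwHom_injective e2⟩
  rw [hx]
  have : upperSL (0 : K) = 1 := by
    apply Subtype.ext
    rw [upperSL_coe]
    ext i j
    fin_cases i <;> fin_cases j <;> simp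
  rw [this, one_mul]

/-- the kernel is the centre -/
theorem ker_eq (C : ReeCtx K m) (hK : Fintype.card K = 3 ^ (2 * m + 1)) :
    Φ.φ.ker = Subgroup.center (Matrix.SpecialLinearGroup (Fin 2) K) := by
  have := C.char3
  ext g
  rw [MonoidHom.mem_ker, Matrix.SpecialLinearGroup.mem_center_iff]
  constructor
  · intro hg
    obtain ⟨u, rfl, hu⟩ := Φ.diag_of_mem_H C (g := g) (w := 1) (by rw [hg, map_one])
    have hu2 := sq_eq_one_of_pow hK hu.symm
    have hu2' : (u : K) ^ 2 = 1 := by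
      have := congrArg Units.val hu2
      simpa using this
    refine ⟨(u : K), by rw [Fintype.card_fin]; exact hu2', ?_⟩
    rw [diagSL_coe]
    have hinv : (u : K)⁻¹ = u := by
      apply inv_eq_of_mul_eq_one_right
      rw [← sq]; exact hu2'
    rw [hinv]
    ext i j
    fin_cases i <;> fin_cases j <;> simp
  · rintro ⟨r, hr, hA⟩
    rw [Fintype.card_fin] at hr
    have hr0 : r ≠ 0 := by
      rintro rfl
      rw [zero_pow (by norm_num)] at hr
      exact zero_ne_one hr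
    have hinv : r⁻¹ = r := by
      apply inv_eq_of_mul_eq_one_right
      rw [← sq]; exact hr
    have hg : g = diagSL hr0 := by
      apply Subtype.ext
      rw [← hA, diagSL_coe, hinv]
      ext i j
      fin_cases i <;> fin_cases j <;> simp
    rw [hg, Φ.diag]
    have h1 := C.hh_eq_hw (Units.mk0 r hr0)
    have h2 : (Units.mk0 r hr0) ^ 2 = 1 := Units.ext (by simpa using hr)
    rw [pow_eq_one_of_sq h2, map_one] at h1
    exact h1

/-- `h(-1)` is not in the image -/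
theorem neg_one_not_mem_range (C : ReeCtx K m) (hK : Fintype.card K = 3 ^ (2 * m + 1)) :
    hwHom K m (-1) ∉ Φ.φ.range := by
  have := C.char3
  rintro ⟨g, hg⟩
  obtain ⟨u, _, hu⟩ := Φ.diag_of_mem_H C hg
  exact pow_ne_neg_one hK u hu.symm

end InvHom

end Cfsg.Agent.Helper6.Ree
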