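import Mathlib
import Cfsg.Agent.Helper6.Ree.G2Inv2

set_option autoImplicit false
set_option linter.unusedSectionVars false
set_option linter.unusedVariables false
set_option linter.unusedSimpArgs false

/-!
The centraliser of the involution `h(-1)` of `²G₂(K)` is `⟨h(-1)⟩ × φ(SL₂(K))`.
-/

namespace Cfsg.Agent.Helper6.Ree

open Cfsg.Lie Cfsg.Agent.Helper6 Cfsg.Agent.Helper2.St2F Cfsg.Agent.Helper2.ChevSL2

variable {K : Type*} [Field K] {m : ℕ}

/-- the characters of `h(-1)` -/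
theorem torChar_neg_one (r : ℕ) :
    torChar chevG2 (cw m (((-1 : Kˣ) : Kˣ) : K)) r =
      (-1 : K) ^ chevG2.cartan 0 r * (-1 : K) ^ chevG2.cartan 1 r := by
  have hodd : ((-1 : K)) ^ 3 ^ m = -1 := (Odd.pow (by decide : Odd 3)).neg_one_pow
  rw [torChar_g2]
  unfold cw
  simp only [if_true, one_ne_zero, if_false, Units.val_neg, Units.val_one, hodd]

theorem torChar_neg_one_8 : torChar chevG2 (cw m (((-1 : Kˣ) : Kˣ) : K)) 8 = 1 := by
  rw [torChar_neg_one]
  have h1 : chevG2.cartan 0 8 = -1 := by decide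
  have h2 : chevG2.cartan 1 8 = 1 := by decide
  rw [h1, h2, zpow_neg_one, zpow_one]
  norm_num

theorem torChar_neg_one_10 : torChar chevG2 (cw m (((-1 : Kˣ) : Kˣ) : K)) 10 = 1 := by
  rw [torChar_neg_one]
  have h1 : chevG2.cartan 0 10 = 3 := by decide
  have h2 : chevG2.cartan 1 10 = -1 := by decide
  rw [h1, h2, zpow_neg_one, show (3 : ℤ) = ((3 : ℕ) : ℤ) from rfl, zpow_natCast]
  norm_num

theorem torChar_neg_one_3 : torChar chevG2 (cw m (((-1 : Kˣ) : Kˣ) : K)) 3 = 1 := by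
  rw [torChar_neg_one]
  have h1 : chevG2.cartan 0 3 = 1 := by decide
  have h2 : chevG2.cartan 1 3 = -1 := by decide
  rw [h1, h2, zpow_neg_one, zpow_one]
  norm_num

theorem torChar_neg_one_1 : torChar chevG2 (cw m (((-1 : Kˣ) : Kˣ) : K)) 1 = 1 := by
  rw [torChar_neg_one]
  have h1 : chevG2.cartan 0 1 = -3 := by decide
  have h2 : chevG2.cartan 1 1 = 1 := by decide
  rw [h1, h2, zpow_one, show (-3 : ℤ) = -((3 : ℕ) : ℤ) from rfl, zpow_neg, zpow_natCast]
  norm_num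

theorem torChar_neg_one_6 : torChar chevG2 (cw m (((-1 : Kˣ) : Kˣ) : K)) 6 = -1 := by
  rw [torChar_neg_one]
  have h1 : chevG2.cartan 0 6 = -3 := by decide
  have h2 : chevG2.cartan 1 6 = 2 := by decide
  rw [h1, h2, show (-3 : ℤ) = -((3 : ℕ) : ℤ) from rfl, zpow_neg, zpow_natCast,
    show (2 : ℤ) = ((2 : ℕ) : ℤ) from rfl, zpow_natCast]
  norm_num

/-- `h(-1)` commutes with the root elements of `±(a+b)`, `±(3a+b)` -/
theorem hw_neg_one_comm_X {r : ℕ} (hr : r < 12)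
    (h : torChar chevG2 (cw m (((-1 : Kˣ) : Kˣ) : K)) r = 1) (t : K) :
    Commute (hwHom K m (-1)) (X r t) := by
  have e := hw_conj_X (m := m) (-1 : Kˣ) hr t
  rw [h, one_mul] at e
  exact mul_inv_eq_iff_eq_mul.1 e

theorem hw_neg_one_comm_reeU (t : K) : Commute (hwHom K m (-1)) (reeU m 0 t 0) := by
  rw [reeU_0u0]
  exact (hw_neg_one_comm_X (by norm_num) torChar_neg_one_8 _).mul_right
    (hw_neg_one_comm_X (by norm_num) torChar_neg_one_10 _)

theorem hw_neg_one_comm_reeV (t : K) : Commute (hwHom K m (-1)) (reeV m 0 t 0) := by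
  rw [reeV_0u0]
  exact (hw_neg_one_comm_X (by norm_num) torChar_neg_one_3 _).mul_right
    (hw_neg_one_comm_X (by norm_num) torChar_neg_one_1 _)

/-- a subgroup of `Kˣ` containing the `(3θ+1)`-th powers and `-1` is everything -/
theorem units_mem_of_pow_of_neg [Fintype K] [CharP K 3] (hK : Fintype.card K = 3 ^ (2 * m + 1))
    (S : Subgroup Kˣ) (hpow : ∀ z : Kˣ, z ^ (3 * 3 ^ m + 1) ∈ S) (hneg : (-1 : Kˣ) ∈ S) (w : Kˣ) :
    w ∈ S := by
  classical
  have hsq : ∀ z : Kˣ, z ^ 2 ∈ S := by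
    intro z
    have h2 := Subgroup.pow_mem S (hpow z) (3 * 3 ^ m - 1)
    have hq : z ^ (Fintype.card K - 1) = 1 := by
      rw [← Fintype.card_units]; exact pow_card_eq_one
    have e : (3 * 3 ^ m + 1) * (3 * 3 ^ m - 1) = (Fintype.card K - 1) * 3 + 2 := by
      rw [hK]
      have h3 : 1 ≤ 3 * 3 ^ m := Nat.succ_le_of_lt (by positivity)
      have h4 : 1 ≤ 3 ^ (2 * m + 1) := Nat.succ_le_of_lt (by positivity)
      zify [h3, h4]
      ring
    rw [← pow_mul, e, pow_add, pow_mul, hq, one_pow, one_mul] at h2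
    exact h2
  have hchar : ringChar K ≠ 2 := by
    rw [ringChar.eq K 3]; norm_num
  have hodd : Odd (Fintype.card K / 2) := by
    rw [hK, Nat.odd_iff]
    have := q_mod_four m
    omega
  have hsq' : ∀ a : Kˣ, IsSquare (a : K) → a ∈ S := by
    rintro a ⟨r, hr⟩
    have hr0 : r ≠ 0 := by
      rintro rfl
      exact a.ne_zero (by rw [hr, mul_zero])
    have : a = (Units.mk0 r hr0) ^ 2 := Units.ext (by rw [hr]; simp [sq])
    rw [this]
    exact hsq _
  rcases FiniteField.pow_dichotomy hchar w.ne_zero with h | h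
  · exact hsq' w ((FiniteField.isSquare_iff hchar w.ne_zero).2 h)
  · have h2 : IsSquare (((-w : Kˣ)) : K) := by
      rw [FiniteField.isSquare_iff hchar (-w).ne_zero, Units.val_neg, neg_pow, h, hodd.neg_one_pow]
      ring
    have h3 := Subgroup.mul_mem S hneg (hsq' _ h2)
    simpa using h3

namespace InvHom

variable (Φ : InvHom K m)

/-- `h(-1)` centralises the image -/
theorem comm_neg_one (g : Matrix.SpecialLinearGroup (Fin 2) K) :
    Commute (hwHom K m (-1)) (Φ.φ g) := by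
  have h := sl2_range_le Φ.φ (Subgroup.centralizer {hwHom K m (-1)})
    (fun t => by
      rw [Φ.upper, Subgroup.mem_centralizer_singleton_iff]
      exact (hw_neg_one_comm_reeU t).eq.symm)
    (fun t => by
      rw [Φ.lower, Subgroup.mem_centralizer_singleton_iff]
      exact (hw_neg_one_comm_reeV _).eq.symm) g
  rw [Subgroup.mem_centralizer_singleton_iff] at h
  exact h.symm

theorem n0_mem_range : n0 K m ∈ Φ.φ.range := by
  refine ⟨upperSL 1 * lowerSL (-1) * upperSL 1, ?_⟩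
  rw [map_mul, map_mul, Φ.upper, Φ.lower, neg_neg]
  rfl

/-- the subgroup `⟨h(-1)⟩ φ(SL₂(K))` -/
noncomputable def L : Subgroup (GL chevG2.Idx K) := Subgroup.zpowers (hwHom K m (-1)) ⊔ Φ.φ.range

theorem range_le_L : Φ.φ.range ≤ Φ.L := le_sup_right

theorem neg_one_mem_L : hwHom K m (-1) ∈ Φ.L := Subgroup.mem_sup_left (Subgroup.mem_zpowers _)

theorem hw_mem_L [Fintype K] (C : ReeCtx K m) (hK : Fintype.card K = 3 ^ (2 * m + 1)) (w : Kˣ) :
    hwHom K m w ∈ Φ.L := by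
  have := C.char3
  apply units_mem_of_pow_of_neg hK (Φ.L.comap (hwHom K m))
  · intro z
    rw [Subgroup.mem_comap, ← C.hh_eq_hw z, ← Φ.diag (z : K) z.ne_zero]
    exact Φ.range_le_L ⟨_, rfl⟩
  · exact Φ.neg_one_mem_L

/-- the centraliser of `h(-1)` in `U¹` -/
theorem cent_U (C : ReeCtx K m) {x : GL chevG2.Idx K}
    (hx : x ∈ chevG2.posUnipotent K ⊓ twistedG2 K (3 ^ m))
    (hc : hwHom K m (-1) * x * (hwHom K m (-1))⁻¹ = x) : x ∈ Φ.φ.range := by
  have := C.char3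
  rw [C.U_inf_twisted, C.mem_U_inf_Fix] at hx
  obtain ⟨t, u, v, rfl⟩ := hx
  obtain ⟨e1, _, e3⟩ := hw_fix_eqs (-1 : Kˣ) hc
  rw [torChar_neg_one_6] at e1
  rw [Units.val_neg, Units.val_one] at e3
  have h3 : (3 : K) = 0 := three_eq_zero
  have ht : t = 0 := by linear_combination e1 + t * h3
  have hv : v = 0 := by linear_combination e3 + v * h3
  rw [ht, hv, ← Φ.upper]
  exact ⟨_, rfl⟩

/-- `h(-1)` centralises `H¹` -/
theorem comm_H1 [Fintype K] (C : ReeCtx K m) (hK : Fintype.card K = 3 ^ (2 * m + 1))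
    {h : GL chevG2.Idx K} (hh : h ∈ chevG2.diagonalSubgroup K ⊓ twistedG2 K (3 ^ m)) :
    hwHom K m (-1) * h * (hwHom K m (-1))⁻¹ = h ∧ h ∈ Φ.L := by
  rw [C.H_inf_twisted hK, ← C.range_hwHom] at hh
  obtain ⟨w, rfl⟩ := hh
  refine ⟨?_, Φ.hw_mem_L C hK w⟩
  rw [← map_mul, ← map_inv, ← map_mul, mul_comm, inv_mul_cancel_left]

/-- the centraliser of `h(-1)` in `G¹` lies in `⟨h(-1)⟩ φ(SL₂(K))` -/
theorem cent_le_L [Fintype K] (C : ReeCtx K m) (hK : Fintype.card K = 3 ^ (2 * m + 1))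
    {g : GL chevG2.Idx K} (hg : g ∈ twistedG2 K (3 ^ m))
    (hc : hwHom K m (-1) * g * (hwHom K m (-1))⁻¹ = g) : g ∈ Φ.L := by
  have Δ := bn2 (K := K)
  obtain ⟨a, ha⟩ : ∃ a, a = hwHom K m (-1) := ⟨_, rfl⟩
  rw [← ha] at hc
  have haH : a ∈ chevG2.diagonalSubgroup K := by rw [ha]; exact hwHom_mem_H _
  rcases C.cells hg with hB | ⟨b, hb, u, hu, rfl⟩
  · obtain ⟨u₁, hu₁, h₁, hh₁, rfl⟩ := C.borel_inf hB
    obtain ⟨e1, hL⟩ := Φ.comm_H1 C hK hh₁
    rw [← ha] at e1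
    have e2 : (a * u₁ * a⁻¹) * h₁ = u₁ * h₁ := by
      have : a * (u₁ * h₁) * a⁻¹ = (a * u₁ * a⁻¹) * (a * h₁ * a⁻¹) := by group
      rw [this, e1] at hc
      exact hc
    obtain ⟨e3, _⟩ := uh_unique (Δ.diag_conj_posUnipotent haH hu₁.1) hu₁.1 hh₁.1 hh₁.1 e2
    rw [ha] at e3
    exact Subgroup.mul_mem _ (Φ.range_le_L (Φ.cent_U C hu₁ e3)) hL
  · obtain ⟨u₁, hu₁, h₁, hh₁, rfl⟩ := C.borel_inf hb
    obtain ⟨e1, hL⟩ := Φ.comm_H1 C hK hh₁
    rw [← ha] at e1
    have en : a * n0 K m * a⁻¹ = n0 K m := by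
      obtain ⟨x, hx⟩ := Φ.n0_mem_range
      rw [← hx, ha]
      exact mul_inv_eq_iff_eq_mul.2 (Φ.comm_neg_one x).eq
    have e2 : ((a * u₁ * a⁻¹) * h₁) * n0 K m * (a * u * a⁻¹) = (u₁ * h₁) * n0 K m * u := by
      have : a * (u₁ * h₁ * n0 K m * u) * a⁻¹ =
          ((a * u₁ * a⁻¹) * (a * h₁ * a⁻¹)) * (a * n0 K m * a⁻¹) * (a * u * a⁻¹) := by group
      rw [this, e1, en] at hc
      exact hc
    have hu₁' := Δ.diag_conj_posUnipotent haH hu₁.1
    obtain ⟨e3, e4⟩ := C.big_cell_unique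
      (Subgroup.mul_mem _ (Δ.posUnipotent_le_borel hu₁') (Δ.diag_le_borel hh₁.1))
      hb.1 (Δ.diag_conj_posUnipotent haH hu.1) hu.1 e2
    obtain ⟨e5, _⟩ := uh_unique hu₁' hu₁.1 hh₁.1 hh₁.1 e3
    rw [ha] at e4 e5
    exact Subgroup.mul_mem _ (Subgroup.mul_mem _ (Subgroup.mul_mem _
      (Φ.range_le_L (Φ.cent_U C hu₁ e5)) hL) (Φ.range_le_L Φ.n0_mem_range))
      (Φ.range_le_L (Φ.cent_U C hu e4))

/-- elements of `⟨h(-1)⟩ φ(SL₂(K))` -/
theorem mem_L_iff (C : ReeCtx K m) {g : GL chevG2.Idx K} :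
    g ∈ Φ.L ↔ g ∈ Φ.φ.range ∨ ∃ x ∈ Φ.φ.range, g = hwHom K m (-1) * x := by
  constructor
  · intro hg
    unfold L at hg
    have hnorm : Subgroup.zpowers (hwHom K m (-1)) ≤ Subgroup.normalizer (Φ.φ.range : Set (GL chevG2.Idx K)) := by
      rw [Subgroup.zpowers_le]
      rw [Subgroup.mem_normalizer_iff]
      intro x
      have key : ∀ y ∈ Φ.φ.range, hwHom K m (-1) * y * (hwHom K m (-1))⁻¹ = y := by
        rintro y ⟨z, rfl⟩
        exact mul_inv_eq_iff_eq_mul.2 (Φ.comm_neg_one z).eq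
      constructor
      · intro hx
        rw [key x hx]; exact hx
      · intro hx
        have := key _ hx
        have e : x = hwHom K m (-1) * x * (hwHom K m (-1))⁻¹ := by
          have h2 : hwHom K m (-1) * (hwHom K m (-1) * x * (hwHom K m (-1))⁻¹) * (hwHom K m (-1))⁻¹ =
              hwHom K m (-1) * x * (hwHom K m (-1))⁻¹ := this
          have h3 := mul_left_cancel (mul_right_cancel h2)
          exact h3.symm
        rw [e]; exact hx
    have hg' : g ∈ ((Subgroup.zpowers (hwHom K m (-1)) ⊔ Φ.φ.range : Subgroup (GL chevG2.Idx K)) :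
        Set (GL chevG2.Idx K)) := hg
    rw [sup_comm, Subgroup.coe_mul_of_right_le_normalizer_left _ _ hnorm, Set.mem_mul] at hg'
    obtain ⟨x, hx, z, hz, rfl⟩ := hg'
    rw [SetLike.mem_coe, Subgroup.mem_zpowers_iff] at hz
    obtain ⟨k, rfl⟩ := hz
    have hsq : hwHom K m (-1) * hwHom K m (-1) = 1 := by
      rw [← map_mul]; simp
    have hxx : ∀ y ∈ Φ.φ.range, y * hwHom K m (-1) = hwHom K m (-1) * y := by
      rintro y ⟨z, rfl⟩
      exact (Φ.comm_neg_one z).eq.symm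
    rcases Int.even_or_odd k with ⟨j, hj⟩ | ⟨j, hj⟩
    · left
      have : hwHom K m (-1) ^ k = 1 := by
        rw [hj, zpow_add, ← (Commute.refl _).mul_zpow, hsq, one_zpow]
      rw [this, mul_one]; exact hx
    · right
      have : hwHom K m (-1) ^ k = hwHom K m (-1) := by
        rw [hj, zpow_add, zpow_one, two_mul, zpow_add, ← (Commute.refl _).mul_zpow, hsq, one_zpow, one_mul]
      rw [this]
      exact ⟨x, hx, hxx x hx⟩
  · rintro (h | ⟨x, hx, rfl⟩)
    · exact Φ.range_le_L h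
    · exact Subgroup.mul_mem _ Φ.neg_one_mem_L (Φ.range_le_L hx)

end InvHom

end Cfsg.Agent.Helper6.Ree
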