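import Mathlib
import Cfsg.Agent.Helper6.Ree.G2Sylow3

set_option autoImplicit false
set_option linter.unusedSectionVars false
set_option linter.unusedVariables false
set_option linter.unusedSimpArgs false

/-!
Cubes in the unipotent group of `G₂` in characteristic `3`:
`(x_a(p) x_b(t) c)³ = x_{2a+b}(-p²t) x_{3a+2b}(-p³t²)` for `c ∈ U_8`.
-/

namespace Cfsg.Agent.Helper6.Ree

open Cfsg.Lie Cfsg.Agent.Helper6

/-- `(yc)³ = y³c³z³` when `cy = ycz` with `z` commuting with `y` and `c` -/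
theorem cube_mul_of_central {G : Type*} [Group G] {y c z : G} (hcy : c * y = y * c * z)
    (hzy : z * y = y * z) (hzc : z * c = c * z) :
    (y * c) * (y * c) * (y * c) = y * y * y * (c * c * c) * (z * z * z) := by
  have r1 : ∀ x : G, c * (y * x) = y * (c * (z * x)) := fun x => by
    rw [← mul_assoc, hcy, mul_assoc, mul_assoc]
  have r1' : c * y = y * (c * z) := by rw [hcy, mul_assoc]
  have r2 : ∀ x : G, z * (y * x) = y * (z * x) := fun x => by
    rw [← mul_assoc, hzy, mul_assoc]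
  have r3 : ∀ x : G, z * (c * x) = c * (z * x) := fun x => by
    rw [← mul_assoc, hzc, mul_assoc]
  simp only [mul_assoc, r1, r1', r2, r3, hzy, hzc]

/-- `(ab)³ = a³b³d³z₁z₂⁵` -/
theorem cube_of_rels {G : Type*} [Group G] {a b d z₁ z₂ : G} (hba : b * a = a * b * d)
    (hda : d * a = a * d * z₁) (hdb : d * b = b * d * z₂)
    (h1a : z₁ * a = a * z₁) (h1b : z₁ * b = b * z₁) (h1d : z₁ * d = d * z₁)
    (h2a : z₂ * a = a * z₂) (h2b : z₂ * b = b * z₂) (h2d : z₂ * d = d * z₂)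
    (h21 : z₂ * z₁ = z₁ * z₂) :
    (a * b) * (a * b) * (a * b) =
      a * a * a * (b * b * b) * (d * d * d) * z₁ * (z₂ * z₂ * z₂ * z₂ * z₂) := by
  have t {p q r : G} (h : p * q = q * r) : ∀ x : G, p * (q * x) = q * (r * x) := fun x => by
    rw [← mul_assoc, h, mul_assoc]
  have hba' : b * a = a * (b * d) := by rw [hba, mul_assoc]
  have hda' : d * a = a * (d * z₁) := by rw [hda, mul_assoc]
  have hdb' : d * b = b * (d * z₂) := by rw [hdb, mul_assoc]
  simp only [mul_assoc, hba', hda', hdb', t hba', t hda', t hdb', h1a, h1b, h1d, h2a, h2b, h2d, h21,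
    t h1a, t h1b, t h1d, t h2a, t h2b, t h2d, t h21]

variable {K : Type*} [Field K] {m : ℕ}

theorem c_6_8 (t u : K) : Commute (X 6 t) (X 8 u) :=
  X_comm (by norm_num) (by norm_num) (by norm_num) (by norm_num) (by decide) t u
theorem c_6_9 (t u : K) : Commute (X 6 t) (X 9 u) :=
  X_comm (by norm_num) (by norm_num) (by norm_num) (by norm_num) (by decide) t u
theorem c_6_11 (t u : K) : Commute (X 6 t) (X 11 u) :=
  X_comm (by norm_num) (by norm_num) (by norm_num) (by norm_num) (by decide) t u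
theorem c_7_10 (t u : K) : Commute (X 7 t) (X 10 u) :=
  X_comm (by norm_num) (by norm_num) (by norm_num) (by norm_num) (by decide) t u
theorem c_7_11 (t u : K) : Commute (X 7 t) (X 11 u) :=
  X_comm (by norm_num) (by norm_num) (by norm_num) (by norm_num) (by decide) t u

theorem c_self (r : ℕ) (t u : K) : Commute (X r t) (X r u) := by
  show X r t * X r u = X r u * X r t
  rw [X_add, X_add, add_comm]

/-- `x_{3a+b}(u) x_b(t) = x_b(t) x_{3a+b}(u) x_{3a+2b}(-tu)` -/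
theorem comm6_10 (t u : K) : X 10 u * X 6 t = X 6 t * X 10 u * X 11 (-(t * u)) := by
  rw [X_commF (by norm_num) (by norm_num) (by norm_num) (by norm_num)]
  have e : chevG2.commTerms 6 10 = [(11, 1, 1, 1)] := by decide
  unfold ChevalleyDatum.commWord
  rw [e]
  simp only [List.map_cons, List.map_nil, wordU_cons, wordU_nil, mul_one]
  rw [show ((1 : ℤ) : K) * (-t) ^ 1 * u ^ 1 = -(t * u) by push_cast; ring]

section char3

variable [CharP K 3]

theorem c_7_9 (t u : K) : Commute (X 7 t) (X 9 u) := by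
  have h := X_commF (K := K) (r := 7) (s := 9) (by norm_num) (by norm_num) (by norm_num)
    (by norm_num) t u
  have e : chevG2.commTerms 7 9 = [(10, 3, 1, 1)] := by decide
  unfold ChevalleyDatum.commWord at h
  rw [e] at h
  simp only [List.map_cons, List.map_nil, wordU_cons, wordU_nil, mul_one] at h
  have z : ((3 : ℤ) : K) * (-t) ^ 1 * u ^ 1 = 0 := by
    push_cast; rw [three_eq_zero]; ring
  rw [z, X_zero, mul_one] at h
  exact h.symm

/-- `x_{a+b}(u) x_a(t) = x_a(t) x_{a+b}(u) x_{2a+b}(-tu)` in characteristic 3 -/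
theorem comm78 (t u : K) : X 8 u * X 7 t = X 7 t * X 8 u * X 9 (-(t * u)) := by
  rw [X_commF (by norm_num) (by norm_num) (by norm_num) (by norm_num)]
  have e : chevG2.commTerms 7 8 = [(9, -2, 1, 1), (10, -3, 2, 1), (11, 3, 1, 2)] := by decide
  unfold ChevalleyDatum.commWord
  rw [e]
  simp only [List.map_cons, List.map_nil, wordU_cons, wordU_nil, mul_one]
  have h3 : (3 : K) = 0 := three_eq_zero
  have z1 : ((-2 : ℤ) : K) * (-t) ^ 1 * u ^ 1 = -(t * u) := by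
    push_cast; linear_combination (t * u) * h3
  have z2 : ((-3 : ℤ) : K) * (-t) ^ 2 * u ^ 1 = 0 := by
    push_cast; linear_combination (-(t ^ 2 * u)) * h3
  have z3 : ((3 : ℤ) : K) * (-t) ^ 1 * u ^ 2 = 0 := by
    push_cast; linear_combination (-(t * u ^ 2)) * h3
  rw [z1, z2, z3, X_zero, X_zero, mul_one, mul_one]

theorem X_cube (r : ℕ) (t : K) : X r t * X r t * X r t = 1 := by
  rw [X_add, X_add]
  have : t + t + t = 0 := by linear_combination t * (three_eq_zero (K := K))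
  rw [this, X_zero]

/-- the shape of the elements of `U_8` -/
abbrev W8 (a b c d : K) : GL chevG2.Idx K := X 8 a * X 9 b * (X 10 c * X 11 d)

theorem W8_mem (a b c d : K) : W8 a b c d ∈ Uge chevG2 K 8 :=
  Subgroup.mul_mem _ (Subgroup.mul_mem _ (X_mem_Uge (by norm_num) (by norm_num) _)
    (X_mem_Uge (by norm_num) (by norm_num) _)) (Subgroup.mul_mem _
    (X_mem_Uge (by norm_num) (by norm_num) _) (X_mem_Uge (by norm_num) (by norm_num) _))

/-- `x_{2a+b}` and `x_{3a+2b}` are central in `U` -/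
theorem Z_comm_gen {r : ℕ} (h6 : 6 ≤ r) (hr : r < 12) (a b s : K) :
    Commute (X 9 a * X 11 b) (X r s) := by
  interval_cases r
  · exact (c_6_9 s a).symm.mul_left (c_6_11 s b).symm
  · exact (c_7_9 s a).symm.mul_left (c_7_11 s b).symm
  · exact (c_8_9 s a).symm.mul_left (c_8_11 s b).symm
  · exact (c_self 9 a s).mul_left (c_9_11 s b).symm
  · exact (c_9_10 a s).mul_left (c_10_11 s b).symm
  · exact (c_9_11 a s).mul_left (c_self 11 b s)

theorem Z_comm_U (a b : K) {y : GL chevG2.Idx K} (hy : y ∈ chevG2.posUnipotent K) :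
    Commute (X 9 a * X 11 b) y := by
  have hle : chevG2.posUnipotent K ≤ Subgroup.centralizer {X 9 a * X 11 b} := by
    unfold ChevalleyDatum.posUnipotent
    rw [Subgroup.closure_le]
    rintro g ⟨r, t, hr, h3⟩
    have hg : g = X r t := Units.ext (by rw [h3]; rfl)
    have hr' := isPos_iff.1 hr
    rw [hg]
    intro z hz
    rw [Set.mem_singleton_iff] at hz
    rw [hz]
    exact (Z_comm_gen hr'.1 hr'.2 a b t).eq
  have := hle hy
  exact (Subgroup.mem_centralizer_iff.1 this _ (Set.mem_singleton _))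

theorem Uge8_le_U : Uge chevG2 K 8 ≤ chevG2.posUnipotent K := by
  rw [U_eq_Uge]; exact Uge_mono (by norm_num)

/-- conjugation of `U_8` by `x_a(s)` -/
theorem conj7 (s a b c d : K) :
    X 7 s * W8 a b c d * (X 7 s)⁻¹ = W8 a b c d * (X 9 (s * a) * X 11 0) := by
  have h8 : X 7 s * X 8 a * (X 7 s)⁻¹ = X 8 a * X 9 (s * a) := by
    have := comm78 (-s) a
    rw [X_inv]
    have e : X 7 s * X 8 a * X 7 (-s) = X 7 s * (X 8 a * X 7 (-s)) := by rw [mul_assoc]
    rw [e, this, ← mul_assoc, ← mul_assoc, X_mul_neg, one_mul, neg_mul, neg_neg]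
  have h9 : X 7 s * X 9 b * (X 7 s)⁻¹ = X 9 b := by
    rw [(c_7_9 s b).eq, mul_inv_cancel_right]
  have h10 : X 7 s * X 10 c * (X 7 s)⁻¹ = X 10 c := by
    rw [(c_7_10 s c).eq, mul_inv_cancel_right]
  have h11 : X 7 s * X 11 d * (X 7 s)⁻¹ = X 11 d := by
    rw [(c_7_11 s d).eq, mul_inv_cancel_right]
  have hsplit : X 7 s * W8 a b c d * (X 7 s)⁻¹ =
      (X 7 s * X 8 a * (X 7 s)⁻¹) * (X 7 s * X 9 b * (X 7 s)⁻¹) *
        ((X 7 s * X 10 c * (X 7 s)⁻¹) * (X 7 s * X 11 d * (X 7 s)⁻¹)) := by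
    unfold W8; group
  rw [hsplit, h8, h9, h10, h11, X_zero, mul_one]
  unfold W8
  have hc : Commute (X 9 (s * a)) (X 9 b * (X 10 c * X 11 d)) :=
    (c_self 9 _ _).mul_right ((c_9_10 _ _).mul_right (c_9_11 _ _))
  calc X 8 a * X 9 (s * a) * X 9 b * (X 10 c * X 11 d)
      = X 8 a * (X 9 (s * a) * (X 9 b * (X 10 c * X 11 d))) := by simp only [mul_assoc]
    _ = X 8 a * ((X 9 b * (X 10 c * X 11 d)) * X 9 (s * a)) := by rw [hc.eq]
    _ = _ := by simp only [mul_assoc]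

/-- conjugation of `U_8` by `x_b(s)` -/
theorem conj6 (s a b c d : K) :
    X 6 s * W8 a b c d * (X 6 s)⁻¹ = W8 a b c d * (X 9 0 * X 11 (s * c)) := by
  have h10 : X 6 s * X 10 c * (X 6 s)⁻¹ = X 10 c * X 11 (s * c) := by
    have := comm6_10 (-s) c
    rw [X_inv]
    have e : X 6 s * X 10 c * X 6 (-s) = X 6 s * (X 10 c * X 6 (-s)) := by rw [mul_assoc]
    rw [e, this, ← mul_assoc, ← mul_assoc, X_mul_neg, one_mul, neg_mul, neg_neg]
  have h8 : X 6 s * X 8 a * (X 6 s)⁻¹ = X 8 a := by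
    rw [(c_6_8 s a).eq, mul_inv_cancel_right]
  have h9 : X 6 s * X 9 b * (X 6 s)⁻¹ = X 9 b := by
    rw [(c_6_9 s b).eq, mul_inv_cancel_right]
  have h11 : X 6 s * X 11 d * (X 6 s)⁻¹ = X 11 d := by
    rw [(c_6_11 s d).eq, mul_inv_cancel_right]
  have hsplit : X 6 s * W8 a b c d * (X 6 s)⁻¹ =
      (X 6 s * X 8 a * (X 6 s)⁻¹) * (X 6 s * X 9 b * (X 6 s)⁻¹) *
        ((X 6 s * X 10 c * (X 6 s)⁻¹) * (X 6 s * X 11 d * (X 6 s)⁻¹)) := by
    unfold W8; group
  rw [hsplit, h8, h9, h10, h11, X_zero, one_mul]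
  unfold W8
  have hc : Commute (X 11 (s * c)) (X 11 d) := c_self 11 _ _
  calc X 8 a * X 9 b * (X 10 c * X 11 (s * c) * X 11 d)
      = X 8 a * X 9 b * (X 10 c * (X 11 (s * c) * X 11 d)) := by simp only [mul_assoc]
    _ = X 8 a * X 9 b * (X 10 c * (X 11 d * X 11 (s * c))) := by rw [hc.eq]
    _ = _ := by simp only [mul_assoc]

/-- conjugation of `U_8` by the higher root elements is trivial -/
theorem conj_ge8 {r : ℕ} (h8 : 8 ≤ r) (hr : r < 12) (s a b c d : K) :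
    X r s * W8 a b c d * (X r s)⁻¹ = W8 a b c d * (X 9 0 * X 11 0) := by
  have hc : Commute (X r s) (W8 a b c d) := by
    unfold W8
    interval_cases r
    · exact ((c_self 8 _ _).mul_right (c_8_9 _ _)).mul_right ((c_8_10 _ _).mul_right (c_8_11 _ _))
    · exact ((c_8_9 _ _).symm.mul_right (c_self 9 _ _)).mul_right
        ((c_9_10 _ _).mul_right (c_9_11 _ _))
    · exact ((c_8_10 _ _).symm.mul_right (c_9_10 _ _).symm).mul_right
        ((c_self 10 _ _).mul_right (c_10_11 _ _))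
    · exact ((c_8_11 _ _).symm.mul_right (c_9_11 _ _).symm).mul_right
        ((c_10_11 _ _).symm.mul_right (c_self 11 _ _))
  rw [hc.eq, mul_inv_cancel_right, X_zero, X_zero, mul_one, mul_one]

/-- conjugation of `U_8` by a root element of `U` -/
theorem conj_gen {r : ℕ} (h6 : 6 ≤ r) (hr : r < 12) (s : K) {c : GL chevG2.Idx K}
    (hc : c ∈ Uge chevG2 K 8) : ∃ a b : K, X r s * c * (X r s)⁻¹ = c * (X 9 a * X 11 b) := by
  obtain ⟨a, b, c', d, rfl⟩ := uge8_exists hc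
  by_cases h7 : r = 7
  · subst h7; exact ⟨_, _, conj7 s a b c' d⟩
  by_cases h6' : r = 6
  · subst h6'; exact ⟨_, _, conj6 s a b c' d⟩
  exact ⟨_, _, conj_ge8 (by omega) hr s a b c' d⟩

/-- conjugation of `U_8` by `U` -/
theorem conj_U {y : GL chevG2.Idx K} (hy : y ∈ chevG2.posUnipotent K) :
    (∀ c ∈ Uge chevG2 K 8, ∃ a b : K, y * c * y⁻¹ = c * (X 9 a * X 11 b)) ∧
      (∀ c ∈ Uge chevG2 K 8, ∃ a b : K, y⁻¹ * c * y⁻¹⁻¹ = c * (X 9 a * X 11 b)) := by
  unfold ChevalleyDatum.posUnipotent at hy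
  induction hy using Subgroup.closure_induction with
  | mem g hg =>
    obtain ⟨r, t, hr, h3⟩ := hg
    have hg' : g = X r t := Units.ext (by rw [h3]; rfl)
    have hr' := isPos_iff.1 hr
    rw [hg']
    refine ⟨fun c hc => conj_gen hr'.1 hr'.2 t hc, fun c hc => ?_⟩
    rw [X_inv]
    exact conj_gen hr'.1 hr'.2 (-t) hc
  | one =>
    refine ⟨fun c _ => ⟨0, 0, ?_⟩, fun c _ => ⟨0, 0, ?_⟩⟩
    · simp [X_zero]
    · simp [X_zero]
  | mul y₁ y₂ hy₁ hy₂ ih₁ ih₂ =>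
    have hy₁U : y₁ ∈ chevG2.posUnipotent K := hy₁
    have hy₂U : y₂ ∈ chevG2.posUnipotent K := hy₂
    constructor
    · intro c hc
      obtain ⟨a₂, b₂, e₂⟩ := ih₂.1 c hc
      obtain ⟨a₁, b₁, e₁⟩ := ih₁.1 c hc
      refine ⟨a₁ + a₂, b₁ + b₂, ?_⟩
      have hz := (Z_comm_U a₂ b₂ hy₁U).eq
      have e : y₁ * y₂ * c * (y₁ * y₂)⁻¹ = y₁ * (y₂ * c * y₂⁻¹) * y₁⁻¹ := by group
      rw [e, e₂]
      have e' : y₁ * (c * (X 9 a₂ * X 11 b₂)) * y₁⁻¹ =
          (y₁ * c * y₁⁻¹) * (y₁ * (X 9 a₂ * X 11 b₂) * y₁⁻¹) := by group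
      rw [e', e₁, ← hz, mul_inv_cancel_right]
      have : X 9 a₁ * X 11 b₁ * (X 9 a₂ * X 11 b₂) = X 9 (a₁ + a₂) * X 11 (b₁ + b₂) := by
        rw [← X_add, ← X_add]
        have hc' := (c_9_11 a₂ b₁).eq
        calc X 9 a₁ * X 11 b₁ * (X 9 a₂ * X 11 b₂)
            = X 9 a₁ * (X 11 b₁ * X 9 a₂) * X 11 b₂ := by simp only [mul_assoc]
          _ = X 9 a₁ * (X 9 a₂ * X 11 b₁) * X 11 b₂ := by rw [hc']
          _ = _ := by simp only [mul_assoc]
      rw [mul_assoc, this]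
    · intro c hc
      obtain ⟨a₂, b₂, e₂⟩ := ih₂.2 c hc
      obtain ⟨a₁, b₁, e₁⟩ := ih₁.2 c hc
      refine ⟨a₂ + a₁, b₂ + b₁, ?_⟩
      have hz := (Z_comm_U a₁ b₁ (Subgroup.inv_mem _ hy₂U)).eq
      have e : (y₁ * y₂)⁻¹ * c * (y₁ * y₂)⁻¹⁻¹ = y₂⁻¹ * (y₁⁻¹ * c * y₁⁻¹⁻¹) * y₂⁻¹⁻¹ := by group
      rw [e, e₁]
      have e' : y₂⁻¹ * (c * (X 9 a₁ * X 11 b₁)) * y₂⁻¹⁻¹ =
          (y₂⁻¹ * c * y₂⁻¹⁻¹) * (y₂⁻¹ * (X 9 a₁ * X 11 b₁) * y₂⁻¹⁻¹) := by group
      rw [e', e₂, ← hz, mul_inv_cancel_right]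
      have : X 9 a₂ * X 11 b₂ * (X 9 a₁ * X 11 b₁) = X 9 (a₂ + a₁) * X 11 (b₂ + b₁) := by
        rw [← X_add, ← X_add]
        have hc' := (c_9_11 a₁ b₂).eq
        calc X 9 a₂ * X 11 b₂ * (X 9 a₁ * X 11 b₁)
            = X 9 a₂ * (X 11 b₂ * X 9 a₁) * X 11 b₁ := by simp only [mul_assoc]
          _ = X 9 a₂ * (X 9 a₁ * X 11 b₂) * X 11 b₁ := by rw [hc']
          _ = _ := by simp only [mul_assoc]
      rw [mul_assoc, this]
  | inv y hy ih =>
    refine ⟨ih.2, ?_⟩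
    rw [inv_inv]
    intro c hc
    obtain ⟨a, b, e⟩ := ih.1 c hc
    exact ⟨a, b, e⟩

/-- cubes in `U_8` are trivial -/
theorem W8_cube (a b c d : K) : W8 a b c d * W8 a b c d * W8 a b c d = 1 := by
  have h1 : Commute (X 8 a * X 9 b) (X 10 c * X 11 d) :=
    ((c_8_10 _ _).mul_right (c_8_11 _ _)).mul_left ((c_9_10 _ _).mul_right (c_9_11 _ _))
  have h2 : Commute (X 8 a) (X 9 b) := c_8_9 _ _
  have h3 : Commute (X 10 c) (X 11 d) := c_10_11 _ _
  have e : W8 a b c d * W8 a b c d * W8 a b c d = W8 a b c d ^ 3 := by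
    rw [pow_succ, pow_succ, pow_one]
  rw [e]
  unfold W8
  rw [h1.mul_pow, h2.mul_pow, h3.mul_pow]
  have p : ∀ (r : ℕ) (t : K), X r t ^ 3 = 1 := fun r t => by
    rw [pow_succ, pow_succ, pow_one]; exact X_cube r t
  rw [p, p, p, p]
  simp

theorem uge8_cube {c : GL chevG2.Idx K} (hc : c ∈ Uge chevG2 K 8) : c * c * c = 1 := by
  obtain ⟨a, b, c', d, rfl⟩ := uge8_exists hc
  exact W8_cube a b c' d

/-- the cube of `yc` for `c ∈ U_8` -/
theorem cube_mul_uge8 {y c : GL chevG2.Idx K} (hy : y ∈ chevG2.posUnipotent K)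
    (hc : c ∈ Uge chevG2 K 8) : (y * c) * (y * c) * (y * c) = y * y * y := by
  obtain ⟨a, b, e⟩ := (conj_U hy).2 c hc
  rw [inv_inv] at e
  have hcy : c * y = y * c * (X 9 a * X 11 b) := by
    calc c * y = y * (y⁻¹ * c * y) := by group
      _ = y * (c * (X 9 a * X 11 b)) := by rw [e]
      _ = _ := by rw [mul_assoc]
  have hzy := (Z_comm_U a b hy).eq
  have hzc := (Z_comm_U a b (Uge8_le_U hc)).eq
  rw [cube_mul_of_central hcy hzy hzc, uge8_cube hc, mul_one]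
  have hz : X 9 a * X 11 b = W8 0 a 0 b := by
    unfold W8; rw [X_zero, X_zero, one_mul, one_mul]
  rw [hz, W8_cube, mul_one]

/-- the cube of `x_a(p) x_b(t)` -/
theorem cube_76 (p t : K) :
    (X 7 p * X 6 t) * (X 7 p * X 6 t) * (X 7 p * X 6 t) =
      X 9 (-(p ^ 2 * t)) * X 11 (-(p ^ 3 * t ^ 2)) := by
  have h3 : (3 : K) = 0 := three_eq_zero
  set d := W8 (p * t) (p ^ 2 * t) (-(p ^ 3 * t)) (-(p ^ 3 * t ^ 2)) with hd
  have hba : X 6 t * X 7 p = X 7 p * X 6 t * d := by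
    rw [comm76, hd]; unfold W8; simp only [mul_assoc]
  have hda : d * X 7 p = X 7 p * d * (X 9 (-p * (p * t)) * X 11 0) := by
    have := conj7 (-p) (p * t) (p ^ 2 * t) (-(p ^ 3 * t)) (-(p ^ 3 * t ^ 2))
    rw [← hd, X_inv, neg_neg] at this
    calc d * X 7 p = X 7 p * (X 7 (-p) * d * X 7 p) := by
          rw [← mul_assoc, ← mul_assoc, X_mul_neg, one_mul]
      _ = X 7 p * (d * (X 9 (-p * (p * t)) * X 11 0)) := by rw [this]
      _ = _ := (mul_assoc _ _ _).symm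
  have hdb : d * X 6 t = X 6 t * d * (X 9 0 * X 11 (-t * -(p ^ 3 * t))) := by
    have := conj6 (-t) (p * t) (p ^ 2 * t) (-(p ^ 3 * t)) (-(p ^ 3 * t ^ 2))
    rw [← hd, X_inv, neg_neg] at this
    calc d * X 6 t = X 6 t * (X 6 (-t) * d * X 6 t) := by
          rw [← mul_assoc, ← mul_assoc, X_mul_neg, one_mul]
      _ = X 6 t * (d * (X 9 0 * X 11 (-t * -(p ^ 3 * t)))) := by rw [this]
      _ = _ := (mul_assoc _ _ _).symm
  have hU7 : X 7 p ∈ chevG2.posUnipotent K := X_mem_U (by norm_num) (by norm_num) _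
  have hU6 : X 6 t ∈ chevG2.posUnipotent K := X_mem_U (by norm_num) (by norm_num) _
  have hUd : d ∈ chevG2.posUnipotent K := Uge8_le_U (W8_mem _ _ _ _)
  have key := cube_of_rels hba hda hdb (Z_comm_U _ _ hU7).eq (Z_comm_U _ _ hU6).eq
    (Z_comm_U _ _ hUd).eq (Z_comm_U _ _ hU7).eq (Z_comm_U _ _ hU6).eq (Z_comm_U _ _ hUd).eq
    (by
      rw [X_zero, X_zero, one_mul, mul_one]
      exact (c_9_11 _ _).eq.symm)
  rw [key, X_cube, X_cube, hd, W8_cube]
  simp only [X_zero, one_mul, mul_one]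
  rw [X_add, X_add, X_add, X_add]
  have eA : -p * (p * t) = -(p ^ 2 * t) := by ring
  have eB : -t * -(p ^ 3 * t) + -t * -(p ^ 3 * t) + -t * -(p ^ 3 * t) + -t * -(p ^ 3 * t) +
      -t * -(p ^ 3 * t) = -(p ^ 3 * t ^ 2) := by
    linear_combination (2 * p ^ 3 * t ^ 2) * h3
  rw [eA, eB]

end char3

end Cfsg.Agent.Helper6.Ree
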