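import Mathlib
import Cfsg.Agent.Helper6.Ree.G2Cube

set_option autoImplicit false
set_option linter.unusedSectionVars false
set_option linter.unusedVariables false
set_option linter.unusedSimpArgs false

/-!
The elements of order `3` of `U¹ = U ∩ ²G₂(3^{2m+1})`.
-/

namespace Cfsg.Agent.Helper6.Ree

open Cfsg.Lie Cfsg.Agent.Helper6

variable {K : Type*} [Field K] {m : ℕ}

section char3

variable [CharP K 3]

/-- the cube of an element of `U¹` -/
theorem reeU_cube (t u v : K) : reeU m t u v * reeU m t u v * reeU m t u v =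
    X 9 (-((t ^ 3 ^ m) ^ 2 * t)) * X 11 (-((t ^ 3 ^ m) ^ 3 * t ^ 2)) := by
  have e : reeU m t u v = (X 7 (t ^ 3 ^ m) * X 6 t) *
      W8 (t ^ (3 ^ m + 1) + u ^ 3 ^ m) (t ^ (2 * 3 ^ m + 1) + v ^ 3 ^ m) u v := by
    rw [reeU_eq]; unfold W8; simp only [mul_assoc]
  rw [e, cube_mul_uge8 (Subgroup.mul_mem _ (X_mem_U (by norm_num) (by norm_num) _)
    (X_mem_U (by norm_num) (by norm_num) _)) (W8_mem _ _ _ _), cube_76]

theorem reeU_cube_eq_one_iff (t u v : K) :
    reeU m t u v * reeU m t u v * reeU m t u v = 1 ↔ t = 0 := by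
  rw [reeU_cube]
  constructor
  · intro h
    have h' : W8 0 (-((t ^ 3 ^ m) ^ 2 * t)) 0 (-((t ^ 3 ^ m) ^ 3 * t ^ 2)) = W8 (0 : K) 0 0 0 := by
      unfold W8
      simp only [X_zero, one_mul, mul_one]
      exact h
    obtain ⟨_, _, _, e⟩ := uge8_unique h'
    have e' : (t ^ 3 ^ m) ^ 3 * t ^ 2 = 0 := neg_eq_zero.1 e
    rcases mul_eq_zero.1 e' with h1 | h1
    · exact pow_eq_zero_iff (by positivity) |>.1 (pow_eq_zero_iff (by norm_num) |>.1 h1)
    · exact pow_eq_zero_iff (by norm_num) |>.1 h1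
  · rintro rfl
    have h0 : (0 : K) ^ 3 ^ m = 0 := zero_pow (by positivity)
    simp [h0, X_zero]

end char3

namespace ReeCtx

variable (C : ReeCtx K m)
include C

/-- `S1154`, given the twisting automorphism -/
theorem card_order_three [Fintype K] (hK : Fintype.card K = 3 ^ (2 * m + 1)) :
    Nat.card {u : ↥(chevG2.posUnipotent K ⊓ twistedG2 K (3 ^ m)) // orderOf u = 3} =
      (3 ^ (2 * m + 1)) ^ 2 - 1 := by
  classical
  have : CharP K 3 := C.char3
  have : Fact (Nat.Prime 3) := ⟨Nat.prime_three⟩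
  rw [C.U_inf_twisted]
  have hord : ∀ (x : ↥(chevG2.posUnipotent K ⊓ C.Fix)), orderOf x = 3 ↔
      ((x : GL chevG2.Idx K) * x * x = 1 ∧ (x : GL chevG2.Idx K) ≠ 1) := by
    intro x
    rw [orderOf_eq_prime_iff]
    constructor
    · rintro ⟨h1, h2⟩
      refine ⟨?_, fun h => h2 (Subtype.ext h)⟩
      have := congrArg Subtype.val h1
      simpa [pow_succ] using this
    · rintro ⟨h1, h2⟩
      refine ⟨Subtype.ext ?_, fun h => h2 (congrArg Subtype.val h)⟩
      simpa [pow_succ] using h1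
  have hmem : ∀ q : K × K, reeU m 0 q.1 q.2 ∈ chevG2.posUnipotent K ⊓ C.Fix :=
    fun q => C.mem_U_inf_Fix.2 ⟨_, _, _, rfl⟩
  let F : {q : K × K // q ≠ 0} → {x : ↥(chevG2.posUnipotent K ⊓ C.Fix) // orderOf x = 3} :=
    fun q => ⟨⟨reeU m 0 q.1.1 q.1.2, hmem q.1⟩, by
      rw [hord]
      refine ⟨(reeU_cube_eq_one_iff _ _ _).2 rfl, ?_⟩
      intro h
      rw [← reeU_000 (K := K) (m := m)] at h
      obtain ⟨_, h1, h2⟩ := reeU_inj h
      exact q.2 (Prod.ext h1 h2)⟩
  have hF : Function.Bijective F := by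
    constructor
    · intro q q' h
      have h1 : reeU m (0 : K) q.1.1 q.1.2 = reeU m 0 q'.1.1 q'.1.2 :=
        congrArg (fun z : {x : ↥(chevG2.posUnipotent K ⊓ C.Fix) // orderOf x = 3} =>
          ((z : ↥(chevG2.posUnipotent K ⊓ C.Fix)) : GL chevG2.Idx K)) h
      obtain ⟨_, h2, h3⟩ := reeU_inj h1
      exact Subtype.ext (Prod.ext h2 h3)
    · rintro ⟨⟨x, hx⟩, ho⟩
      obtain ⟨t, u, v, rfl⟩ := C.mem_U_inf_Fix.1 hx
      obtain ⟨h1, h2⟩ := (hord _).1 ho
      have ht : t = 0 := (reeU_cube_eq_one_iff t u v).1 h1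
      subst ht
      refine ⟨⟨(u, v), ?_⟩, rfl⟩
      intro h
      apply h2
      have hu : u = 0 := congrArg Prod.fst h
      have hv : v = 0 := congrArg Prod.snd h
      simp only
      rw [hu, hv]
      exact reeU_000
  rw [← Nat.card_congr (Equiv.ofBijective F hF), Nat.card_eq_fintype_card]
  have := Set.card_ne_eq (0 : K × K)
  simp only [Set.coe_setOf] at this
  rw [this, Fintype.card_prod, hK, sq]

end ReeCtx

end Cfsg.Agent.Helper6.Ree
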