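import Mathlib
import Cfsg.Agent.Helper6.Ree.G2Order3
import Cfsg.Agent.Helper6.Ree.G2Simple

set_option autoImplicit false
set_option linter.unusedSectionVars false
set_option linter.unusedVariables false
set_option linter.unusedSimpArgs false

/-!
The group law of `U¹ = U ∩ ²G₂` in the coordinates `reeU m t u v`, modulo the centre, and the
action of the torus `h(w)` on the coordinates.
-/

namespace Cfsg.Agent.Helper6.Ree

open Cfsg.Lie Cfsg.Agent.Helper6

/-- rearranging a product of two elements of the form `a b g` -/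
theorem prod_rearr {G : Type*} [Group G] {a b g a' b' g' gz d dz : G}
    (s1 : g * (a' * b') = (a' * b') * gz) (s2 : b * a' = a' * b * d) (s3 : d * b' = b' * dz) :
    (a * b) * g * ((a' * b') * g') = (a * a') * ((b * b') * (dz * gz * g')) := by
  calc (a * b) * g * ((a' * b') * g') = a * b * (g * (a' * b')) * g' := by simp only [mul_assoc]
    _ = a * b * ((a' * b') * gz) * g' := by rw [s1]
    _ = a * (b * a') * b' * gz * g' := by simp only [mul_assoc]
    _ = a * (a' * b * d) * b' * gz * g' := by rw [s2]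
    _ = a * a' * b * (d * b') * gz * g' := by simp only [mul_assoc]
    _ = a * a' * b * (b' * dz) * gz * g' := by rw [s3]
    _ = _ := by simp only [mul_assoc]

variable {K : Type*} [Field K] {m : ℕ}

section char3

variable [CharP K 3]

/-- `U_8` is abelian, with additive coordinates -/
theorem W8_mul (a b c d a' b' c' d' : K) :
    W8 a b c d * W8 a' b' c' d' = W8 (a + a') (b + b') (c + c') (d + d') := by
  unfold W8
  have h1 : Commute (X 10 c * X 11 d) (X 8 a' * X 9 b') :=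
    ((c_8_10 _ _).symm.mul_right (c_9_10 _ _).symm).mul_left
      ((c_8_11 _ _).symm.mul_right (c_9_11 _ _).symm)
  rw [h1.mul_mul_mul_comm, (c_8_9 a' b).symm.mul_mul_mul_comm,
    (c_10_11 c' d).symm.mul_mul_mul_comm, X_add, X_add, X_add, X_add]

theorem reeU_form (t u v : K) : reeU m t u v = (X 7 (t ^ 3 ^ m) * X 6 t) *
    W8 (t ^ (3 ^ m + 1) + u ^ 3 ^ m) (t ^ (2 * 3 ^ m + 1) + v ^ 3 ^ m) u v := by
  rw [reeU_eq]; unfold W8; simp only [mul_assoc]

end char3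

namespace ReeCtx

variable (C : ReeCtx K m)
include C

/-- the product in `U¹`, modulo the centre -/
theorem reeU_mul (t u v t' u' v' : K) :
    ∃ v'' : K, reeU m t u v * reeU m t' u' v' =
      reeU m (t + t') (u + u' - t * t' ^ (3 * 3 ^ m)) v'' := by
  have := C.char3
  obtain ⟨t'', u'', v'', e⟩ := C.mem_U_inf_Fix.1 (Subgroup.mul_mem _
    (C.mem_U_inf_Fix.2 ⟨t, u, v, rfl⟩) (C.mem_U_inf_Fix.2 ⟨t', u', v', rfl⟩))
  have e0 := e
  rw [reeU_form t u v, reeU_form t' u' v', reeU_form t'' u'' v''] at e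
  set g := W8 (t ^ (3 ^ m + 1) + u ^ 3 ^ m) (t ^ (2 * 3 ^ m + 1) + v ^ 3 ^ m) u v with hg
  set g' := W8 (t' ^ (3 ^ m + 1) + u' ^ 3 ^ m) (t' ^ (2 * 3 ^ m + 1) + v' ^ 3 ^ m) u' v' with hg'
  set p' := t' ^ 3 ^ m with hp'
  have hy' : X 7 p' * X 6 t' ∈ chevG2.posUnipotent K :=
    Subgroup.mul_mem _ (X_mem_U (by norm_num) (by norm_num) _) (X_mem_U (by norm_num) (by norm_num) _)
  obtain ⟨a₁, b₁, e₁⟩ := (conj_U hy').2 g (W8_mem _ _ _ _)
  rw [inv_inv] at e₁
  have s1 : g * (X 7 p' * X 6 t') = (X 7 p' * X 6 t') * (g * W8 0 a₁ 0 b₁) := by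
    have hz : W8 0 a₁ 0 b₁ = X 9 a₁ * X 11 b₁ := by
      unfold W8; rw [X_zero, X_zero, one_mul, one_mul]
    rw [hz, ← e₁]; group
  set d := W8 (p' * t) (p' ^ 2 * t) (-(p' ^ 3 * t)) (-(p' ^ 3 * t ^ 2)) with hd
  have s2 : X 6 t * X 7 p' = X 7 p' * X 6 t * d := by
    rw [comm76, hd]; unfold W8; simp only [mul_assoc]
  have s3 : d * X 6 t' = X 6 t' * (d * W8 0 0 0 (-t' * -(p' ^ 3 * t))) := by
    have h6 := conj6 (-t') (p' * t) (p' ^ 2 * t) (-(p' ^ 3 * t)) (-(p' ^ 3 * t ^ 2))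
    rw [← hd, X_inv, neg_neg] at h6
    have hz : W8 0 0 0 (-t' * -(p' ^ 3 * t)) = X 9 0 * X 11 (-t' * -(p' ^ 3 * t)) := by
      unfold W8; simp only [X_zero, one_mul]
    rw [hz, ← h6, ← mul_assoc, ← mul_assoc, X_mul_neg, one_mul]
  rw [prod_rearr s1 s2 s3, X_add, X_add, hd, hg, hg', W8_mul, W8_mul, W8_mul, W8_mul, mul_assoc] at e
  obtain ⟨_, e6, eg⟩ := uge76_unique (W8_mem _ _ _ _) (W8_mem _ _ _ _) e
  obtain ⟨_, _, e10, _⟩ := uge8_unique eg
  refine ⟨v'', ?_⟩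
  rw [e0, ← e6, ← e10]
  congr 1
  rw [hp']
  ring

/-- left division in `U¹`, modulo the centre -/
theorem reeU_div (t u v t' u' v' : K) :
    ∃ c : K, (reeU m t u v)⁻¹ * reeU m t' u' v' =
      reeU m (t' - t) (u' - u + t * (t' - t) ^ (3 * 3 ^ m)) c := by
  have := C.char3
  obtain ⟨a, b, c, e⟩ := C.mem_U_inf_Fix.1 (Subgroup.mul_mem _
    (Subgroup.inv_mem _ (C.mem_U_inf_Fix.2 ⟨t, u, v, rfl⟩)) (C.mem_U_inf_Fix.2 ⟨t', u', v', rfl⟩))
  obtain ⟨v'', e2⟩ := C.reeU_mul t u v a b c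
  rw [← e, mul_inv_cancel_left] at e2
  obtain ⟨h1, h2, _⟩ := reeU_inj e2
  refine ⟨c, ?_⟩
  rw [e]
  have ha : a = t' - t := by rw [h1]; ring
  have hb : b = u' - u + t * a ^ (3 * 3 ^ m) := by rw [h2]; ring
  rw [← ha, ← hb]

/-- the torus acts on the coordinates of `U¹` by three characters -/
theorem hw_conj_reeU [Fintype K] (hK : Fintype.card K = 3 ^ (2 * m + 1)) (w : Kˣ) (t u v : K) :
    hwHom K m w * reeU m t u v * (hwHom K m w)⁻¹ =
      reeU m (torChar chevG2 (cw m (w : K)) 6 * t) (torChar chevG2 (cw m (w : K)) 10 * u)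
        ((w : K) * v) := by
  have := C.char3
  have Δ := bn2 (K := K)
  have hhH : hwHom K m w ∈ chevG2.diagonalSubgroup K := hwHom_mem_H w
  have hnorm := diagonal_le_normalizer_posUnipotent Δ.hB Δ.hAll Δ.hAdd Δ.hH hhH
  have hU : hwHom K m w * reeU m t u v * (hwHom K m w)⁻¹ ∈ chevG2.posUnipotent K :=
    (Subgroup.mem_normalizer_iff.1 hnorm _).1 (reeU_mem_U t u v)
  have hG : hwHom K m w * reeU m t u v * (hwHom K m w)⁻¹ ∈ twistedG2 K (3 ^ m) :=
    Subgroup.mul_mem _ (Subgroup.mul_mem _ (C.hw_mem_twisted hK w) (reeU_mem_twisted _ _ _))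
      (Subgroup.inv_mem _ (C.hw_mem_twisted hK w))
  have hUF : hwHom K m w * reeU m t u v * (hwHom K m w)⁻¹ ∈ chevG2.posUnipotent K ⊓ C.Fix := by
    rw [← C.U_inf_twisted]; exact ⟨hU, hG⟩
  obtain ⟨t', u', v', e⟩ := C.mem_U_inf_Fix.1 hUF
  have e0 := e
  have hconj : ∀ a b : GL chevG2.Idx K, hwHom K m w * (a * b) * (hwHom K m w)⁻¹ =
      (hwHom K m w * a * (hwHom K m w)⁻¹) * (hwHom K m w * b * (hwHom K m w)⁻¹) := by
    intro a b; group
  rw [reeU_eq, reeU_eq] at e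
  simp only [hconj, hw_conj_X w (show 7 < 12 by norm_num), hw_conj_X w (show 6 < 12 by norm_num),
    hw_conj_X w (show 8 < 12 by norm_num), hw_conj_X w (show 9 < 12 by norm_num),
    hw_conj_X w (show 10 < 12 by norm_num), hw_conj_X w (show 11 < 12 by norm_num)] at e
  have hmem : ∀ a b c d : K, X 8 a * (X 9 b * (X 10 c * X 11 d)) ∈ Uge chevG2 K 8 := fun a b c d =>
    Subgroup.mul_mem _ (X_mem_Uge (by norm_num) (by norm_num) _)
      (Subgroup.mul_mem _ (X_mem_Uge (by norm_num) (by norm_num) _)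
        (Subgroup.mul_mem _ (X_mem_Uge (by norm_num) (by norm_num) _)
          (X_mem_Uge (by norm_num) (by norm_num) _)))
  obtain ⟨_, e6, eg⟩ := uge76_unique (hmem _ _ _ _) (hmem _ _ _ _) e
  have eg' : X 8 (torChar chevG2 (cw m (w : K)) 8 * (t ^ (3 ^ m + 1) + u ^ 3 ^ m)) *
      X 9 (torChar chevG2 (cw m (w : K)) 9 * (t ^ (2 * 3 ^ m + 1) + v ^ 3 ^ m)) *
      (X 10 (torChar chevG2 (cw m (w : K)) 10 * u) * X 11 (torChar chevG2 (cw m (w : K)) 11 * v)) =
      X 8 (t' ^ (3 ^ m + 1) + u' ^ 3 ^ m) * X 9 (t' ^ (2 * 3 ^ m + 1) + v' ^ 3 ^ m) *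
        (X 10 u' * X 11 v') := by
    simpa only [mul_assoc] using eg
  obtain ⟨_, _, e10, e11⟩ := uge8_unique eg'
  rw [torChar_cw_11] at e11
  rw [e0, e6, e10, e11]

end ReeCtx

end Cfsg.Agent.Helper6.Ree
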