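import Mathlib
import Cfsg.Agent.Helper6.Ree.G2Gen1

set_option autoImplicit false
set_option linter.unusedSectionVars false
set_option linter.unusedVariables false
set_option linter.unusedSimpArgs false

/-!
`²G₂(3^{2m+1})`, `m ≥ 1`, is generated by two elements: a generator `h(ζ)` of the torus and
`reeU 1 0 0 * n₀`.
-/

namespace Cfsg.Agent.Helper6.Ree

open Cfsg.Lie Cfsg.Agent.Helper6

/-- every element of a finite field of odd order is a sum of two squares -/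
theorem sq_add_sq_field {K : Type*} [Field K] [Fintype K] (hodd : Fintype.card K % 2 = 1) (x : K) :
    ∃ a b : K, a ^ 2 + b ^ 2 = x := by
  obtain ⟨a, b, hab⟩ : ∃ a b, (Polynomial.X ^ 2 : Polynomial K).eval a +
      (Polynomial.X ^ 2 - Polynomial.C x : Polynomial K).eval b = 0 :=
    FiniteField.exists_root_sum_quadratic (Polynomial.degree_X_pow 2)
      (Polynomial.degree_X_pow_sub_C (by decide) _) hodd
  refine ⟨a, b, ?_⟩
  rw [← sub_eq_zero]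
  simpa only [Polynomial.eval_C, Polynomial.eval_X, Polynomial.eval_pow, Polynomial.eval_sub,
    ← add_sub_assoc] using hab

variable {K : Type*} [Field K] {m : ℕ}

/-- the character on `x_b` is onto -/
theorem chi6_pow [Fintype K] (hK : Fintype.card K = 3 ^ (2 * m + 1)) (s : Kˣ) :
    torChar chevG2 (cw m ((s ^ (3 * 3 ^ m + 2) : Kˣ) : K)) 6 = (s : K) := by
  rw [torChar_g2]
  have h1 : chevG2.cartan 0 6 = -3 := by decide
  have h2 : chevG2.cartan 1 6 = 2 := by decide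
  rw [h1, h2]
  unfold cw
  simp only [if_true, one_ne_zero, if_false]
  rw [Units.val_pow_eq_pow_val]
  have hs0 : (s : K) ≠ 0 := s.ne_zero
  have hq : (s : K) ^ 3 ^ (2 * m + 1) = s := by rw [← hK]; exact FiniteField.pow_card _
  rw [show (-3 : ℤ) = -((3 : ℕ) : ℤ) from rfl, zpow_neg, zpow_natCast,
    show (2 : ℤ) = ((2 : ℕ) : ℤ) from rfl, zpow_natCast,
    inv_mul_eq_iff_eq_mul₀ (pow_ne_zero _ (pow_ne_zero _ (pow_ne_zero _ hs0)))]
  have e : (((s : K) ^ (3 * 3 ^ m + 2)) ^ 3 ^ m) ^ 3 =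
      (s : K) ^ (6 * 3 ^ m) * ((s : K) ^ 3 ^ (2 * m + 1)) ^ 3 := by ring
  rw [e, hq]
  ring

/-- the character on `x_{3a+b}` takes all squares as values -/
theorem chi10_pow [Fintype K] (hK : Fintype.card K = 3 ^ (2 * m + 1)) (s : Kˣ) :
    torChar chevG2 (cw m ((s ^ (3 * 3 ^ m + 1) : Kˣ) : K)) 10 = (s : K) ^ 2 := by
  rw [torChar_g2]
  have h1 : chevG2.cartan 0 10 = 3 := by decide
  have h2 : chevG2.cartan 1 10 = -1 := by decide
  rw [h1, h2]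
  unfold cw
  simp only [if_true, one_ne_zero, if_false]
  rw [Units.val_pow_eq_pow_val]
  have hs0 : (s : K) ≠ 0 := s.ne_zero
  have hq : (s : K) ^ 3 ^ (2 * m + 1) = s := by rw [← hK]; exact FiniteField.pow_card _
  rw [show (3 : ℤ) = ((3 : ℕ) : ℤ) from rfl, zpow_natCast, zpow_neg_one,
    mul_inv_eq_iff_eq_mul₀ (pow_ne_zero _ hs0)]
  have e : (((s : K) ^ (3 * 3 ^ m + 1)) ^ 3 ^ m) ^ 3 =
      (s : K) ^ (3 * 3 ^ m) * ((s : K) ^ 3 ^ (2 * m + 1)) ^ 3 := by ring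
  rw [e, hq]
  ring

/-- the character on `x_b` at `-1` -/
theorem gen_chi6_neg_one : torChar chevG2 (cw m (((-1 : Kˣ) : Kˣ) : K)) 6 = -1 := by
  have hodd : ((-1 : K)) ^ 3 ^ m = -1 := (Odd.pow (by decide : Odd 3)).neg_one_pow
  rw [torChar_g2]
  unfold cw
  simp only [if_true, one_ne_zero, if_false, Units.val_neg, Units.val_one, hodd]
  have h1 : chevG2.cartan 0 6 = -3 := by decide
  have h2 : chevG2.cartan 1 6 = 2 := by decide
  rw [h1, h2, show (-3 : ℤ) = -((3 : ℕ) : ℤ) from rfl, zpow_neg, zpow_natCast,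
    show (2 : ℤ) = ((2 : ℕ) : ℤ) from rfl, zpow_natCast]
  norm_num

/-- the `3^{m+1}`-th power map is not the identity -/
theorem exists_pow_ne [Fintype K] (hK : Fintype.card K = 3 ^ (2 * m + 1)) (hm : 1 ≤ m) :
    ∃ z : K, z ^ (3 * 3 ^ m) - z ≠ 0 := by
  classical
  obtain ⟨w, hw⟩ := IsCyclic.exists_generator (α := Kˣ)
  have hord : orderOf w = 3 ^ (2 * m + 1) - 1 := by
    rw [orderOf_eq_card_of_forall_mem_zpowers hw, Nat.card_eq_fintype_card, Fintype.card_units, hK]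
  have hθ : 3 ≤ 3 ^ m := by
    calc 3 = 3 ^ 1 := (pow_one 3).symm
      _ ≤ 3 ^ m := Nat.pow_le_pow_right (by norm_num) hm
  have hq : 3 ^ (2 * m + 1) = 3 * (3 ^ m * 3 ^ m) := by ring
  have hlt : 3 * 3 ^ m < 3 ^ (2 * m + 1) - 1 := by
    rw [hq]
    have : 3 * 3 ^ m ≤ 3 ^ m * 3 ^ m := Nat.mul_le_mul_right _ hθ
    omega
  refine ⟨(w : K), fun h => ?_⟩
  have hw0 : (w : K) ≠ 0 := w.ne_zero
  have h1 : (w : K) ^ (3 * 3 ^ m - 1) = 1 := by
    have h3 : (w : K) ^ (3 * 3 ^ m - 1) * (w : K) = 1 * (w : K) := by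
      rw [← pow_succ, Nat.sub_add_cancel (by omega), one_mul]
      exact sub_eq_zero.1 h
    exact mul_right_cancel₀ hw0 h3
  have h2 : w ^ (3 * 3 ^ m - 1) = 1 :=
    Units.ext (by rw [Units.val_pow_eq_pow_val, h1, Units.val_one])
  have := Nat.le_of_dvd (by omega) (orderOf_dvd_of_pow_eq_one h2)
  omega

namespace ReeCtx

variable (C : ReeCtx K m)
include C

section gen

variable [Fintype K] (hK : Fintype.card K = 3 ^ (2 * m + 1))
  (T : Subgroup (GL chevG2.Idx K)) (hT : ∀ w : Kˣ, hwHom K m w ∈ T)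
include hK hT

/-- torus conjugates -/
theorem gen_conj (w : Kˣ) {t u v : K} (h : reeU m t u v ∈ T) :
    reeU m (torChar chevG2 (cw m (w : K)) 6 * t) (torChar chevG2 (cw m (w : K)) 10 * u)
      ((w : K) * v) ∈ T := by
  rw [← C.hw_conj_reeU hK w t u v]
  exact Subgroup.mul_mem _ (Subgroup.mul_mem _ (hT w) h) (Subgroup.inv_mem _ (hT w))

/-- all `t`-coordinates occur -/
theorem gen_t {t₁ u₁ v₁ : K} (ht₁ : t₁ ≠ 0) (hx : reeU m t₁ u₁ v₁ ∈ T) (t : K) :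
    ∃ u v : K, reeU m t u v ∈ T := by
  by_cases ht : t = 0
  · refine ⟨0, 0, ?_⟩
    rw [ht, reeU_000]; exact Subgroup.one_mem _
  · have hs : t / t₁ ≠ 0 := div_ne_zero ht ht₁
    have h := C.gen_conj hK T hT ((Units.mk0 (t / t₁) hs) ^ (3 * 3 ^ m + 2)) hx
    rw [chi6_pow hK, Units.val_mk0, div_mul_cancel₀ _ ht₁] at h
    exact ⟨_, _, h⟩

/-- the centre of `U¹` -/
theorem gen_v {t₁ u₁ v₁ : K} (ht₁ : t₁ ≠ 0) (hx : reeU m t₁ u₁ v₁ ∈ T) (v : K) :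
    reeU m 0 0 v ∈ T := by
  have := C.char3
  obtain ⟨u, v', h1⟩ := C.gen_t hK T hT ht₁ hx 1
  have h3 : reeU m (0 : K) 0 (-1) ∈ T := by
    have hc := reeU_cube (m := m) (1 : K) u v'
    have hodd : Odd (3 ^ m) := Odd.pow (by decide)
    rw [reeU_00v, hodd.neg_one_pow]
    simp only [one_pow, mul_one] at hc
    rw [← hc]
    exact Subgroup.mul_mem _ (Subgroup.mul_mem _ h1 h1) h1
  by_cases hv : v = 0
  · rw [hv, reeU_000]; exact Subgroup.one_mem _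
  · have h := C.gen_conj hK T hT (Units.mk0 (-v) (neg_ne_zero.2 hv)) h3
    rw [mul_zero, mul_zero, Units.val_mk0, mul_neg, mul_one, neg_neg] at h
    exact h

/-- the middle layer of `U¹` -/
theorem gen_u (hm : 1 ≤ m) {t₁ u₁ v₁ : K} (ht₁ : t₁ ≠ 0) (hx : reeU m t₁ u₁ v₁ ∈ T) (u : K) :
    ∃ v : K, reeU m 0 u v ∈ T := by
  have := C.char3
  have h0 : ∃ v : K, reeU m 0 0 v ∈ T := ⟨0, by rw [reeU_000]; exact Subgroup.one_mem _⟩
  have hadd : ∀ a b : K, (∃ v : K, reeU m 0 a v ∈ T) → (∃ v : K, reeU m 0 b v ∈ T) →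
      ∃ v : K, reeU m 0 (a + b) v ∈ T := by
    rintro a b ⟨v, hv⟩ ⟨v', hv'⟩
    obtain ⟨v'', e⟩ := C.reeU_mul 0 a v 0 b v'
    rw [zero_mul, sub_zero, add_zero] at e
    exact ⟨v'', e ▸ Subgroup.mul_mem _ hv hv'⟩
  have hsq : ∀ a s : K, (∃ v : K, reeU m 0 a v ∈ T) → ∃ v : K, reeU m 0 (s ^ 2 * a) v ∈ T := by
    rintro a s ⟨v, hv⟩
    by_cases hs : s = 0
    · rw [hs, zero_pow (by norm_num), zero_mul]; exact h0
    · have h := C.gen_conj hK T hT ((Units.mk0 s hs) ^ (3 * 3 ^ m + 1)) hv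
      rw [chi10_pow hK, Units.val_mk0, mul_zero] at h
      exact ⟨_, h⟩
  -- a commutator
  obtain ⟨z, hz⟩ := exists_pow_ne (K := K) hK hm
  have ha₀ : ∃ v : K, reeU m 0 (z ^ (3 * 3 ^ m) - z) v ∈ T := by
    obtain ⟨a, b, hx₁⟩ := C.gen_t hK T hT ht₁ hx z
    obtain ⟨a', b', hy₁⟩ := C.gen_t hK T hT ht₁ hx 1
    obtain ⟨v₁', e₁⟩ := C.reeU_mul z a b 1 a' b'
    obtain ⟨v₂', e₂⟩ := C.reeU_mul 1 a' b' z a b
    obtain ⟨c, hc⟩ := C.reeU_div (1 + z) (a' + a - 1 * z ^ (3 * 3 ^ m)) v₂' (z + 1)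
      (a + a' - z * 1 ^ (3 * 3 ^ m)) v₁'
    have h00 : z + 1 - (1 + z) = 0 := by ring
    rw [h00, zero_pow (by positivity), mul_zero, add_zero] at hc
    have h01 : a + a' - z * 1 ^ (3 * 3 ^ m) - (a' + a - 1 * z ^ (3 * 3 ^ m)) =
        z ^ (3 * 3 ^ m) - z := by rw [one_pow]; ring
    rw [h01, ← e₁, ← e₂] at hc
    refine ⟨c, ?_⟩
    rw [← hc]
    exact Subgroup.mul_mem _ (Subgroup.inv_mem _ (Subgroup.mul_mem _ hy₁ hx₁))
      (Subgroup.mul_mem _ hx₁ hy₁)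
  have hodd : Fintype.card K % 2 = 1 := by
    rw [hK, Nat.pow_mod]; norm_num
  obtain ⟨s₁, s₂, hs⟩ := sq_add_sq_field hodd (u / (z ^ (3 * 3 ^ m) - z))
  have e : u = s₁ ^ 2 * (z ^ (3 * 3 ^ m) - z) + s₂ ^ 2 * (z ^ (3 * 3 ^ m) - z) := by
    rw [← add_mul, hs, div_mul_cancel₀ _ hz]
  rw [e]
  exact hadd _ _ (hsq _ _ ha₀) (hsq _ _ ha₀)

/-- a subgroup containing the torus and an element of `U¹` with `t ≠ 0` contains `U¹` -/
theorem gen_U (hm : 1 ≤ m) {t₁ u₁ v₁ : K} (ht₁ : t₁ ≠ 0) (hx : reeU m t₁ u₁ v₁ ∈ T) (t u v : K) :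
    reeU m t u v ∈ T := by
  have := C.char3
  obtain ⟨a, b, h1⟩ := C.gen_t hK T hT ht₁ hx t
  obtain ⟨c, h2⟩ := C.gen_u hK T hT hm ht₁ hx (u - a)
  obtain ⟨v'', e⟩ := C.reeU_mul t a b 0 (u - a) c
  rw [zero_pow (by positivity), mul_zero, sub_zero, add_zero, add_sub_cancel] at e
  have h3 : reeU m t u v'' ∈ T := e ▸ Subgroup.mul_mem _ h1 h2
  obtain ⟨c', e'⟩ := C.reeU_div t u v'' t u v
  rw [sub_self, sub_self, zero_pow (by positivity), mul_zero, add_zero] at e'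
  have h4 := C.gen_v hK T hT ht₁ hx c'
  rw [← e'] at h4
  have := Subgroup.mul_mem _ h3 h4
  rwa [mul_inv_cancel_left] at this

end gen

/-- two generators of `²G₂(q)` -/
theorem two_gen [Fintype K] (hK : Fintype.card K = 3 ^ (2 * m + 1)) (hm : 1 ≤ m) :
    ∃ a b : GL chevG2.Idx K, a ∈ twistedG2 K (3 ^ m) ∧ b ∈ twistedG2 K (3 ^ m) ∧
      twistedG2 K (3 ^ m) ≤ Subgroup.closure {a, b} := by
  classical
  have := C.char3
  have Δ := bn2 (K := K)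
  obtain ⟨ζ, hζ⟩ := IsCyclic.exists_generator (α := Kˣ)
  set u₀ := reeU m (1 : K) 0 0 with hu₀
  refine ⟨hwHom K m ζ, u₀ * n0 K m, C.hw_mem_twisted hK ζ,
    Subgroup.mul_mem _ (reeU_mem_twisted _ _ _) n0_mem_twisted, ?_⟩
  set T := Subgroup.closure {hwHom K m ζ, u₀ * n0 K m} with hTdef
  have ha : hwHom K m ζ ∈ T := Subgroup.subset_closure (by simp)
  have hb : u₀ * n0 K m ∈ T := Subgroup.subset_closure (by simp)
  -- the torus
  have hT : ∀ w : Kˣ, hwHom K m w ∈ T := by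
    intro w
    obtain ⟨k, rfl⟩ := Subgroup.mem_zpowers_iff.1 (hζ w)
    rw [map_zpow]
    exact Subgroup.zpow_mem _ ha k
  have hH : ∀ h ∈ chevG2.diagonalSubgroup K ⊓ twistedG2 K (3 ^ m), h ∈ T := by
    intro h hh
    rw [C.H_inf_twisted hK, ← C.range_hwHom] at hh
    obtain ⟨w, rfl⟩ := hh
    exact hT w
  -- conjugates of the torus by `u₀`
  have hconj : ∀ h ∈ chevG2.diagonalSubgroup K ⊓ twistedG2 K (3 ^ m), u₀ * h * u₀⁻¹ ∈ T := by
    intro h hh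
    have h1 := hH _ (C.n0_inv_conj_H1 hh)
    have e : u₀ * h * u₀⁻¹ = (u₀ * n0 K m) * ((n0 K m)⁻¹ * h * n0 K m) * (u₀ * n0 K m)⁻¹ := by
      group
    rw [e]
    exact Subgroup.mul_mem _ (Subgroup.mul_mem _ hb h1) (Subgroup.inv_mem _ hb)
  -- an element of `U¹` with `t ≠ 0`
  have hneg : hwHom K m (-1) ∈ chevG2.diagonalSubgroup K ⊓ twistedG2 K (3 ^ m) :=
    ⟨hwHom_mem_H _, C.hw_mem_twisted hK _⟩
  have hx₁ : u₀ * (hwHom K m (-1) * u₀ * (hwHom K m (-1))⁻¹)⁻¹ ∈ T := by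
    have e : u₀ * (hwHom K m (-1) * u₀ * (hwHom K m (-1))⁻¹)⁻¹ =
        (u₀ * hwHom K m (-1) * u₀⁻¹) * (hwHom K m (-1))⁻¹ := by group
    rw [e]
    exact Subgroup.mul_mem _ (hconj _ hneg) (Subgroup.inv_mem _ (hT _))
  rw [hu₀, C.hw_conj_reeU hK, gen_chi6_neg_one, mul_zero, mul_zero, mul_one] at hx₁
  obtain ⟨t₁, u₁, v₁, e₁⟩ := C.mem_U_inf_Fix.1 (Subgroup.mul_mem _
    (C.mem_U_inf_Fix.2 ⟨1, 0, 0, rfl⟩)
    (Subgroup.inv_mem _ (C.mem_U_inf_Fix.2 ⟨-1, 0, 0, rfl⟩)))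
  have ht₁ : t₁ ≠ 0 := by
    obtain ⟨v'', e₂⟩ := C.reeU_mul t₁ u₁ v₁ (-1) 0 0
    rw [← e₁, inv_mul_cancel_right] at e₂
    obtain ⟨h1, _, _⟩ := reeU_inj e₂
    intro h0
    rw [h0, zero_add] at h1
    have h3 : (3 : K) = 0 := three_eq_zero
    have : (1 : K) = 0 := by linear_combination (-1 : K) * h1 + h3
    exact one_ne_zero this
  rw [e₁] at hx₁
  have hU : ∀ t u v : K, reeU m t u v ∈ T := C.gen_U hK T hT hm ht₁ hx₁
  -- `B¹` and `n₀`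
  have hB : ∀ b ∈ chevG2.borelSubgroup K ⊓ twistedG2 K (3 ^ m), b ∈ T := by
    intro b hb
    obtain ⟨u, hu, h, hh, rfl⟩ := C.borel_inf hb
    rw [C.U_inf_twisted] at hu
    obtain ⟨t, u', v, rfl⟩ := C.mem_U_inf_Fix.1 hu
    exact Subgroup.mul_mem _ (hU _ _ _) (hH _ hh)
  have hn : n0 K m ∈ T := by
    have e : n0 K m = u₀⁻¹ * (u₀ * n0 K m) := by group
    rw [e]
    exact Subgroup.mul_mem _ (Subgroup.inv_mem _ (hU _ _ _)) hb
  intro g hg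
  rcases C.cells hg with h | ⟨b, hb', u, hu, rfl⟩
  · exact hB _ h
  · rw [C.U_inf_twisted] at hu
    obtain ⟨t, u', v, rfl⟩ := C.mem_U_inf_Fix.1 hu
    exact Subgroup.mul_mem _ (Subgroup.mul_mem _ (hB _ hb') hn) (hU _ _ _)

end ReeCtx

end Cfsg.Agent.Helper6.Ree
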