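import Mathlib
import Cfsg.Agent.Helper6.Ree.G2Inv3

set_option autoImplicit false
set_option linter.unusedSectionVars false
set_option linter.unusedVariables false
set_option linter.unusedSimpArgs false

/-!
The centraliser of an involution of `²G₂(K)` is isomorphic to `Z₂ × PSL₂(K)`.
-/

namespace Cfsg.Agent.Helper6.Ree

open Cfsg.Lie Cfsg.Agent.Helper6 Cfsg.Agent.Helper2.St2F Cfsg.Agent.Helper2.ChevSL2

variable {K : Type*} [Field K] {m : ℕ}

/-- the homomorphism from the group of order `2` defined by an involution -/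
theorem exists_zmod2_hom {G : Type*} [Group G] (a : G) (ha : a * a = 1) :
    ∃ f : Multiplicative (ZMod 2) →* G, f (Multiplicative.ofAdd 1) = a ∧ ∀ x, f x = 1 ∨ f x = a := by
  classical
  have hx : ∀ x : Multiplicative (ZMod 2), x = 1 ∨ x = Multiplicative.ofAdd 1 := by decide
  let f : Multiplicative (ZMod 2) → G := fun x => if x = 1 then 1 else a
  have hne : (Multiplicative.ofAdd (1 : ZMod 2)) ≠ 1 := by decide
  have f1 : f 1 = 1 := if_pos rfl
  have fa : f (Multiplicative.ofAdd 1) = a := if_neg hne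
  have hsq : (Multiplicative.ofAdd (1 : ZMod 2)) * Multiplicative.ofAdd 1 = 1 := by decide
  refine ⟨{ toFun := f, map_one' := f1, map_mul' := ?_ }, fa, ?_⟩
  · intro x y
    rcases hx x with rfl | rfl <;> rcases hx y with rfl | rfl
    · rw [one_mul, f1, one_mul]
    · rw [one_mul, f1, one_mul]
    · rw [mul_one, f1, mul_one]
    · rw [hsq, f1, fa, ha]
  · intro x
    rcases hx x with rfl | rfl
    · left; exact f1
    · right; exact fa

/-- two injective homomorphisms with the same range have isomorphic sources -/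
theorem mulEquiv_of_range_eq {A B M : Type*} [Group A] [Group B] [Group M] (f : A →* M) (g : B →* M)
    (hf : Function.Injective f) (hg : Function.Injective g) (h : f.range = g.range) :
    Nonempty (A ≃* B) :=
  ⟨(MonoidHom.ofInjective hf).trans ((MulEquiv.subgroupCongr h).trans (MonoidHom.ofInjective hg).symm)⟩

namespace ReeCtx

variable (C : ReeCtx K m)
include C

/-- the involution of `H¹` -/
theorem involution_eq [Fintype K] (hK : Fintype.card K = 3 ^ (2 * m + 1)) {a : GL chevG2.Idx K}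
    (ha : a ∈ chevG2.diagonalSubgroup K ⊓ twistedG2 K (3 ^ m)) (ha1 : a ≠ 1) (ha2 : a * a = 1) :
    a = hwHom K m (-1) := by
  rw [C.H_inf_twisted hK, ← C.range_hwHom] at ha
  obtain ⟨w, rfl⟩ := ha
  rw [← map_mul] at ha2
  have hw : w * w = 1 := hwHom_injective (by rw [ha2, map_one])
  rcases units_sq_eq_one (u := w) (by rw [sq]; exact hw) with rfl | rfl
  · exact absurd (map_one _) ha1
  · rfl

end ReeCtx

namespace InvHom

variable (Φ : InvHom K m)

/-- `⟨h(-1)⟩ φ(SL₂(K))` is the centraliser of `h(-1)` in `G¹` -/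
theorem mem_L_iff_cent [Fintype K] (C : ReeCtx K m) (hK : Fintype.card K = 3 ^ (2 * m + 1))
    {g : GL chevG2.Idx K} :
    g ∈ Φ.L ↔ g ∈ twistedG2 K (3 ^ m) ∧ hwHom K m (-1) * g = g * hwHom K m (-1) := by
  constructor
  · intro hg
    have hcomm : ∀ x ∈ Φ.φ.range, x ∈ twistedG2 K (3 ^ m) ∧
        hwHom K m (-1) * x = x * hwHom K m (-1) := by
      rintro x ⟨z, rfl⟩
      exact ⟨Φ.mem_twisted z, (Φ.comm_neg_one z).eq⟩
    rcases (Φ.mem_L_iff C).1 hg with h | ⟨x, hx, rfl⟩
    · exact hcomm g h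
    · obtain ⟨h1, h2⟩ := hcomm x hx
      refine ⟨Subgroup.mul_mem _ (C.hw_mem_twisted hK _) h1, ?_⟩
      rw [mul_assoc, h2]
  · rintro ⟨h1, h2⟩
    exact Φ.cent_le_L C hK h1 (mul_inv_eq_iff_eq_mul.2 h2)

include Φ in
/-- the centraliser of the involution -/
theorem centralizer_iso [Fintype K] (C : ReeCtx K m) (hK : Fintype.card K = 3 ^ (2 * m + 1))
    (a : ↥(twistedG2 K (3 ^ m))) (ha : (a : GL chevG2.Idx K) = hwHom K m (-1)) :
    Nonempty (↥(Subgroup.centralizer {a}) ≃*
      Multiplicative (ZMod 2) × Matrix.ProjectiveSpecialLinearGroup (Fin 2) K) := by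
  have := C.char3
  have hker := Φ.ker_eq C hK
  -- the induced map on `PSL₂`
  let φ' : Matrix.ProjectiveSpecialLinearGroup (Fin 2) K →* GL chevG2.Idx K :=
    QuotientGroup.lift (Subgroup.center (Matrix.SpecialLinearGroup (Fin 2) K)) Φ.φ (by rw [hker])
  have hφ' : ∀ x : Matrix.SpecialLinearGroup (Fin 2) K, φ' (QuotientGroup.mk x) = Φ.φ x := fun x => rfl
  have hφ'inj : ∀ y, φ' y = 1 → y = 1 := by
    intro y hy
    obtain ⟨x, rfl⟩ := QuotientGroup.mk_surjective y
    rw [hφ'] at hy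
    have : x ∈ Φ.φ.ker := hy
    rw [hker] at this
    exact (QuotientGroup.eq_one_iff x).2 this
  -- the map on the group of order `2`
  have hsq : hwHom K m (-1) * hwHom K m (-1) = 1 := by
    rw [← map_mul]; simp
  obtain ⟨ζ, hζ1, hζ⟩ := exists_zmod2_hom (hwHom K m (-1)) hsq
  have hζinj : ∀ z, ζ z = 1 → z = 1 := by
    intro z hz
    have hx : ∀ x : Multiplicative (ZMod 2), x = 1 ∨ x = Multiplicative.ofAdd 1 := by decide
    rcases hx z with rfl | rfl
    · rfl
    · rw [hζ1] at hz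
      exact absurd hz C.hw_neg_one_ne_one
  have comm : ∀ z y, Commute (ζ z) (φ' y) := by
    intro z y
    obtain ⟨x, rfl⟩ := QuotientGroup.mk_surjective y
    rw [hφ']
    rcases hζ z with h | h
    · rw [h]; exact Commute.one_left _
    · rw [h]; exact Φ.comm_neg_one x
  let Ψ : Multiplicative (ZMod 2) × Matrix.ProjectiveSpecialLinearGroup (Fin 2) K →* GL chevG2.Idx K :=
    MonoidHom.noncommCoprod ζ φ' comm
  have hΨ : ∀ z y, Ψ (z, y) = ζ z * φ' y := fun z y => rfl
  have hΨinj : Function.Injective Ψ := by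
    rw [injective_iff_map_eq_one]
    rintro ⟨z, y⟩ h
    rw [hΨ] at h
    obtain ⟨x, rfl⟩ := QuotientGroup.mk_surjective y
    rcases hζ z with h1 | h1
    · rw [h1, one_mul] at h
      rw [hζinj z h1, hφ'inj _ h]
      rfl
    · exfalso
      rw [h1, hφ'] at h
      apply Φ.neg_one_not_mem_range C hK
      refine ⟨x⁻¹, ?_⟩
      rw [map_inv]
      exact inv_eq_of_mul_eq_one_left h
  -- the inclusion of the centraliser
  let ι : ↥(Subgroup.centralizer {a}) →* GL chevG2.Idx K :=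
    (twistedG2 K (3 ^ m)).subtype.comp (Subgroup.centralizer {a}).subtype
  have hι : ∀ x : ↥(Subgroup.centralizer {a}), ι x = ((x : ↥(twistedG2 K (3 ^ m))) : GL chevG2.Idx K) :=
    fun x => rfl
  have hιinj : Function.Injective ι := by
    intro x y h
    rw [hι, hι] at h
    exact Subtype.ext (Subtype.ext h)
  apply mulEquiv_of_range_eq ι Ψ hιinj hΨinj
  ext g
  constructor
  · rintro ⟨x, rfl⟩
    have hx := x.2
    rw [Subgroup.mem_centralizer_singleton_iff] at hx
    have hx' : ((x : ↥(twistedG2 K (3 ^ m))) : GL chevG2.Idx K) * hwHom K m (-1) =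
        hwHom K m (-1) * ((x : ↥(twistedG2 K (3 ^ m))) : GL chevG2.Idx K) := by
      rw [← ha]
      exact congrArg Subtype.val hx
    have hL : ι x ∈ Φ.L := (Φ.mem_L_iff_cent C hK).2 ⟨(x : ↥(twistedG2 K (3 ^ m))).2, hx'.symm⟩
    rcases (Φ.mem_L_iff C).1 hL with ⟨y, hy⟩ | ⟨_, ⟨y, rfl⟩, hy⟩
    · refine ⟨(1, QuotientGroup.mk y), ?_⟩
      rw [hΨ, map_one, one_mul, hφ', hy]
    · refine ⟨(Multiplicative.ofAdd 1, QuotientGroup.mk y), ?_⟩
      rw [hΨ, hζ1, hφ', hy]
  · rintro ⟨⟨z, y⟩, rfl⟩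
    obtain ⟨x, rfl⟩ := QuotientGroup.mk_surjective y
    have hL : Ψ (z, QuotientGroup.mk x) ∈ Φ.L := by
      rw [hΨ, hφ']
      rcases hζ z with h1 | h1
      · rw [h1, one_mul]; exact Φ.range_le_L ⟨x, rfl⟩
      · rw [h1]; exact Subgroup.mul_mem _ Φ.neg_one_mem_L (Φ.range_le_L ⟨x, rfl⟩)
    obtain ⟨h1, h2⟩ := (Φ.mem_L_iff_cent C hK).1 hL
    refine ⟨⟨⟨_, h1⟩, ?_⟩, rfl⟩
    rw [Subgroup.mem_centralizer_singleton_iff]
    apply Subtype.ext
    show Ψ (z, QuotientGroup.mk x) * (a : GL chevG2.Idx K) = (a : GL chevG2.Idx K) * Ψ (z, QuotientGroup.mk x)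
    rw [ha]
    exact h2.symm

end InvHom

end Cfsg.Agent.Helper6.Ree
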