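import Mathlib
import Cfsg.Agent.Helper6.Ree.G2Inv4

set_option autoImplicit false
set_option linter.unusedSectionVars false
set_option linter.unusedVariables false
set_option linter.unusedSimpArgs false

/-!
The Sylow `2`-subgroups of `²G₂(K)` are elementary abelian of order `8`.
-/

namespace Cfsg.Agent.Helper6.Ree

open Cfsg.Lie Cfsg.Agent.Helper6 Cfsg.Agent.Helper2.St2F Cfsg.Agent.Helper2.ChevSL2

/-- the `2`-part of the order of `²G₂(3^{2m+1})` is `8` -/
theorem card_ree_two_part (m : ℕ) :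
    ∃ r, Odd r ∧ (3 ^ (2 * m + 1)) ^ 3 * (3 ^ (2 * m + 1) - 1) * ((3 ^ (2 * m + 1)) ^ 3 + 1) = 8 * r := by
  have h : 3 ^ (2 * m + 1) = 3 * 9 ^ m := by
    rw [pow_succ, pow_mul]; norm_num; ring
  have h9 : 9 ^ m % 8 = 1 := by
    rw [Nat.pow_mod]; norm_num
  obtain ⟨k, hk⟩ : ∃ k, 3 ^ (2 * m + 1) = 8 * k + 3 := ⟨3 ^ (2 * m + 1) / 8, by omega⟩
  rw [hk]
  refine ⟨(8 * k + 3) ^ 3 * (4 * k + 1) * ((2 * k + 1) * ((8 * k + 3) * (8 * k + 2) + 1)), ?_, ?_⟩
  · apply Odd.mul
    · apply Odd.mul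
      · exact Odd.pow ⟨4 * k + 1, by ring⟩
      · exact ⟨2 * k, by ring⟩
    · apply Odd.mul
      · exact ⟨k, by ring⟩
      · exact ⟨(8 * k + 3) * (4 * k + 1), by ring⟩
  · have e : 8 * k + 3 - 1 = 8 * k + 2 := by omega
    rw [e]
    ring

/-- a Klein four-group from two commuting involutions -/
theorem exists_four {G : Type*} [Group G] (b c : G) (hb : b * b = 1) (hc : c * c = 1)
    (hbc : b * c = c * b) (h1 : b ≠ 1) (h2 : c ≠ 1) (h3 : b * c ≠ 1) :
    ∃ f : Multiplicative (ZMod 2) × Multiplicative (ZMod 2) →* G, Function.Injective f := by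
  obtain ⟨ω, hω1, hω⟩ := exists_zmod2_hom b hb
  obtain ⟨ξ, hξ1, hξ⟩ := exists_zmod2_hom c hc
  have hx : ∀ x : Multiplicative (ZMod 2), x = 1 ∨ x = Multiplicative.ofAdd 1 := by decide
  have comm : ∀ j k, Commute (ω j) (ξ k) := by
    intro j k
    rcases hω j with h | h <;> rcases hξ k with h' | h'
    · rw [h]; exact Commute.one_left _
    · rw [h]; exact Commute.one_left _
    · rw [h']; exact Commute.one_right _
    · rw [h, h']; exact hbc
  refine ⟨MonoidHom.noncommCoprod ω ξ comm, ?_⟩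
  rw [injective_iff_map_eq_one]
  rintro ⟨j, k⟩ h
  have h' : ω j * ξ k = 1 := h
  rcases hx j with rfl | rfl <;> rcases hx k with rfl | rfl
  · rfl
  · rw [map_one ω, one_mul, hξ1] at h'; exact absurd h' h2
  · rw [map_one ξ, mul_one, hω1] at h'; exact absurd h' h1
  · rw [hω1, hξ1] at h'; exact absurd h' h3

/-- an elementary abelian subgroup of order `8` -/
theorem exists_subgroup_eight {G : Type*} [Group G]
    (f : Multiplicative (ZMod 2) × Multiplicative (ZMod 2) →* G) (hf : Function.Injective f) :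
    ∃ E : Subgroup (Multiplicative (ZMod 2) × G), Nat.card E = 8 ∧ ∀ x ∈ E, x * x = 1 := by
  let F : Multiplicative (ZMod 2) × (Multiplicative (ZMod 2) × Multiplicative (ZMod 2)) →*
      Multiplicative (ZMod 2) × G := MonoidHom.prodMap (MonoidHom.id _) f
  have hF : Function.Injective F := Function.Injective.prodMap Function.injective_id hf
  refine ⟨F.range, ?_, ?_⟩
  · rw [← Nat.card_congr (MonoidHom.ofInjective hF).toEquiv]
    simp [Nat.card_eq_fintype_card]
  · rintro _ ⟨y, rfl⟩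
    rw [← map_mul]
    have : ∀ y : Multiplicative (ZMod 2) × (Multiplicative (ZMod 2) × Multiplicative (ZMod 2)),
        y * y = 1 := by decide
    rw [this, map_one]

/-- the image of an elementary abelian subgroup under an injective homomorphism -/
theorem map_subgroup_eight {A G : Type*} [Group A] [Group G] (j : A →* G) (hj : Function.Injective j)
    (E : Subgroup A) (hE : Nat.card E = 8) (hexp : ∀ x ∈ E, x * x = 1) :
    ∃ E' : Subgroup G, Nat.card E' = 8 ∧ ∀ x ∈ E', x * x = 1 := by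
  refine ⟨E.map j, ?_, ?_⟩
  · rw [Subgroup.card_map_of_injective hj, hE]
  · rintro _ ⟨y, hy, rfl⟩
    rw [← map_mul, hexp y hy, map_one]

/-- the Sylow `2`-subgroups of a group of order `8 r`, `r` odd, with an elementary abelian subgroup
of order `8` -/
theorem sylow_two_of_subgroup_eight {G : Type*} [Group G] [Finite G] (E : Subgroup G)
    (hE : Nat.card E = 8) (hexp : ∀ x ∈ E, x * x = 1) {r : ℕ} (hr : Odd r) (hG : Nat.card G = 8 * r)
    (S : Sylow 2 G) : Nat.card S = 8 ∧ ∀ x ∈ S, x * x = 1 := by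
  have : Fact (Nat.Prime 2) := ⟨Nat.prime_two⟩
  have hr0 : r ≠ 0 := by
    rintro rfl
    exact (by decide : ¬ Odd 0) hr
  have hfac : (Nat.card G).factorization 2 = 3 := by
    rw [hG, show (8 : ℕ) = 2 ^ 3 by norm_num, Nat.factorization_mul (by norm_num) hr0,
      Nat.Prime.factorization_pow Nat.prime_two]
    have : r.factorization 2 = 0 := by
      apply Nat.factorization_eq_zero_of_not_dvd
      rw [Nat.two_dvd_ne_zero]
      exact Nat.odd_iff.1 hr
    simp [this]
  have hcard : ∀ Q : Sylow 2 G, Nat.card Q = 8 := by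
    intro Q
    rw [Sylow.card_eq_multiplicity, hfac]
    norm_num
  refine ⟨hcard S, ?_⟩
  have hEp : IsPGroup 2 E := IsPGroup.of_card (n := 3) (by rw [hE]; norm_num)
  obtain ⟨Q, hQ⟩ := hEp.exists_le_sylow
  have hEQ : E = (Q : Subgroup G) := by
    apply Subgroup.eq_of_le_of_card_ge hQ
    rw [hcard Q, hE]
  obtain ⟨g, rfl⟩ := MulAction.exists_smul_eq G Q S
  intro x hx
  have hx' : x ∈ ((g • Q : Sylow 2 G) : Subgroup G) := hx
  rw [Sylow.coe_subgroup_smul, Subgroup.mem_pointwise_smul_iff_inv_smul_mem,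
    MulAut.smul_def, MulAut.conj_inv_apply] at hx'
  rw [← hEQ] at hx'
  have h1 := hexp _ hx'
  have : x * x = g * ((g⁻¹ * x * g) * (g⁻¹ * x * g)) * g⁻¹ := by group
  rw [this, h1]
  group

section psl

variable {K : Type*} [Field K]

/-- `-1` in `SL₂` -/
def negOneSL (K : Type*) [Field K] : Matrix.SpecialLinearGroup (Fin 2) K :=
  diagSL (neg_ne_zero.2 (one_ne_zero (α := K)))

theorem negOneSL_coe : ((negOneSL K : Matrix.SpecialLinearGroup (Fin 2) K) : Matrix (Fin 2) (Fin 2) K) =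
    !![-1, 0; 0, -1] := by
  unfold negOneSL
  rw [diagSL_coe, inv_neg, inv_one]

theorem negOneSL_mem_center : negOneSL K ∈ Subgroup.center (Matrix.SpecialLinearGroup (Fin 2) K) := by
  rw [Matrix.SpecialLinearGroup.mem_center_iff]
  refine ⟨-1, by rw [Fintype.card_fin]; norm_num, ?_⟩
  rw [negOneSL_coe]
  ext i j
  fin_cases i <;> fin_cases j <;> simp

theorem not_mem_center_of_ne_zero {g : Matrix.SpecialLinearGroup (Fin 2) K}
    (h : (g : Matrix (Fin 2) (Fin 2) K) 0 1 ≠ 0) :
    g ∉ Subgroup.center (Matrix.SpecialLinearGroup (Fin 2) K) := by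
  intro hg
  rw [Matrix.SpecialLinearGroup.mem_center_iff] at hg
  obtain ⟨r, _, hr⟩ := hg
  apply h
  rw [← hr]
  simp

theorem wSL_one_coe : ((wSL (1 : K) : Matrix.SpecialLinearGroup (Fin 2) K) : Matrix (Fin 2) (Fin 2) K) =
    !![0, 1; -1, 0] := by
  rw [wSL_coe one_ne_zero, inv_one]

variable [CharP K 3]

/-- an element of order `4` of `SL₂(K)`, `K` of characteristic `3` -/
def x1SL (K : Type*) [Field K] [CharP K 3] : Matrix.SpecialLinearGroup (Fin 2) K :=
  ⟨!![1, 1; 1, -1], by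
    rw [Matrix.det_fin_two_of]
    have h3 : (3 : K) = 0 := three_eq_zero
    linear_combination (-1 : K) * h3⟩

theorem x1SL_coe : ((x1SL K : Matrix.SpecialLinearGroup (Fin 2) K) : Matrix (Fin 2) (Fin 2) K) =
    !![1, 1; 1, -1] := rfl

theorem wSL_sq : wSL (1 : K) * wSL 1 = negOneSL K := by
  apply Subtype.ext
  rw [Matrix.SpecialLinearGroup.coe_mul, wSL_one_coe, negOneSL_coe, Matrix.mul_fin_two]
  apply Cfsg.Agent.Helper2.St2.mk2_eq <;> ring

theorem x1SL_sq : x1SL K * x1SL K = negOneSL K := by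
  have h3 : (3 : K) = 0 := three_eq_zero
  apply Subtype.ext
  rw [Matrix.SpecialLinearGroup.coe_mul, x1SL_coe, negOneSL_coe, Matrix.mul_fin_two]
  apply Cfsg.Agent.Helper2.St2.mk2_eq
  · linear_combination h3
  · ring
  · ring
  · linear_combination h3

theorem x1_mul_w : x1SL K * wSL 1 = negOneSL K * (wSL 1 * x1SL K) := by
  apply Subtype.ext
  rw [Matrix.SpecialLinearGroup.coe_mul, Matrix.SpecialLinearGroup.coe_mul,
    Matrix.SpecialLinearGroup.coe_mul, x1SL_coe, negOneSL_coe, wSL_one_coe, Matrix.mul_fin_two,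
    Matrix.mul_fin_two, Matrix.mul_fin_two]
  apply Cfsg.Agent.Helper2.St2.mk2_eq <;> ring

theorem w_mul_x1_entry :
    ((wSL (1 : K) * x1SL K : Matrix.SpecialLinearGroup (Fin 2) K) : Matrix (Fin 2) (Fin 2) K) 0 1 = -1 := by
  rw [Matrix.SpecialLinearGroup.coe_mul, x1SL_coe, wSL_one_coe, Matrix.mul_fin_two]
  simp

/-- an elementary abelian subgroup of order `8` of `Z₂ × PSL₂(K)` -/
theorem psl_eight : ∃ E : Subgroup (Multiplicative (ZMod 2) × Matrix.ProjectiveSpecialLinearGroup (Fin 2) K),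
    Nat.card E = 8 ∧ ∀ x ∈ E, x * x = 1 := by
  have hmk : ∀ g : Matrix.SpecialLinearGroup (Fin 2) K,
      (QuotientGroup.mk g : Matrix.ProjectiveSpecialLinearGroup (Fin 2) K) = 1 ↔
        g ∈ Subgroup.center (Matrix.SpecialLinearGroup (Fin 2) K) := fun g => QuotientGroup.eq_one_iff g
  have hneg : (QuotientGroup.mk (negOneSL K) : Matrix.ProjectiveSpecialLinearGroup (Fin 2) K) = 1 :=
    (hmk _).2 negOneSL_mem_center
  obtain ⟨f, hf⟩ := exists_four
    (QuotientGroup.mk (wSL (1 : K)) : Matrix.ProjectiveSpecialLinearGroup (Fin 2) K)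
    (QuotientGroup.mk (x1SL K) : Matrix.ProjectiveSpecialLinearGroup (Fin 2) K)
    (by rw [← QuotientGroup.mk_mul, wSL_sq, hneg])
    (by rw [← QuotientGroup.mk_mul, x1SL_sq, hneg])
    (by
      have h : (QuotientGroup.mk (negOneSL K * (wSL 1 * x1SL K)) :
          Matrix.ProjectiveSpecialLinearGroup (Fin 2) K) = QuotientGroup.mk (wSL 1 * x1SL K) := by
        rw [QuotientGroup.mk_mul, hneg, one_mul]
      rw [← QuotientGroup.mk_mul, ← QuotientGroup.mk_mul, x1_mul_w, h])
    (by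
      rw [Ne, hmk]
      apply not_mem_center_of_ne_zero
      rw [wSL_one_coe]
      simp)
    (by
      rw [Ne, hmk]
      apply not_mem_center_of_ne_zero
      rw [x1SL_coe]
      simp)
    (by
      rw [← QuotientGroup.mk_mul, Ne, hmk]
      apply not_mem_center_of_ne_zero
      rw [w_mul_x1_entry]
      simp)
  exact exists_subgroup_eight f hf

end psl

namespace InvHom

variable {K : Type*} [Field K] {m : ℕ} (Φ : InvHom K m)

include Φ in
/-- the Sylow `2`-subgroups of `²G₂(K)` -/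
theorem sylow_two [Fintype K] (C : ReeCtx K m) (hK : Fintype.card K = 3 ^ (2 * m + 1))
    (S : Sylow 2 ↥(twistedG2 K (3 ^ m))) : Nat.card S = 8 ∧ ∀ x ∈ S, x * x = 1 := by
  have := C.char3
  let a : ↥(twistedG2 K (3 ^ m)) := ⟨hwHom K m (-1), C.hw_mem_twisted hK _⟩
  obtain ⟨e⟩ := Φ.centralizer_iso C hK a rfl
  obtain ⟨E, hE, hexp⟩ := psl_eight (K := K)
  let j : Multiplicative (ZMod 2) × Matrix.ProjectiveSpecialLinearGroup (Fin 2) K →*
      ↥(twistedG2 K (3 ^ m)) := (Subgroup.centralizer {a}).subtype.comp e.symm.toMonoidHom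
  have hj : Function.Injective j := by
    intro x y h
    exact e.symm.injective (Subtype.ext h)
  obtain ⟨E', hE', hexp'⟩ := map_subgroup_eight j hj E hE hexp
  obtain ⟨r, hr, hG⟩ := card_ree_two_part m
  exact sylow_two_of_subgroup_eight E' hE' hexp' hr (by rw [C.card_ree hK, hG]) S

end InvHom

end Cfsg.Agent.Helper6.Ree
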