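import Mathlib
import Cfsg.Agent.Helper6.Ree.G2Inv5

set_option autoImplicit false
set_option linter.unusedSectionVars false
set_option linter.unusedVariables false
set_option linter.unusedSimpArgs false

/-!
The Klein four-group of `PSL₂(K)`, `K` of characteristic `3`: its centraliser, and an element of order
`3` normalising it (computations in `SL₂(K)`).
-/

namespace Cfsg.Agent.Helper6.Ree

open Cfsg.Lie Cfsg.Agent.Helper6 Cfsg.Agent.Helper2.St2F Cfsg.Agent.Helper2.ChevSL2

variable {K : Type*} [Field K]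

theorem mk2_inj {a b c d a' b' c' d' : K} (h : !![a, b; c, d] = !![a', b'; c', d']) :
    a = a' ∧ b = b' ∧ c = c' ∧ d = d' := by
  refine ⟨?_, ?_, ?_, ?_⟩
  · simpa using congrFun (congrFun h 0) 0
  · simpa using congrFun (congrFun h 0) 1
  · simpa using congrFun (congrFun h 1) 0
  · simpa using congrFun (congrFun h 1) 1

theorem smul_mk2 (ε a b c d : K) : ε • !![a, b; c, d] = !![ε * a, ε * b; ε * c, ε * d] := by
  ext i j
  fin_cases i <;> fin_cases j <;> simp

theorem sq_eq_one_cases {p : K} (h : p * p = 1) : p = 1 ∨ p = -1 := by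
  have h2 : (p - 1) * (p + 1) = 0 := by ring_nf; rw [← sq] at h; rw [h]; ring
  rcases mul_eq_zero.1 h2 with h3 | h3
  · left; exact sub_eq_zero.1 h3
  · right; exact eq_neg_of_add_eq_zero_left h3

variable [CharP K 3]

/-- the elements of `SL₂(K)` commuting up to sign with `w` and `x` -/
theorem sl2_cent_four (g : Matrix.SpecialLinearGroup (Fin 2) K) {ε₁ ε₂ : K}
    (h1 : ε₁ = 1 ∨ ε₁ = -1) (h2 : ε₂ = 1 ∨ ε₂ = -1)
    (hA : (g : Matrix (Fin 2) (Fin 2) K) * !![0, 1; -1, 0] =
      ε₁ • (!![0, 1; -1, 0] * (g : Matrix (Fin 2) (Fin 2) K)))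
    (hB : (g : Matrix (Fin 2) (Fin 2) K) * !![1, 1; 1, -1] =
      ε₂ • (!![1, 1; 1, -1] * (g : Matrix (Fin 2) (Fin 2) K))) :
    g = 1 ∨ g = negOneSL K ∨ g = wSL 1 ∨ g = negOneSL K * wSL 1 ∨ g = x1SL K ∨
      g = negOneSL K * x1SL K ∨ g = wSL 1 * x1SL K ∨ g = negOneSL K * (wSL 1 * x1SL K) := by
  have h3 : (3 : K) = 0 := three_eq_zero
  have hd := sl2_det g
  obtain ⟨p, hp⟩ : ∃ p, p = (g : Matrix (Fin 2) (Fin 2) K) 0 0 := ⟨_, rfl⟩
  obtain ⟨q, hq⟩ : ∃ q, q = (g : Matrix (Fin 2) (Fin 2) K) 0 1 := ⟨_, rfl⟩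
  obtain ⟨r, hr⟩ : ∃ r, r = (g : Matrix (Fin 2) (Fin 2) K) 1 0 := ⟨_, rfl⟩
  obtain ⟨s, hs⟩ : ∃ s, s = (g : Matrix (Fin 2) (Fin 2) K) 1 1 := ⟨_, rfl⟩
  have hg : (g : Matrix (Fin 2) (Fin 2) K) = !![p, q; r, s] := by
    rw [hp, hq, hr, hs]; exact Matrix.eta_fin_two _
  rw [← hp, ← hq, ← hr, ← hs] at hd
  rw [hg, Matrix.mul_fin_two, Matrix.mul_fin_two, smul_mk2] at hA hB
  obtain ⟨a1, a2, a3, a4⟩ := mk2_inj hA
  obtain ⟨b1, b2, b3, b4⟩ := mk2_inj hB
  have key : ∀ (g' : Matrix.SpecialLinearGroup (Fin 2) K) (p' q' r' s' : K),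
      (g' : Matrix (Fin 2) (Fin 2) K) = !![p', q'; r', s'] → p = p' → q = q' → r = r' → s = s' →
      g = g' := by
    intro g' p' q' r' s' hg' e1 e2 e3 e4
    apply Subtype.ext
    rw [hg, hg', e1, e2, e3, e4]
  have c1 : ((1 : Matrix.SpecialLinearGroup (Fin 2) K) : Matrix (Fin 2) (Fin 2) K) = !![1, 0; 0, 1] := by
    rw [Matrix.SpecialLinearGroup.coe_one]
    exact Matrix.one_fin_two
  have c2 : ((negOneSL K * wSL 1 : Matrix.SpecialLinearGroup (Fin 2) K) : Matrix (Fin 2) (Fin 2) K) =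
      !![0, -1; 1, 0] := by
    rw [Matrix.SpecialLinearGroup.coe_mul, negOneSL_coe, wSL_one_coe, Matrix.mul_fin_two]
    apply Cfsg.Agent.Helper2.St2.mk2_eq <;> ring
  have c3 : ((negOneSL K * x1SL K : Matrix.SpecialLinearGroup (Fin 2) K) : Matrix (Fin 2) (Fin 2) K) =
      !![-1, -1; -1, 1] := by
    rw [Matrix.SpecialLinearGroup.coe_mul, negOneSL_coe, x1SL_coe, Matrix.mul_fin_two]
    apply Cfsg.Agent.Helper2.St2.mk2_eq <;> ring
  have c4 : ((wSL 1 * x1SL K : Matrix.SpecialLinearGroup (Fin 2) K) : Matrix (Fin 2) (Fin 2) K) =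
      !![1, -1; -1, -1] := by
    rw [Matrix.SpecialLinearGroup.coe_mul, x1SL_coe, wSL_one_coe, Matrix.mul_fin_two]
    apply Cfsg.Agent.Helper2.St2.mk2_eq <;> ring
  have c5 : ((negOneSL K * (wSL 1 * x1SL K) : Matrix.SpecialLinearGroup (Fin 2) K) :
      Matrix (Fin 2) (Fin 2) K) = !![-1, 1; 1, 1] := by
    rw [Matrix.SpecialLinearGroup.coe_mul, c4, negOneSL_coe, Matrix.mul_fin_two]
    apply Cfsg.Agent.Helper2.St2.mk2_eq <;> ring
  rcases h1 with rfl | rfl <;> rcases h2 with rfl | rfl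
  · -- (+,+)
    have hq0 : q = 0 := by linear_combination (-1 : K) * (b1 - a1) + q * h3
    have hr0 : r = 0 := by linear_combination (-1 : K) * a1 - hq0
    have hsp : s = p := by linear_combination (-1 : K) * a2
    have hpp : p * p = 1 := by linear_combination hd - p * hsp + r * hq0
    rcases sq_eq_one_cases hpp with h | h
    · left
      exact key 1 1 0 0 1 c1 h hq0 hr0 (by rw [hsp, h])
    · right; left
      exact key _ (-1) 0 0 (-1) negOneSL_coe h hq0 hr0 (by rw [hsp, h])
  · -- (+,-)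
    have hp0 : p = 0 := by linear_combination (-1 : K) * b2 + (-1 : K) * a2 + p * h3
    have hs0 : s = 0 := by linear_combination hp0 - a2
    have hrq : r = -q := by linear_combination (-1 : K) * a1
    have hqq : q * q = 1 := by linear_combination hd - s * hp0 + q * hrq
    rcases sq_eq_one_cases hqq with h | h
    · right; right; left
      exact key _ 0 1 (-1) 0 wSL_one_coe hp0 h (by rw [hrq, h]) hs0
    · right; right; right; left
      exact key _ 0 (-1) 1 0 c2 hp0 h (by rw [hrq, h, neg_neg]) hs0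
  · -- (-,+)
    have hrq : r = q := by linear_combination a1
    have hsp : s = -p := by linear_combination a2
    have hpq : p = q := by linear_combination (-1 : K) * b2 - hsp + (p - q) * h3
    have hpp : p * p = 1 := by
      rw [hsp, hrq, ← hpq] at hd
      linear_combination hd + p * p * h3
    rcases sq_eq_one_cases hpp with h | h
    · right; right; right; right; left
      exact key _ 1 1 1 (-1) x1SL_coe h (by rw [← hpq, h]) (by rw [hrq, ← hpq, h]) (by rw [hsp, h])
    · right; right; right; right; right; left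
      exact key _ (-1) (-1) (-1) 1 c3 h (by rw [← hpq, h]) (by rw [hrq, ← hpq, h])
        (by rw [hsp, h, neg_neg])
  · -- (-,-)
    have hrq : r = q := by linear_combination a1
    have hsp : s = -p := by linear_combination a2
    have hqp : q = -p := by linear_combination (-1 : K) * b1 + hrq + (p + q) * h3
    have hpp : p * p = 1 := by
      rw [hsp, hrq, hqp] at hd
      linear_combination hd + p * p * h3
    rcases sq_eq_one_cases hpp with h | h
    · right; right; right; right; right; right; left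
      exact key _ 1 (-1) (-1) (-1) c4 h (by rw [hqp, h]) (by rw [hrq, hqp, h]) (by rw [hsp, h])
    · right; right; right; right; right; right; right
      exact key _ (-1) 1 1 1 c5 h (by rw [hqp, h, neg_neg]) (by rw [hrq, hqp, h, neg_neg])
        (by rw [hsp, h, neg_neg])

/-- conjugation by the unitriangular element of order `3` -/
theorem y_conj_w : upperSL (1 : K) * wSL 1 = negOneSL K * x1SL K * upperSL 1 := by
  have h3 : (3 : K) = 0 := three_eq_zero
  apply Subtype.ext
  rw [Matrix.SpecialLinearGroup.coe_mul, Matrix.SpecialLinearGroup.coe_mul,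
    Matrix.SpecialLinearGroup.coe_mul, upperSL_coe, wSL_one_coe, negOneSL_coe, x1SL_coe,
    Matrix.mul_fin_two, Matrix.mul_fin_two, Matrix.mul_fin_two]
  apply Cfsg.Agent.Helper2.St2.mk2_eq
  · ring
  · linear_combination h3
  · ring
  · ring

theorem y_conj_x : upperSL (1 : K) * x1SL K = x1SL K * wSL 1 * upperSL 1 := by
  have h3 : (3 : K) = 0 := three_eq_zero
  apply Subtype.ext
  rw [Matrix.SpecialLinearGroup.coe_mul, Matrix.SpecialLinearGroup.coe_mul,
    Matrix.SpecialLinearGroup.coe_mul, upperSL_coe, wSL_one_coe, x1SL_coe,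
    Matrix.mul_fin_two, Matrix.mul_fin_two, Matrix.mul_fin_two]
  apply Cfsg.Agent.Helper2.St2.mk2_eq
  · linear_combination h3
  · ring
  · ring
  · linear_combination (-1 : K) * h3

omit [CharP K 3] in
/-- two elements of `SL₂(K)` commuting modulo the centre commute up to sign -/
theorem sl2_comm_mod_center {g h : Matrix.SpecialLinearGroup (Fin 2) K}
    (hz : g * h * (h * g)⁻¹ ∈ Subgroup.center (Matrix.SpecialLinearGroup (Fin 2) K)) :
    ∃ ε : K, (ε = 1 ∨ ε = -1) ∧
      (g : Matrix (Fin 2) (Fin 2) K) * (h : Matrix (Fin 2) (Fin 2) K) =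
        ε • ((h : Matrix (Fin 2) (Fin 2) K) * (g : Matrix (Fin 2) (Fin 2) K)) := by
  obtain ⟨z, hzdef⟩ : ∃ z, z = g * h * (h * g)⁻¹ := ⟨_, rfl⟩
  rw [← hzdef] at hz
  have e : g * h = z * (h * g) := by rw [hzdef]; group
  rw [Matrix.SpecialLinearGroup.mem_center_iff] at hz
  obtain ⟨r, hr, hrz⟩ := hz
  rw [Fintype.card_fin] at hr
  refine ⟨r, sq_eq_one_cases (by rw [← sq]; exact hr), ?_⟩
  have e' := congrArg (fun x : Matrix.SpecialLinearGroup (Fin 2) K => (x : Matrix (Fin 2) (Fin 2) K)) e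
  simp only [Matrix.SpecialLinearGroup.coe_mul] at e'
  rw [e', ← hrz, Matrix.scalar_apply, ← Matrix.smul_eq_diagonal_mul]

end Cfsg.Agent.Helper6.Ree
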