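import Mathlib

set_option autoImplicit false
set_option linter.unusedSectionVars false
set_option linter.unusedVariables false
set_option linter.unusedSimpArgs false

/-!
Abstract group theory for the normaliser of an elementary abelian Sylow `2`-subgroup of order `8`:
a transfer argument, fusion, and the order of `GL₃(2)`.
-/

namespace Cfsg.Agent.Helper6.Ree

open MulAction Subgroup

/-- In a perfect group, an involution `u` has a conjugate in a subgroup `H` of odd index lying in the
kernel of a given homomorphism from `H` to the group of order `2`. -/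
theorem exists_conj_ker_of_perfect {G : Type*} [Group G] [Finite G] (hG : commutator G = ⊤)
    (H : Subgroup G) (hodd : Odd H.index) (ϕ : H →* Multiplicative (ZMod 2)) (u : G)
    (hu : u * u = 1) : ∃ k : G, ∃ hk : k⁻¹ * u * k ∈ H, ϕ ⟨k⁻¹ * u * k, hk⟩ = 1 := by
  classical
  by_contra hcon
  push Not at hcon
  have hσ : ∀ x : Multiplicative (ZMod 2), x ≠ 1 → x = Multiplicative.ofAdd 1 := by decide
  have hσ2 : (Multiplicative.ofAdd (1 : ZMod 2)) ^ 2 = 1 := by decide
  have hσ1 : (Multiplicative.ofAdd (1 : ZMod 2)) ≠ 1 := by decide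
  have ht : MonoidHom.transfer ϕ u = 1 := by
    have h1 : commutator G ≤ (MonoidHom.transfer ϕ).ker := Abelianization.commutator_subset_ker _
    rw [hG] at h1
    exact h1 (mem_top u)
  letI : Fintype (Quotient (orbitRel (zpowers u) (G ⧸ H))) := Fintype.ofFinite _
  rw [MonoidHom.transfer_eq_prod_quotient_orbitRel_zpowers_quot] at ht
  have hfac : ∀ q : Quotient (orbitRel (zpowers u) (G ⧸ H)),
      ϕ ⟨q.out.out⁻¹ * u ^ Function.minimalPeriod (u • ·) q.out * q.out.out,
        QuotientGroup.out_conj_pow_minimalPeriod_mem H u q.out⟩ =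
      (Multiplicative.ofAdd (1 : ZMod 2)) ^ Function.minimalPeriod (u • ·) q.out := by
    intro q
    have hper : Function.IsPeriodicPt (u • · : G ⧸ H → G ⧸ H) 2 q.out := by
      show (u • · : G ⧸ H → G ⧸ H)^[2] q.out = q.out
      simp only [Function.iterate_succ, Function.iterate_zero, Function.comp_apply, id_eq]
      rw [← mul_smul, hu, one_smul]
    have hdvd := hper.minimalPeriod_dvd
    rcases (Nat.dvd_prime Nat.prime_two).1 hdvd with h | h
    · have hmem : q.out.out⁻¹ * u * q.out.out ∈ H := by
        have := QuotientGroup.out_conj_pow_minimalPeriod_mem H u q.out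
        rwa [h, pow_one] at this
      have e : (⟨q.out.out⁻¹ * u ^ Function.minimalPeriod (u • ·) q.out * q.out.out,
          QuotientGroup.out_conj_pow_minimalPeriod_mem H u q.out⟩ : H) =
          ⟨q.out.out⁻¹ * u * q.out.out, hmem⟩ := by
        apply Subtype.ext
        show q.out.out⁻¹ * u ^ Function.minimalPeriod (u • ·) q.out * q.out.out = _
        rw [h, pow_one]
      rw [e, h, pow_one]
      exact hσ _ (hcon _ hmem)
    · have e : (⟨q.out.out⁻¹ * u ^ Function.minimalPeriod (u • ·) q.out * q.out.out,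
          QuotientGroup.out_conj_pow_minimalPeriod_mem H u q.out⟩ : H) = 1 := by
        apply Subtype.ext
        show q.out.out⁻¹ * u ^ Function.minimalPeriod (u • ·) q.out * q.out.out = 1
        rw [h, pow_two, hu, mul_one, inv_mul_cancel]
      rw [e, map_one, h, hσ2]
  rw [Finset.prod_congr rfl (fun q _ => hfac q), Finset.prod_pow_eq_pow_sum,
    ← index_eq_sum_minimalPeriod H u] at ht
  obtain ⟨j, hj⟩ := hodd
  rw [hj, pow_succ, pow_mul, hσ2, one_pow, one_mul] at ht
  exact hσ1 ht

/-- In a perfect group with an abelian Sylow `2`-subgroup `S`, an involution of `S` outside the kernel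
of a homomorphism `S → Z₂` is moved by the normaliser of `S`. -/
theorem exists_normalizer_moving {G : Type*} [Group G] [Finite G] (hperf : commutator G = ⊤)
    (S : Sylow 2 G) [IsMulCommutative S] (ϕ : (S : Subgroup G) →* Multiplicative (ZMod 2)) (a : G)
    (haS : a ∈ S) (ha2 : a * a = 1) (hϕ : ϕ ⟨a, haS⟩ ≠ 1) :
    ∃ n ∈ normalizer ((S : Subgroup G) : Set G), n⁻¹ * a * n ≠ a := by
  have : Fact (Nat.Prime 2) := ⟨Nat.prime_two⟩
  have hodd : Odd (S : Subgroup G).index := by
    rw [← Nat.not_even_iff_odd, even_iff_two_dvd]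
    exact S.not_dvd_index
  obtain ⟨k, hk, hk1⟩ := exists_conj_ker_of_perfect hperf (S : Subgroup G) hodd ϕ a ha2
  obtain ⟨n, hn, e⟩ := S.conj_eq_normalizer_conj_of_mem a k haS hk
  refine ⟨n, hn, ?_⟩
  intro h
  apply hϕ
  have : (⟨a, haS⟩ : (S : Subgroup G)) = ⟨k⁻¹ * a * k, hk⟩ := by
    apply Subtype.ext
    show a = k⁻¹ * a * k
    rw [e, h]
  rw [this]
  exact hk1

open Matrix in
/-- the order of the automorphism group of an elementary abelian group of order `8` -/
theorem card_mulAut_eight :
    Nat.card (MulAut (Multiplicative (Fin 3 → ZMod 2))) = 168 := by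
  have e1 : Nat.card (MulAut (Multiplicative (Fin 3 → ZMod 2))) =
      Nat.card ((Fin 3 → ZMod 2) ≃+ (Fin 3 → ZMod 2)) :=
    Nat.card_congr (AddEquiv.toMultiplicative.symm)
  let e2 : ((Fin 3 → ZMod 2) ≃+ (Fin 3 → ZMod 2)) ≃ ((Fin 3 → ZMod 2) ≃ₗ[ZMod 2] (Fin 3 → ZMod 2)) :=
    { toFun := fun f => { f with map_smul' := fun c x => ZMod.map_smul f c x }
      invFun := fun l => l.toAddEquiv
      left_inv := fun f => by ext; rfl
      right_inv := fun l => by ext; rfl }
  let e3 : ((Fin 3 → ZMod 2) ≃ₗ[ZMod 2] (Fin 3 → ZMod 2)) ≃ GL (Fin 3) (ZMod 2) :=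
    (LinearMap.GeneralLinearGroup.generalLinearEquiv (ZMod 2) (Fin 3 → ZMod 2)).symm.toEquiv.trans
      Matrix.GeneralLinearGroup.toLin.symm.toEquiv
  rw [e1, Nat.card_congr (e2.trans e3), Matrix.card_GL_field, ZMod.card, Fin.prod_univ_three]
  norm_num

/-- the model of the elementary abelian group of order `8` -/
abbrev M3 : Type := Multiplicative (ZMod 2) × (Multiplicative (ZMod 2) × Multiplicative (ZMod 2))

/-- the two models agree -/
def m3Equiv : Multiplicative (Fin 3 → ZMod 2) ≃* M3 where
  toFun v := (Multiplicative.ofAdd (v.toAdd 0), (Multiplicative.ofAdd (v.toAdd 1),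
    Multiplicative.ofAdd (v.toAdd 2)))
  invFun x := Multiplicative.ofAdd ![x.1.toAdd, x.2.1.toAdd, x.2.2.toAdd]
  left_inv v := by
    apply Multiplicative.toAdd.injective
    funext i
    fin_cases i <;> rfl
  right_inv x := rfl
  map_mul' v w := rfl

theorem card_mulAut_of_equiv {X : Type*} [Group X] (e : X ≃* M3) : Nat.card (MulAut X) = 168 := by
  rw [Nat.card_congr (MulAut.congr (e.trans m3Equiv.symm)).toEquiv, card_mulAut_eight]

theorem card_M3 : Nat.card M3 = 8 := by
  simp [Nat.card_eq_fintype_card]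

/-- the order of the normaliser of a self-centralising elementary abelian Sylow `2`-subgroup of order
`8`, normalised by an element of order `3` centralising an involution which is moved by the
normaliser -/
theorem normalizer_card_168 {G : Type*} [Group G] [Finite G] (S : Sylow 2 G)
    (e : (S : Subgroup G) ≃* M3) (hcent : centralizer ((S : Subgroup G) : Set G) = S) {r : ℕ} (hr : Odd r)
    (hG : Nat.card G = 8 * r) (a y : G) (haS : a ∈ S) (hy : y ∈ normalizer ((S : Subgroup G) : Set G))
    (hy3 : orderOf y = 3) (hya : Commute y a)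
    (hfus : ∃ n ∈ normalizer ((S : Subgroup G) : Set G), n⁻¹ * a * n ≠ a) :
    Nat.card (normalizer ((S : Subgroup G) : Set G)) = 168 := by
  have hS8 : Nat.card (S : Subgroup G) = 8 := by rw [Nat.card_congr e.toEquiv, card_M3]
  have hSN : (S : Subgroup G) ≤ normalizer ((S : Subgroup G) : Set G) := le_normalizer
  obtain ⟨k, hk⟩ : ∃ k, k = ((S : Subgroup G).subgroupOf (normalizer ((S : Subgroup G) : Set G))).index := ⟨_, rfl⟩
  have hN : Nat.card (normalizer ((S : Subgroup G) : Set G)) = 8 * k := by
    rw [← Subgroup.card_mul_index ((S : Subgroup G).subgroupOf (normalizer ((S : Subgroup G) : Set G))), ← hk,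
      Nat.card_congr (Subgroup.subgroupOfEquivOfLe hSN).toEquiv, hS8]
  -- `k` divides `168`
  have h1 : k ∣ 168 := by
    have key := Subgroup.card_dvd_of_injective _
      (QuotientGroup.kerLift_injective (S : Subgroup G).normalizerMonoidHom)
    rw [Subgroup.normalizerMonoidHom_ker, ← Subgroup.index, hcent, ← hk, card_mulAut_of_equiv e] at key
    exact key
  -- `k` is odd
  have h2 : Odd k := by
    have hdvd : Nat.card (normalizer ((S : Subgroup G) : Set G)) ∣ Nat.card G := Subgroup.card_subgroup_dvd_card _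
    rw [hN, hG] at hdvd
    have : k ∣ r := Nat.dvd_of_mul_dvd_mul_left (by norm_num) hdvd
    exact Odd.of_dvd_nat hr this
  -- `3` divides `k`
  have h3 : 3 ∣ k := by
    have ho : orderOf (⟨y, hy⟩ : normalizer ((S : Subgroup G) : Set G)) = 3 := by
      rw [← hy3]
      exact Subgroup.orderOf_mk y hy
    have hdvd : 3 ∣ Nat.card (normalizer ((S : Subgroup G) : Set G)) := by
      rw [← ho]; exact orderOf_dvd_natCard _
    rw [hN] at hdvd
    exact (Nat.Coprime.dvd_mul_left (by norm_num : Nat.Coprime 3 8)).1 hdvd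
  -- `k ≠ 3`
  have h4 : k ≠ 3 := by
    intro hk3
    rw [hk3] at hN
    obtain ⟨n, hn, hne⟩ := hfus
    apply hne
    have hT : (S : Subgroup G) ⊔ zpowers y ≤ normalizer ((S : Subgroup G) : Set G) :=
      sup_le hSN (by rw [zpowers_le]; exact hy)
    have hTc : (S : Subgroup G) ⊔ zpowers y ≤ centralizer {a} := by
      apply sup_le
      · intro x hx
        rw [mem_centralizer_singleton_iff]
        have hx' : x ∈ centralizer ((S : Subgroup G) : Set G) := by rw [hcent]; exact hx
        exact (hx' a haS).symm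
      · rw [zpowers_le, mem_centralizer_singleton_iff]
        exact hya.eq
    have hcardT : 24 ∣ Nat.card ((S : Subgroup G) ⊔ zpowers y : Subgroup G) := by
      have d1 : 8 ∣ Nat.card ((S : Subgroup G) ⊔ zpowers y : Subgroup G) := by
        rw [← hS8]; exact Subgroup.card_dvd_of_le le_sup_left
      have d2 : 3 ∣ Nat.card ((S : Subgroup G) ⊔ zpowers y : Subgroup G) := by
        rw [← hy3, ← Nat.card_zpowers]; exact Subgroup.card_dvd_of_le le_sup_right
      exact Nat.Coprime.mul_dvd_of_dvd_of_dvd (by norm_num : Nat.Coprime 8 3) d1 d2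
    have hTN : (S : Subgroup G) ⊔ zpowers y = normalizer ((S : Subgroup G) : Set G) := by
      apply Subgroup.eq_of_le_of_card_ge hT
      rw [hN]
      exact Nat.le_of_dvd (Nat.card_pos) hcardT
    have hn' : n ∈ centralizer {a} := hTc (hTN ▸ hn)
    rw [mem_centralizer_singleton_iff] at hn'
    rw [mul_assoc, ← hn', inv_mul_cancel_left]
  have hk21 : k = 21 := by
    have hle : k ≤ 168 := Nat.le_of_dvd (by norm_num) h1
    obtain ⟨j, hj⟩ := h3
    have hj' : j ≤ 56 := by omega
    subst hj
    interval_cases j <;> first | omega | (exfalso; revert h1; decide) | (exfalso; revert h2; decide)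
  rw [hN, hk21]

section homs

variable {G : Type*} [Group G]

theorem ofAdd_one_ne_one : (Multiplicative.ofAdd (1 : ZMod 2)) ≠ 1 := by decide

theorem zmod2_cases (x : Multiplicative (ZMod 2)) : x = 1 ∨ x = Multiplicative.ofAdd 1 := by
  revert x; decide

/-- the homomorphism from the group of order `2` defined by an involution -/
def zmod2Hom (a : G) (ha : a * a = 1) : Multiplicative (ZMod 2) →* G where
  toFun x := if x = 1 then 1 else a
  map_one' := if_pos rfl
  map_mul' := by
    have hne : (Multiplicative.ofAdd (1 : ZMod 2)) ≠ 1 := by decide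
    have hsq : (Multiplicative.ofAdd (1 : ZMod 2)) * Multiplicative.ofAdd 1 = 1 := by decide
    intro x y
    rcases zmod2_cases x with rfl | rfl <;> rcases zmod2_cases y with rfl | rfl
    · simp
    · simp [hne]
    · simp [hne]
    · rw [hsq]; simp [hne, ha]

theorem zmod2Hom_gen (a : G) (ha : a * a = 1) : zmod2Hom a ha (Multiplicative.ofAdd 1) = a := by
  have hne : (Multiplicative.ofAdd (1 : ZMod 2)) ≠ 1 := by decide
  show (if Multiplicative.ofAdd (1 : ZMod 2) = 1 then 1 else a) = a
  rw [if_neg hne]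

theorem zmod2Hom_cases (a : G) (ha : a * a = 1) (x : Multiplicative (ZMod 2)) :
    zmod2Hom a ha x = 1 ∨ zmod2Hom a ha x = a := by
  rcases zmod2_cases x with rfl | rfl
  · left; exact map_one _
  · right; exact zmod2Hom_gen a ha

variable (a b c : G) (ha : a * a = 1) (hb : b * b = 1) (hc : c * c = 1) (hab : Commute a b)
  (hac : Commute a c) (hbc : Commute b c)

theorem zmod2Hom_commute {a b : G} (ha : a * a = 1) (hb : b * b = 1) (hab : Commute a b)
    (x y : Multiplicative (ZMod 2)) : Commute (zmod2Hom a ha x) (zmod2Hom b hb y) := by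
  rcases zmod2Hom_cases a ha x with h | h <;> rcases zmod2Hom_cases b hb y with h' | h'
  · rw [h]; exact Commute.one_left _
  · rw [h]; exact Commute.one_left _
  · rw [h']; exact Commute.one_right _
  · rw [h, h']; exact hab

/-- the homomorphism from the elementary abelian group of order `8` defined by three commuting
involutions -/
def m3Hom : M3 →* G :=
  MonoidHom.noncommCoprod (zmod2Hom a ha)
    (MonoidHom.noncommCoprod (zmod2Hom b hb) (zmod2Hom c hc) (zmod2Hom_commute hb hc hbc))
    (fun x p => (zmod2Hom_commute ha hb hab x p.1).mul_right (zmod2Hom_commute ha hc hac x p.2))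

theorem m3Hom_apply (i j k : Multiplicative (ZMod 2)) :
    m3Hom a b c ha hb hc hab hac hbc (i, (j, k)) =
      zmod2Hom a ha i * (zmod2Hom b hb j * zmod2Hom c hc k) := rfl

theorem m3Hom_injective (h1 : b ≠ 1) (h2 : c ≠ 1) (h3 : b * c ≠ 1) (h4 : a ≠ 1) (h5 : a * b ≠ 1)
    (h6 : a * c ≠ 1) (h7 : a * (b * c) ≠ 1) :
    Function.Injective (m3Hom a b c ha hb hc hab hac hbc) := by
  rw [injective_iff_map_eq_one]
  rintro ⟨i, j, k⟩ h
  rw [m3Hom_apply] at h
  rcases zmod2_cases i with rfl | rfl <;> rcases zmod2_cases j with rfl | rfl <;>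
    rcases zmod2_cases k with rfl | rfl
  · rfl
  · rw [map_one (zmod2Hom a ha), map_one (zmod2Hom b hb), zmod2Hom_gen, one_mul, one_mul] at h
    exact absurd h h2
  · rw [map_one (zmod2Hom a ha), map_one (zmod2Hom c hc), zmod2Hom_gen, one_mul, mul_one] at h
    exact absurd h h1
  · rw [map_one (zmod2Hom a ha), zmod2Hom_gen, zmod2Hom_gen, one_mul] at h
    exact absurd h h3
  · rw [map_one (zmod2Hom b hb), map_one (zmod2Hom c hc), zmod2Hom_gen, one_mul, mul_one] at h
    exact absurd h h4
  · rw [map_one (zmod2Hom b hb), zmod2Hom_gen, zmod2Hom_gen, one_mul] at h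
    exact absurd h h6
  · rw [map_one (zmod2Hom c hc), zmod2Hom_gen, zmod2Hom_gen, mul_one] at h
    exact absurd h h5
  · rw [zmod2Hom_gen, zmod2Hom_gen, zmod2Hom_gen] at h
    exact absurd h h7

theorem mem_range_m3Hom_of (i j k : Multiplicative (ZMod 2)) :
    zmod2Hom a ha i * (zmod2Hom b hb j * zmod2Hom c hc k) ∈
      (m3Hom a b c ha hb hc hab hac hbc).range := ⟨(i, (j, k)), rfl⟩

theorem gen_a_mem : a ∈ (m3Hom a b c ha hb hc hab hac hbc).range := by
  have := mem_range_m3Hom_of a b c ha hb hc hab hac hbc (Multiplicative.ofAdd 1) 1 1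
  rwa [map_one (zmod2Hom b hb), map_one (zmod2Hom c hc), zmod2Hom_gen, mul_one, mul_one] at this

theorem gen_b_mem : b ∈ (m3Hom a b c ha hb hc hab hac hbc).range := by
  have := mem_range_m3Hom_of a b c ha hb hc hab hac hbc 1 (Multiplicative.ofAdd 1) 1
  rwa [map_one (zmod2Hom a ha), map_one (zmod2Hom c hc), zmod2Hom_gen, mul_one, one_mul] at this

theorem gen_c_mem : c ∈ (m3Hom a b c ha hb hc hab hac hbc).range := by
  have := mem_range_m3Hom_of a b c ha hb hc hab hac hbc 1 1 (Multiplicative.ofAdd 1)
  rwa [map_one (zmod2Hom a ha), map_one (zmod2Hom b hb), zmod2Hom_gen, one_mul, one_mul] at this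

/-- a subgroup containing the three involutions contains the range -/
theorem range_m3Hom_le {T : Subgroup G} (hTa : a ∈ T) (hTb : b ∈ T) (hTc : c ∈ T) :
    (m3Hom a b c ha hb hc hab hac hbc).range ≤ T := by
  rintro _ ⟨⟨i, j, k⟩, rfl⟩
  rw [m3Hom_apply]
  have h : ∀ (z : G) (hz : z * z = 1), z ∈ T → ∀ x, zmod2Hom z hz x ∈ T := by
    intro z hz hzT x
    rcases zmod2Hom_cases z hz x with h | h
    · rw [h]; exact T.one_mem
    · rw [h]; exact hzT
  exact T.mul_mem (h a ha hTa i) (T.mul_mem (h b hb hTb j) (h c hc hTc k))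

end homs

/-- the centraliser of the image of a set under an isomorphism -/
theorem centralizer_image_equiv {G N : Type*} [Group G] [Group N] (s : Set G) (f : G ≃* N) :
    centralizer (f '' s) = (centralizer s).map f.toMonoidHom := by
  ext x
  constructor
  · intro hx
    refine ⟨f.symm x, ?_, by simp⟩
    intro h hh
    apply f.injective
    rw [map_mul, map_mul, f.apply_symm_apply]
    exact hx (f h) ⟨h, hh, rfl⟩
  · rintro ⟨y, hy, rfl⟩
    rintro _ ⟨h, hh, rfl⟩
    show f h * f y = f y * f h
    rw [← map_mul, ← map_mul, hy h hh]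

theorem factorization_two_of_card {n r : ℕ} (hr : Odd r) (hn : n = 8 * r) : n.factorization 2 = 3 := by
  have hr0 : r ≠ 0 := by
    rintro rfl
    exact (by decide : ¬ Odd 0) hr
  rw [hn, show (8 : ℕ) = 2 ^ 3 by norm_num, Nat.factorization_mul (by norm_num) hr0,
    Nat.Prime.factorization_pow Nat.prime_two]
  have : r.factorization 2 = 0 := by
    apply Nat.factorization_eq_zero_of_not_dvd
    rw [Nat.two_dvd_ne_zero]
    exact Nat.odd_iff.1 hr
  simp [this]

end Cfsg.Agent.Helper6.Ree
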