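import Mathlib
import Cfsg.Agent.Helper6.Ree.G2SylA
import Cfsg.Agent.Helper6.Ree.G2SylB
import Cfsg.Agent.Helper6.Ree.G2Perfect

set_option autoImplicit false
set_option linter.unusedSectionVars false
set_option linter.unusedVariables false
set_option linter.unusedSimpArgs false

/-!
The normaliser of a Sylow `2`-subgroup of `²G₂(K)`.
-/

namespace Cfsg.Agent.Helper6.Ree

open Cfsg.Lie Cfsg.Agent.Helper6 Cfsg.Agent.Helper2.St2F Cfsg.Agent.Helper2.ChevSL2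

variable {K : Type*} [Field K] {m : ℕ}

namespace InvHom

variable (Φ : InvHom K m)

/-- the homomorphism `SL₂(K) → G¹` -/
noncomputable def φG : Matrix.SpecialLinearGroup (Fin 2) K →* ↥(twistedG2 K (3 ^ m)) :=
  Φ.φ.codRestrict (twistedG2 K (3 ^ m)) Φ.mem_twisted

theorem φG_coe (g : Matrix.SpecialLinearGroup (Fin 2) K) :
    ((Φ.φG g : ↥(twistedG2 K (3 ^ m))) : GL chevG2.Idx K) = Φ.φ g := rfl

variable [Fintype K]

theorem φG_eq_one_iff (C : ReeCtx K m) (hK : Fintype.card K = 3 ^ (2 * m + 1))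
    (g : Matrix.SpecialLinearGroup (Fin 2) K) :
    Φ.φG g = 1 ↔ g ∈ Subgroup.center (Matrix.SpecialLinearGroup (Fin 2) K) := by
  rw [← Φ.ker_eq C hK, MonoidHom.mem_ker, Subtype.ext_iff]
  rfl

theorem φG_negOne (C : ReeCtx K m) (hK : Fintype.card K = 3 ^ (2 * m + 1)) :
    Φ.φG (negOneSL K) = 1 := (Φ.φG_eq_one_iff C hK _).2 negOneSL_mem_center

theorem φG_ne_one (C : ReeCtx K m) (hK : Fintype.card K = 3 ^ (2 * m + 1))
    {g : Matrix.SpecialLinearGroup (Fin 2) K} (h : (g : Matrix (Fin 2) (Fin 2) K) 0 1 ≠ 0) :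
    Φ.φG g ≠ 1 := by
  rw [Ne, Φ.φG_eq_one_iff C hK]
  exact not_mem_center_of_ne_zero h

end InvHom

namespace ReeCtx

variable (C : ReeCtx K m) [Fintype K]

/-- the involution `h(-1)` as an element of `G¹` -/
noncomputable def aG (hK : Fintype.card K = 3 ^ (2 * m + 1)) : ↥(twistedG2 K (3 ^ m)) :=
  ⟨hwHom K m (-1), C.hw_mem_twisted hK _⟩

theorem aG_coe (hK : Fintype.card K = 3 ^ (2 * m + 1)) :
    ((C.aG hK : ↥(twistedG2 K (3 ^ m))) : GL chevG2.Idx K) = hwHom K m (-1) := rfl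

theorem aG_sq (hK : Fintype.card K = 3 ^ (2 * m + 1)) : C.aG hK * C.aG hK = 1 := by
  apply Subtype.ext
  show hwHom K m (-1) * hwHom K m (-1) = 1
  rw [← map_mul]; simp

theorem aG_ne_one (hK : Fintype.card K = 3 ^ (2 * m + 1)) : C.aG hK ≠ 1 := by
  intro h
  exact C.hw_neg_one_ne_one (congrArg Subtype.val h)

end ReeCtx

namespace InvHom

variable (Φ : InvHom K m) [Fintype K] (C : ReeCtx K m) (hK : Fintype.card K = 3 ^ (2 * m + 1))

theorem aG_commute (g : Matrix.SpecialLinearGroup (Fin 2) K) : Commute (C.aG hK) (Φ.φG g) := by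
  apply Subtype.ext
  exact (Φ.comm_neg_one g).eq

theorem aG_mul_ne_one (g : Matrix.SpecialLinearGroup (Fin 2) K) : C.aG hK * Φ.φG g ≠ 1 := by
  intro h
  apply Φ.neg_one_not_mem_range C hK
  refine ⟨g⁻¹, ?_⟩
  have h' := congrArg Subtype.val h
  rw [map_inv]
  exact (eq_inv_of_mul_eq_one_left h').symm

/-- the centraliser of the involution -/
theorem cent_aG {x : ↥(twistedG2 K (3 ^ m))} (hx : Commute (C.aG hK) x) :
    ∃ g, x = Φ.φG g ∨ x = C.aG hK * Φ.φG g := by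
  have hL : (x : GL chevG2.Idx K) ∈ Φ.L :=
    (Φ.mem_L_iff_cent C hK).2 ⟨x.2, congrArg Subtype.val hx.eq⟩
  rcases (Φ.mem_L_iff C).1 hL with ⟨g, hg⟩ | ⟨_, ⟨g, rfl⟩, hg⟩
  · exact ⟨g, Or.inl (Subtype.ext hg.symm)⟩
  · exact ⟨g, Or.inr (Subtype.ext hg)⟩

end InvHom

namespace InvHom

variable (Φ : InvHom K m) [Fintype K] (C : ReeCtx K m) (hK : Fintype.card K = 3 ^ (2 * m + 1))

include C hK

theorem bG_sq : Φ.φG (wSL 1) * Φ.φG (wSL 1) = 1 := by
  rw [← map_mul]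
  haveI := C.char3
  rw [wSL_sq, Φ.φG_negOne C hK]

theorem cG_sq [CharP K 3] : Φ.φG (x1SL K) * Φ.φG (x1SL K) = 1 := by
  rw [← map_mul, x1SL_sq, Φ.φG_negOne C hK]

theorem bG_cG_comm [CharP K 3] : Commute (Φ.φG (wSL 1)) (Φ.φG (x1SL K)) := by
  show Φ.φG (wSL 1) * Φ.φG (x1SL K) = Φ.φG (x1SL K) * Φ.φG (wSL 1)
  rw [← map_mul, ← map_mul, x1_mul_w, map_mul Φ.φG (negOneSL K), Φ.φG_negOne C hK, one_mul]

/-- the elementary abelian subgroup of order `8` -/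
noncomputable def S0 [CharP K 3] : Subgroup ↥(twistedG2 K (3 ^ m)) :=
  (m3Hom (C.aG hK) (Φ.φG (wSL 1)) (Φ.φG (x1SL K)) (C.aG_sq hK) (Φ.bG_sq C hK) (Φ.cG_sq C hK)
    (Φ.aG_commute C hK _) (Φ.aG_commute C hK _) (Φ.bG_cG_comm C hK)).range

theorem S0_inj [CharP K 3] : Function.Injective
    (m3Hom (C.aG hK) (Φ.φG (wSL 1)) (Φ.φG (x1SL K)) (C.aG_sq hK) (Φ.bG_sq C hK) (Φ.cG_sq C hK)
      (Φ.aG_commute C hK _) (Φ.aG_commute C hK _) (Φ.bG_cG_comm C hK)) := by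
  apply m3Hom_injective
  · apply Φ.φG_ne_one C hK
    rw [wSL_one_coe]; simp
  · apply Φ.φG_ne_one C hK
    rw [x1SL_coe]; simp
  · rw [← map_mul]
    apply Φ.φG_ne_one C hK
    rw [w_mul_x1_entry]; simp
  · exact C.aG_ne_one hK
  · exact Φ.aG_mul_ne_one C hK _
  · exact Φ.aG_mul_ne_one C hK _
  · rw [← map_mul]
    exact Φ.aG_mul_ne_one C hK _

theorem aG_mem_S0 [CharP K 3] : C.aG hK ∈ Φ.S0 C hK := gen_a_mem _ _ _ _ _ _ _ _ _

theorem bG_mem_S0 [CharP K 3] : Φ.φG (wSL 1) ∈ Φ.S0 C hK := gen_b_mem _ _ _ _ _ _ _ _ _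

theorem cG_mem_S0 [CharP K 3] : Φ.φG (x1SL K) ∈ Φ.S0 C hK := gen_c_mem _ _ _ _ _ _ _ _ _

theorem card_S0 [CharP K 3] : Nat.card (Φ.S0 C hK) = 8 := by
  unfold S0
  rw [← Nat.card_congr (MonoidHom.ofInjective (Φ.S0_inj C hK)).toEquiv, card_M3]

theorem S0_commute [CharP K 3] {x y : ↥(twistedG2 K (3 ^ m))} (hx : x ∈ Φ.S0 C hK)
    (hy : y ∈ Φ.S0 C hK) : x * y = y * x := by
  obtain ⟨u, rfl⟩ := hx
  obtain ⟨v, rfl⟩ := hy
  rw [← map_mul, ← map_mul, mul_comm]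

/-- the centraliser of `S₀` -/
theorem centralizer_S0 [CharP K 3] :
    Subgroup.centralizer ((Φ.S0 C hK : Subgroup ↥(twistedG2 K (3 ^ m))) : Set ↥(twistedG2 K (3 ^ m))) =
      Φ.S0 C hK := by
  apply le_antisymm
  · intro x hx
    rw [Subgroup.mem_centralizer_iff] at hx
    have h1 := hx _ (Φ.aG_mem_S0 C hK)
    have h2 := hx _ (Φ.bG_mem_S0 C hK)
    have h3 := hx _ (Φ.cG_mem_S0 C hK)
    obtain ⟨g, hg⟩ := Φ.cent_aG C hK (x := x) h1
    -- `φ(g)` commutes with `b` and `c`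
    have hcomm : ∀ t, Φ.φG t * x = x * Φ.φG t → Φ.φG t * Φ.φG g = Φ.φG g * Φ.φG t := by
      intro t ht
      rcases hg with rfl | rfl
      · exact ht
      · have e := (Φ.aG_commute C hK t).eq
        have : C.aG hK * (Φ.φG t * Φ.φG g) = C.aG hK * (Φ.φG g * Φ.φG t) := by
          rw [← mul_assoc, e, mul_assoc, ht, mul_assoc]
        exact mul_left_cancel this
    have key : ∀ t, Φ.φG t * Φ.φG g = Φ.φG g * Φ.φG t →
        g * t * (t * g)⁻¹ ∈ Subgroup.center (Matrix.SpecialLinearGroup (Fin 2) K) := by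
      intro t ht
      rw [← Φ.φG_eq_one_iff C hK, map_mul, map_inv, map_mul, map_mul, ht, mul_inv_cancel]
    obtain ⟨ε₁, hε₁, e₁⟩ := sl2_comm_mod_center (key _ (hcomm _ h2))
    obtain ⟨ε₂, hε₂, e₂⟩ := sl2_comm_mod_center (key _ (hcomm _ h3))
    rw [wSL_one_coe] at e₁
    rw [x1SL_coe] at e₂
    have hgS : Φ.φG g ∈ Φ.S0 C hK := by
      have hn := Φ.φG_negOne C hK
      rcases sl2_cent_four g hε₁ hε₂ e₁ e₂ with h | h | h | h | h | h | h | h
      · rw [h, map_one]; exact Subgroup.one_mem _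
      · rw [h, hn]; exact Subgroup.one_mem _
      · rw [h]; exact Φ.bG_mem_S0 C hK
      · rw [h, map_mul, hn, one_mul]; exact Φ.bG_mem_S0 C hK
      · rw [h]; exact Φ.cG_mem_S0 C hK
      · rw [h, map_mul, hn, one_mul]; exact Φ.cG_mem_S0 C hK
      · rw [h, map_mul]; exact Subgroup.mul_mem _ (Φ.bG_mem_S0 C hK) (Φ.cG_mem_S0 C hK)
      · rw [h, map_mul, map_mul, hn, one_mul]
        exact Subgroup.mul_mem _ (Φ.bG_mem_S0 C hK) (Φ.cG_mem_S0 C hK)
    rcases hg with rfl | rfl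
    · exact hgS
    · exact Subgroup.mul_mem _ (Φ.aG_mem_S0 C hK) hgS
  · intro x hx
    rw [Subgroup.mem_centralizer_iff]
    intro y hy
    exact Φ.S0_commute C hK hy hx

end InvHom

theorem upperSL_zero : upperSL (0 : K) = 1 := by
  apply Subtype.ext
  rw [upperSL_coe]
  ext i j
  fin_cases i <;> fin_cases j <;> simp

theorem upperSL_add (t u : K) : upperSL t * upperSL u = upperSL (t + u) :=
  Cfsg.Agent.Helper2.St2.gen_add true t u

theorem upperSL_one_pow_three [CharP K 3] : upperSL (1 : K) ^ 3 = 1 := by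
  rw [pow_succ, pow_two, upperSL_add, upperSL_add]
  have : (1 : K) + 1 + 1 = 0 := by
    have h3 : (3 : K) = 0 := three_eq_zero
    linear_combination h3
  rw [this, upperSL_zero]

namespace InvHom

variable (Φ : InvHom K m) [Fintype K] (C : ReeCtx K m) (hK : Fintype.card K = 3 ^ (2 * m + 1))

include C hK

theorem orderOf_yG [CharP K 3] : orderOf (Φ.φG (upperSL 1)) = 3 := by
  have : Fact (Nat.Prime 3) := ⟨Nat.prime_three⟩
  apply orderOf_eq_prime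
  · rw [← map_pow, upperSL_one_pow_three, map_one]
  · apply Φ.φG_ne_one C hK
    rw [upperSL_coe]; simp

/-- conjugation by `y` preserves `S₀` -/
theorem yG_conj_mem [CharP K 3] {h : ↥(twistedG2 K (3 ^ m))} (hh : h ∈ Φ.S0 C hK) :
    Φ.φG (upperSL 1) * h * (Φ.φG (upperSL 1))⁻¹ ∈ Φ.S0 C hK := by
  have hle : Φ.S0 C hK ≤ (Φ.S0 C hK).comap (MulAut.conj (Φ.φG (upperSL 1))).toMonoidHom := by
    apply range_m3Hom_le
    · rw [Subgroup.mem_comap]
      show Φ.φG (upperSL 1) * C.aG hK * (Φ.φG (upperSL 1))⁻¹ ∈ Φ.S0 C hK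
      rw [← (Φ.aG_commute C hK _).eq, mul_inv_cancel_right]
      exact Φ.aG_mem_S0 C hK
    · rw [Subgroup.mem_comap]
      show Φ.φG (upperSL 1) * Φ.φG (wSL 1) * (Φ.φG (upperSL 1))⁻¹ ∈ Φ.S0 C hK
      rw [← map_mul, y_conj_w, map_mul, mul_inv_cancel_right, map_mul, Φ.φG_negOne C hK, one_mul]
      exact Φ.cG_mem_S0 C hK
    · rw [Subgroup.mem_comap]
      show Φ.φG (upperSL 1) * Φ.φG (x1SL K) * (Φ.φG (upperSL 1))⁻¹ ∈ Φ.S0 C hK
      rw [← map_mul, y_conj_x, map_mul, mul_inv_cancel_right, map_mul]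
      exact Subgroup.mul_mem _ (Φ.cG_mem_S0 C hK) (Φ.bG_mem_S0 C hK)
  exact hle hh

theorem yG_mem_normalizer [CharP K 3] :
    Φ.φG (upperSL 1) ∈ Subgroup.normalizer
      ((Φ.S0 C hK : Subgroup ↥(twistedG2 K (3 ^ m))) : Set ↥(twistedG2 K (3 ^ m))) := by
  rw [Subgroup.mem_normalizer_iff]
  intro h
  constructor
  · exact fun hh => Φ.yG_conj_mem C hK hh
  · intro hh
    have h2 := Φ.yG_conj_mem C hK (Φ.yG_conj_mem C hK hh)
    have h3 : Φ.φG (upperSL 1) ^ 3 = 1 := by rw [← map_pow, upperSL_one_pow_three, map_one]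
    obtain ⟨y, hy⟩ : ∃ y, y = Φ.φG (upperSL 1) := ⟨_, rfl⟩
    rw [← hy] at h2 h3
    have e : y * (y * (y * h * y⁻¹) * y⁻¹) * y⁻¹ = y ^ 3 * h * (y ^ 3)⁻¹ := by
      rw [pow_succ, pow_two]
      simp only [mul_inv_rev, mul_assoc]
    rw [e, h3, one_mul, inv_one, mul_one] at h2
    exact h2

include Φ in
/-- the centraliser and the normaliser of a Sylow `2`-subgroup -/
theorem sylow_two_normalizer (hm : 1 ≤ m) (S : Sylow 2 ↥(twistedG2 K (3 ^ m))) :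
    Subgroup.centralizer ((S : Subgroup ↥(twistedG2 K (3 ^ m))) : Set ↥(twistedG2 K (3 ^ m))) = S ∧
      Nat.card (Subgroup.normalizer
        ((S : Subgroup ↥(twistedG2 K (3 ^ m))) : Set ↥(twistedG2 K (3 ^ m)))) = 168 := by
  classical
  haveI := C.char3
  have : Fact (Nat.Prime 2) := ⟨Nat.prime_two⟩
  obtain ⟨r, hr, hG⟩ := card_ree_two_part m
  have hcardG : Nat.card ↥(twistedG2 K (3 ^ m)) = 8 * r := by rw [C.card_ree hK, hG]
  have hfac := factorization_two_of_card hr hcardG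
  -- the Sylow subgroup `S₀`
  obtain ⟨P, hP⟩ : ∃ P : Sylow 2 ↥(twistedG2 K (3 ^ m)),
      (P : Subgroup ↥(twistedG2 K (3 ^ m))) = Φ.S0 C hK :=
    ⟨Sylow.ofCard (Φ.S0 C hK) (by rw [Φ.card_S0 C hK, hfac]; norm_num), Sylow.coe_ofCard _ _⟩
  have hcent : Subgroup.centralizer ((P : Subgroup ↥(twistedG2 K (3 ^ m))) :
      Set ↥(twistedG2 K (3 ^ m))) = P := by
    rw [hP]; exact Φ.centralizer_S0 C hK
  have hcomm : IsMulCommutative ↥(P : Subgroup ↥(twistedG2 K (3 ^ m))) := by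
    refine ⟨⟨fun x y => ?_⟩⟩
    apply Subtype.ext
    have hx : (x : ↥(twistedG2 K (3 ^ m))) ∈ Φ.S0 C hK := by rw [← hP]; exact x.2
    have hy : (y : ↥(twistedG2 K (3 ^ m))) ∈ Φ.S0 C hK := by rw [← hP]; exact y.2
    exact Φ.S0_commute C hK hx hy
  have haP : C.aG hK ∈ P := by
    show C.aG hK ∈ (P : Subgroup ↥(twistedG2 K (3 ^ m)))
    rw [hP]; exact Φ.aG_mem_S0 C hK
  -- the isomorphism with the model
  let e₀ : ↥(Φ.S0 C hK) ≃* M3 := (MonoidHom.ofInjective (Φ.S0_inj C hK)).symm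
  let e : ↥(P : Subgroup ↥(twistedG2 K (3 ^ m))) ≃* M3 := (MulEquiv.subgroupCongr hP).trans e₀
  have hea : e ⟨C.aG hK, haP⟩ = (Multiplicative.ofAdd 1, (1, 1)) := by
    apply e.symm.injective
    rw [e.symm_apply_apply]
    apply Subtype.ext
    show C.aG hK = m3Hom (C.aG hK) (Φ.φG (wSL 1)) (Φ.φG (x1SL K)) (C.aG_sq hK) (Φ.bG_sq C hK)
      (Φ.cG_sq C hK) (Φ.aG_commute C hK _) (Φ.aG_commute C hK _) (Φ.bG_cG_comm C hK)
      (Multiplicative.ofAdd 1, (1, 1))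
    rw [m3Hom_apply, zmod2Hom_gen, map_one, map_one, mul_one, mul_one]
  let ϕ : ↥(P : Subgroup ↥(twistedG2 K (3 ^ m))) →* Multiplicative (ZMod 2) :=
    (MonoidHom.fst _ _).comp e.toMonoidHom
  have hϕ : ϕ ⟨C.aG hK, haP⟩ ≠ 1 := by
    show (e ⟨C.aG hK, haP⟩).1 ≠ 1
    rw [hea]
    exact ofAdd_one_ne_one
  have hfus := exists_normalizer_moving (C.perfect hK hm) P ϕ (C.aG hK) haP (C.aG_sq hK) hϕ
  have hyN : Φ.φG (upperSL 1) ∈ Subgroup.normalizer
      ((P : Subgroup ↥(twistedG2 K (3 ^ m))) : Set ↥(twistedG2 K (3 ^ m))) := by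
    rw [hP]; exact Φ.yG_mem_normalizer C hK
  have h168 := normalizer_card_168 P e hcent hr hcardG (C.aG hK) (Φ.φG (upperSL 1)) haP hyN
    (Φ.orderOf_yG C hK) (Φ.aG_commute C hK _).symm hfus
  -- transport to an arbitrary Sylow subgroup
  obtain ⟨g, rfl⟩ := MulAction.exists_smul_eq ↥(twistedG2 K (3 ^ m)) P S
  have hmap : ((g • P : Sylow 2 ↥(twistedG2 K (3 ^ m))) : Subgroup ↥(twistedG2 K (3 ^ m))) =
      (P : Subgroup ↥(twistedG2 K (3 ^ m))).map (MulAut.conj g).toMonoidHom := by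
    rw [Sylow.coe_subgroup_smul]
    rfl
  rw [hmap]
  constructor
  · rw [Subgroup.coe_map]
    have := centralizer_image_equiv ((P : Subgroup ↥(twistedG2 K (3 ^ m))) :
      Set ↥(twistedG2 K (3 ^ m))) (MulAut.conj g)
    rw [hcent] at this
    exact this
  · rw [← Subgroup.map_equiv_normalizer_eq,
      Subgroup.card_map_of_injective (MulAut.conj g).injective, h168]

end InvHom

end Cfsg.Agent.Helper6.Ree
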